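import Cfsg.Agent.SimpleFacts.SingerCentre.SixForm
import Mathlib.RingTheory.Polynomial.Cyclotomic.Expand

/-!
A Weyl group element of type E6 with a primitive twelfth root of unity as eigenvalue has characteristic
polynomial `Φ₁₂ Φ₃`.
-/

set_option autoImplicit false

open scoped Matrix
open Polynomial

namespace Cfsg.Agent.SimpleFacts.SingerCentre.Six

open Cfsg.Lie Cfsg.Agent.Chevalley Cfsg.Agent.Chevalley.TorusCard Cfsg.Agent.Chevalley.Singer
  Cfsg.Agent.Chevalley.WeylGroup Cfsg.Agent.Chevalley.Cert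

section General

variable {l : ℕ}

/-- A primitive residue as eigenvalue gives a cyclotomic factor. -/
theorem cyclotomic_dvd {M : Matrix (Fin l) (Fin l) ℤ} {m r q d : ℕ} [Fact r.Prime]
    (hm : M ^ m = 1) (hrm : ¬ r ∣ m) (hd : orderOf (q : ZMod r) = d)
    {v : Fin l → ZMod r} (hv0 : v ≠ 0) (hv : v ᵥ* M.map Int.cast = (q : ZMod r) • v) :
    cyclotomic d ℤ ∣ M.charpoly := by
  have hm0 : 0 < m := Nat.pos_of_ne_zero fun h => hrm (h ▸ dvd_zero r)
  have hdm : d ∣ m := by
    rw [← hd]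
    refine orderOf_dvd_of_pow_eq_one ?_
    have h := vecMul_pow hv m
    rw [show M.map (Int.cast : ℤ → ZMod r) ^ m = 1 by
      have h2 := (map_pow (Int.castRingHom (ZMod r)).mapMatrix M m).symm
      rw [hm, map_one] at h2
      exact h2, Matrix.vecMul_one] at h
    obtain ⟨i, hi⟩ := Function.ne_iff.1 hv0
    have h3 := congrFun h i
    rw [Pi.smul_apply, smul_eq_mul] at h3
    exact mul_eq_right₀ hi |>.1 h3.symm
  have hd0 : 0 < d := Nat.pos_of_dvd_of_pos hdm hm0
  obtain ⟨g, hg⟩ : ∃ g, g = ∏ e ∈ m.divisors.erase d, cyclotomic e ℤ := ⟨_, rfl⟩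
  have hprod : cyclotomic d ℤ * g = X ^ m - 1 := by
    rw [hg, Finset.mul_prod_erase m.divisors (fun e => cyclotomic e ℤ)
      (Nat.mem_divisors.2 ⟨hdm, hm0.ne'⟩)]
    exact prod_cyclotomic_eq_X_pow_sub_one hm0 ℤ
  have hsing : (aeval M (cyclotomic d ℤ)).det = 0 := by
    by_contra hne
    have h1 : aeval M (cyclotomic d ℤ) * aeval M g = 0 := by
      rw [← map_mul, hprod, map_sub, map_pow, aeval_X, map_one, hm, sub_self]
    have h2 := congrArg ((aeval M (cyclotomic d ℤ)).adjugate * ·) h1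
    simp only [← mul_assoc, Matrix.adjugate_mul, Matrix.smul_mul, Matrix.one_mul, mul_zero] at h2
    have hg0 : aeval M g = 0 := by
      rcases smul_eq_zero.1 h2 with h | h
      exacts [absurd h hne, h]
    have h3 := vecMul_aeval hv (g.map (Int.castRingHom (ZMod r)))
    rw [← map_aeval, hg0, Matrix.map_zero _ Int.cast_zero, Matrix.vecMul_zero, eq_comm,
      smul_eq_zero] at h3
    rcases h3 with h3 | h3
    swap
    · exact hv0 h3
    rw [hg, Polynomial.map_prod, eval_prod, Finset.prod_eq_zero_iff] at h3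
    obtain ⟨e, he, he0⟩ := h3
    rw [Finset.mem_erase, Nat.mem_divisors] at he
    rw [map_cyclotomic] at he0
    have : NeZero (e : ZMod r) := ⟨fun h0 => hrm (((ZMod.natCast_eq_zero_iff _ _).1 h0).trans he.2.1)⟩
    exact he.1 (((isRoot_cyclotomic_iff.1 he0).eq_orderOf).trans hd)
  obtain ⟨MQ, hMQ⟩ : ∃ MQ, MQ = M.map (Int.cast : ℤ → ℚ) := ⟨_, rfl⟩
  have hdvd : cyclotomic d ℚ ∣ MQ.charpoly := by
    rcases (cyclotomic.irreducible_rat hd0).isCoprime_or_dvd MQ.charpoly with h | h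
    swap
    · exact h
    obtain ⟨a, b, hab⟩ := h
    have h1 := congrArg (aeval MQ) hab
    rw [map_add, map_mul, map_mul, Matrix.aeval_self_charpoly, mul_zero, add_zero, map_one] at h1
    have h2 := congrArg Matrix.det h1
    have h3 : (aeval MQ (cyclotomic d ℚ)).det = 0 := by
      rw [hMQ, ← map_cyclotomic d (Int.castRingHom ℚ), ← map_aeval]
      have h4 := congrArg (Int.castRingHom ℚ) hsing
      rw [RingHom.map_det, map_zero] at h4
      exact h4
    rw [Matrix.det_mul, h3, mul_zero, Matrix.det_one] at h2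
    exact absurd h2 zero_ne_one
  refine (Polynomial.map_dvd_map (Int.castRingHom ℚ) Int.cast_injective (cyclotomic.monic d ℤ)).1 ?_
  rwa [map_cyclotomic, ← Matrix.charpoly_map,
    show M.map (Int.castRingHom ℚ) = MQ from hMQ.symm]

/-- A complex root of the characteristic polynomial is an eigenvalue. -/
theorem exists_eigen {M : Matrix (Fin l) (Fin l) ℤ} {x : ℂ}
    (hx : (M.charpoly.map (Int.castRingHom ℂ)).IsRoot x) :
    ∃ u : Fin l → ℂ, u ≠ 0 ∧ M.map (Int.cast : ℤ → ℂ) *ᵥ u = x • u := by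
  rw [IsRoot, ← Matrix.charpoly_map, Matrix.eval_charpoly] at hx
  obtain ⟨u, hu, he⟩ := Matrix.exists_mulVec_eq_zero_iff.2 hx
  refine ⟨u, hu, ?_⟩
  rw [Matrix.sub_mulVec, sub_eq_zero] at he
  rw [show M.map (Int.cast : ℤ → ℂ) = M.map (Int.castRingHom ℂ) from rfl, ← he]
  funext i
  simp [Matrix.scalar_apply, Matrix.mulVec_diagonal]

theorem aeval_eigen {A : Matrix (Fin l) (Fin l) ℂ} {u : Fin l → ℂ} {x : ℂ} (h : A *ᵥ u = x • u)
    (p : ℂ[X]) : aeval A p *ᵥ u = p.eval x • u := by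
  have hpow : ∀ k : ℕ, A ^ k *ᵥ u = x ^ k • u := by
    intro k
    induction k with
    | zero => simp
    | succ k ih => rw [pow_succ, ← Matrix.mulVec_mulVec, h, Matrix.mulVec_smul, ih, smul_smul, pow_succ']
  induction p using Polynomial.induction_on' with
  | add p₁ p₂ h1 h2 => rw [map_add, Matrix.add_mulVec, h1, h2, eval_add, add_smul]
  | monomial n a =>
    rw [aeval_monomial, eval_monomial, Algebra.algebraMap_eq_smul_one, Matrix.smul_mul,
      Matrix.one_mul, Matrix.smul_mulVec, hpow, smul_smul]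

/-- A factor of the characteristic polynomial gives a singular matrix. -/
theorem exists_kernel {M : Matrix (Fin l) (Fin l) ℤ} {g : ℤ[X]} (hg : g ∣ M.charpoly)
    (hmonic : g.Monic) (hdeg : g.natDegree ≠ 0) :
    ∃ u : Fin l → ℤ, u ≠ 0 ∧ aeval M g *ᵥ u = 0 := by
  obtain ⟨x, hx⟩ := IsAlgClosed.exists_root (g.map (Int.castRingHom ℂ)) (by
    rw [degree_map_eq_of_injective (Int.cast_injective (α := ℂ)), degree_eq_natDegree hmonic.ne_zero]
    exact_mod_cast hdeg)
  obtain ⟨u, hu, he⟩ := exists_eigen (M := M) (hx.dvd (Polynomial.map_dvd _ hg))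
  refine Matrix.exists_mulVec_eq_zero_iff.2 ?_
  have h1 : ((aeval M g).map (Int.cast : ℤ → ℂ)).det = 0 := by
    refine Matrix.exists_mulVec_eq_zero_iff.1 ⟨u, hu, ?_⟩
    rw [map_aeval, aeval_eigen he, show (g.map (Int.castRingHom ℂ)).eval x = 0 from hx, zero_smul]
  have h2 : (((aeval M g).det : ℤ) : ℂ) = ((aeval M g).map (Int.cast : ℤ → ℂ)).det :=
    RingHom.map_det (Int.castRingHom ℂ) _
  rw [h1] at h2
  exact_mod_cast h2

theorem root_unity {M : Matrix (Fin l) (Fin l) ℤ} {m : ℕ} (hm : M ^ m = 1) {x : ℂ}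
    (hx : (M.charpoly.map (Int.castRingHom ℂ)).IsRoot x) : x ^ m = 1 := by
  obtain ⟨u, hu, he⟩ := exists_eigen hx
  have h1 := aeval_eigen he (X ^ m : ℂ[X])
  rw [map_pow, aeval_X, eval_pow, eval_X,
    show M.map (Int.cast : ℤ → ℂ) ^ m = 1 by
      have h2 := (map_pow (Int.castRingHom ℂ).mapMatrix M m).symm
      rw [hm, map_one] at h2
      exact h2, Matrix.one_mulVec] at h1
  obtain ⟨i, hi⟩ := Function.ne_iff.1 hu
  have h3 := congrFun h1 i
  rw [Pi.smul_apply, smul_eq_mul] at h3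
  exact mul_eq_right₀ hi |>.1 h3.symm

end General

/-- The properties used of a matrix of a word. -/
structure IsWd (M : Matrix (Fin 6) (Fin 6) ℤ) : Prop where
  iso : Mᵀ * SM * M = SM
  fin : ∃ m, 0 < m ∧ M ^ m = 1
  modQ : ∀ x, InQ (x - M *ᵥ x)

theorem simp6_eq (j : Fin 6) : simp6 j = lam chevE6 (chevE6.simple j) := by
  funext i
  rw [simp6, Matrix.mulVec_single_one, Matrix.col_apply,
    show CM i j = CMᵀ i j by rw [CM_symm], Matrix.transpose_apply, ← cartan_eq]
  rfl

/-- The matrix of a word. -/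
def M6 (L : List ℕ) : Matrix (Fin 6) (Fin 6) ℤ := wMat chevE6 L

theorem M6_cons (i : ℕ) (L : List ℕ) (x : V) {hi : i < 6} :
    M6 (i :: L) *ᵥ x = M6 L *ᵥ x - (M6 L *ᵥ x) ⟨i, hi⟩ • simp6 ⟨i, hi⟩ := by
  have h1 : M6 (i :: L) = (1 - Matrix.vecMulVec (simp6 ⟨i, hi⟩)
      (fun k : Fin 6 => if (k : ℕ) = i then 1 else 0)) * M6 L := by
    rw [simp6_eq]; rfl
  rw [h1, ← Matrix.mulVec_mulVec, Matrix.sub_mulVec, Matrix.one_mulVec, Matrix.vecMulVec_mulVec]
  have hdot : (fun k : Fin 6 => if (k : ℕ) = i then (1 : ℤ) else 0) ⬝ᵥ M6 L *ᵥ x =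
      (M6 L *ᵥ x) ⟨i, hi⟩ := delta_dot (D := chevE6) hi _
  rw [hdot]
  funext j
  simp [mul_comm]

theorem isWd_wMat {L : List ℕ} (hL : ∀ i ∈ L, i < chevE6.rank) : IsWd (M6 L) := by
  have hC := Cfsg.Agent.Chevalley.Types.E6.certified
  refine ⟨?_, ?_, ?_⟩
  · have h := wMat_isometry hC hL
    rwa [show (corMat chevE6)ᵀ * corMat chevE6 = SM from corS_eq] at h
  · have hd : (cartanMat chevE6).det ≠ 0 := by
      have h : (cartanMat chevE6).det = 3 := (congrArg Matrix.det cartan_eq).trans det_CM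
      rw [h]; norm_num
    exact ⟨_, Nat.card_pos, wMat_pow_card hC hd hL⟩
  · induction L with
    | nil =>
      intro x
      have e : M6 [] = 1 := rfl
      rw [e, Matrix.one_mulVec, sub_self]
      exact inQ_zero
    | cons i L ih =>
      intro x
      have hi : i < 6 := hL i List.mem_cons_self
      have h2 := (ih (fun j hj => hL j (List.mem_cons_of_mem i hj)) x).add
        ((simp6_inQ ⟨i, hi⟩).smul ((M6 L *ᵥ x) ⟨i, hi⟩))
      rw [M6_cons (hi := hi)]
      convert h2 using 1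
      abel

variable {M : Matrix (Fin 6) (Fin 6) ℤ}

/-- The value of a polynomial in `M` at a vector. -/
noncomputable def app (M : Matrix (Fin 6) (Fin 6) ℤ) (p : ℤ[X]) (x : V) : V := aeval M p *ᵥ x

theorem app_mul (p g : ℤ[X]) (x : V) : app M (p * g) x = app M p (app M g x) := by
  rw [app, app, app, map_mul, Matrix.mulVec_mulVec]

theorem app_add (p g : ℤ[X]) (x : V) : app M (p + g) x = app M p x + app M g x := by
  rw [app, app, app, map_add, Matrix.add_mulVec]

theorem app_one (x : V) : app M 1 x = x := by rw [app, map_one, Matrix.one_mulVec]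

theorem app_zero_right (p : ℤ[X]) : app M p 0 = 0 := Matrix.mulVec_zero _

theorem app_charpoly (x : V) : app M M.charpoly x = 0 := by
  rw [app, Matrix.aeval_self_charpoly, Matrix.zero_mulVec]

variable (hM : IsWd M)
include hM

theorem sB_M (x y : V) : sB (M *ᵥ x) (M *ᵥ y) = sB x y := by
  rw [sB, sB, Matrix.mulVec_mulVec, ← Matrix.vecMul_transpose, ← Matrix.dotProduct_mulVec,
    Matrix.mulVec_mulVec, ← mul_assoc, hM.iso]

theorem sB_pow (k : ℕ) (x y : V) : sB (M ^ k *ᵥ x) (M ^ k *ᵥ y) = sB x y := by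
  induction k with
  | zero => simp
  | succ k ih =>
    rw [pow_succ', ← Matrix.mulVec_mulVec, ← Matrix.mulVec_mulVec, sB_M hM, ih]

theorem M_inQ {x : V} (hx : InQ x) : InQ (M *ᵥ x) := by
  have := hx.sub (hM.modQ x)
  rwa [sub_sub_cancel] at this

theorem pow_inQ (k : ℕ) {x : V} (hx : InQ x) : InQ (M ^ k *ᵥ x) := by
  induction k with
  | zero => simpa
  | succ k ih => rw [pow_succ', ← Matrix.mulVec_mulVec]; exact M_inQ hM ih

theorem app_inQ (p : ℤ[X]) {x : V} (hx : InQ x) : InQ (app M p x) := by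
  induction p using Polynomial.induction_on' with
  | add p₁ p₂ h1 h2 => rw [app_add]; exact h1.add h2
  | monomial n a =>
    rw [app, aeval_monomial, Algebra.algebraMap_eq_smul_one, Matrix.smul_mul, Matrix.one_mul,
      Matrix.smul_mulVec]
    exact (pow_inQ hM n hx).smul a

/-- The orthogonality of the two kinds of vectors. -/
theorem orth_of_periods {u w : V} (hu : M ^ 6 *ᵥ u = -u) (hw : M ^ 6 *ᵥ w = w) : sB u w = 0 := by
  have h := sB_pow hM 6 u w
  rw [hu, hw, sB_neg_left] at h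
  omega

omit hM in
theorem pow6_twelve {u : V} (hu : app M (X ^ 4 - X ^ 2 + 1) u = 0) : M ^ 6 *ᵥ u = -u := by
  have h : app M ((X ^ 2 + 1) * (X ^ 4 - X ^ 2 + 1)) u = 0 := by
    rw [app_mul, hu, app_zero_right]
  rw [show ((X : ℤ[X]) ^ 2 + 1) * (X ^ 4 - X ^ 2 + 1) = X ^ 6 + 1 by ring, app, map_add, map_pow,
    aeval_X, map_one, Matrix.add_mulVec, Matrix.one_mulVec] at h
  exact eq_neg_of_add_eq_zero_left h

omit hM in
theorem cyclotomic_twelve : (cyclotomic 12 ℤ : ℤ[X]) = X ^ 4 - X ^ 2 + 1 := by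
  have hx : ∀ x : ℤ, (cyclotomic 12 ℤ).eval x * (x ^ 2 + 1) = x ^ 6 + 1 := fun x => by
    have h := congrArg (eval x) (cyclotomic_expand_eq_cyclotomic (p := 2) (n := 6) Nat.prime_two
      (by norm_num) ℤ)
    rw [expand_eval, show 6 * 2 = 12 from rfl] at h
    have h6 := eval_cyclotomic_six (x ^ 2)
    rw [h] at h6
    linear_combination h6
  refine mul_right_cancel₀ (b := (X : ℤ[X]) ^ 2 + 1) (fun h => ?_) (Polynomial.funext fun x => ?_)
  · have := congrArg (eval 0) h
    simp at this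
  · simp only [eval_mul, eval_add, eval_sub, eval_pow, eval_X, eval_one, hx x]
    ring

/-- Only the factor `Φ₁₂ Φ₃` occurs. -/
theorem charpoly_eq_six {r q : ℕ} [Fact r.Prime] (hrm : ∀ m, M ^ m = 1 → 0 < m → ∃ m', M ^ m' = 1 ∧ ¬ r ∣ m')
    (hd : orderOf (q : ZMod r) = 12) {v : Fin 6 → ZMod r} (hv0 : v ≠ 0)
    (hv : v ᵥ* M.map Int.cast = (q : ZMod r) • v) :
    M.charpoly = (X ^ 4 - X ^ 2 + 1) * (X ^ 2 + X + 1) := by
  obtain ⟨m0, hm0, hMm0⟩ := hM.fin
  obtain ⟨m, hm, hrm'⟩ := hrm m0 hMm0 hm0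
  have hmpos : 0 < m := Nat.pos_of_ne_zero fun h => hrm' (h ▸ dvd_zero r)
  obtain ⟨f, hf⟩ := cyclotomic_dvd hm hrm' hd hv0 hv
  rw [cyclotomic_twelve] at hf
  have h12 : (X ^ 4 - X ^ 2 + 1 : ℤ[X]).Monic := cyclotomic_twelve ▸ cyclotomic.monic 12 ℤ
  have hfm : f.Monic := h12.of_mul_monic_left (hf ▸ M.charpoly_monic)
  have hfd : f.natDegree = 2 := by
    have h := M.charpoly_natDegree_eq_dim
    rw [hf, h12.natDegree_mul hfm, Fintype.card_fin,
      show (X ^ 4 - X ^ 2 + 1 : ℤ[X]).natDegree = 4 by compute_degree!] at h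
    omega
  obtain ⟨a, b, rfl⟩ : ∃ a b : ℤ, f = X ^ 2 + C a * X + C b := by
    refine ⟨f.coeff 1, f.coeff 0, ?_⟩
    have h := f.as_sum_range_C_mul_X_pow
    rw [hfd, Finset.sum_range_succ, Finset.sum_range_succ, Finset.sum_range_one] at h
    conv_lhs => rw [h]
    have h2 : f.coeff 2 = 1 := hfd ▸ hfm.coeff_natDegree
    simp [h2]
    ring
  -- the roots have absolute value one
  obtain ⟨hb, ha⟩ : (b = 1 ∨ b = -1) ∧ ((-2 ≤ a ∧ a ≤ 2) ∧ (b = -1 → a = 0)) := by
    obtain ⟨x, hx⟩ := IsAlgClosed.exists_root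
      ((X ^ 2 + C a * X + C b : ℤ[X]).map (Int.castRingHom ℂ)) (by
        rw [degree_map_eq_of_injective (Int.cast_injective (α := ℂ)),
          degree_eq_natDegree hfm.ne_zero, hfd]
        decide)
    have hall : ∀ z : ℂ, z ^ 2 + (a : ℂ) * z + (b : ℂ) = 0 → ‖z‖ = 1 := fun z hz => by
      refine Complex.norm_eq_one_of_pow_eq_one (root_unity hm ?_) hmpos.ne'
      rw [hf, Polynomial.map_mul, IsRoot, eval_mul]
      refine mul_eq_zero_of_right _ ?_
      simpa using hz
    have hx0 : x ^ 2 + (a : ℂ) * x + (b : ℂ) = 0 := by simpa [IsRoot] using hx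
    obtain ⟨y, hy⟩ : ∃ y : ℂ, y = -(a : ℂ) - x := ⟨_, rfl⟩
    have hy0 : y ^ 2 + (a : ℂ) * y + (b : ℂ) = 0 := by rw [hy]; linear_combination hx0
    have hxy : x * y = (b : ℂ) := by rw [hy]; linear_combination -hx0
    have hx1 := hall x hx0
    have hy1 := hall y hy0
    refine ⟨?_, ?_, fun hb => ?_⟩
    · have h := congrArg (fun z : ℂ => ‖z‖) hxy
      simp only [norm_mul, hx1, hy1, mul_one, Complex.norm_intCast] at h
      have h' : |b| = 1 := by exact_mod_cast h.symm
      exact abs_eq zero_le_one |>.1 h'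
    · have h := norm_add_le x y
      rw [show x + y = ((-a : ℤ) : ℂ) by rw [hy]; push_cast; ring, hx1, hy1, Complex.norm_intCast] at h
      have h' : |(-a)| ≤ 2 := by
        have : ((|(-a)| : ℤ) : ℝ) ≤ ((2 : ℤ) : ℝ) := by push_cast at h ⊢; linarith
        exact_mod_cast this
      have := abs_le.1 h'
      omega
    · subst hb
      have hyc : y = -(starRingEnd ℂ) x := by
        have h1 : x * (starRingEnd ℂ) x = 1 := by
          rw [Complex.mul_conj, Complex.normSq_eq_norm_sq, hx1]; simp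
        have hx00 : x ≠ 0 := fun e => by simp [e] at hx1
        refine mul_left_cancel₀ hx00 ?_
        rw [hxy, mul_neg, h1]; simp
      have h := congrArg Complex.re (show x + y = ((-a : ℤ) : ℂ) by rw [hy]; push_cast; ring)
      rw [hyc] at h
      simp at h
      exact_mod_cast h
  -- three divides the value at one
  obtain ⟨N, hN⟩ : ∃ N : Matrix (Fin 6) (Fin 6) ℤ, 1 - M = CM * N := by
    choose z hz using fun j : Fin 6 => hM.modQ (Pi.single j 1)
    refine ⟨Matrix.of fun i j => z j i, Matrix.ext fun i j => ?_⟩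
    have h := congrFun (hz j) i
    rw [Pi.sub_apply, Matrix.mulVec_single_one] at h
    rw [Matrix.sub_apply, Matrix.one_apply]
    simp only [Pi.single_apply, Matrix.col_apply] at h
    rw [h]
    rfl
  have h3 : (3 : ℤ) ∣ 1 + a + b := by
    refine ⟨N.det, ?_⟩
    have h := Matrix.eval_charpoly M 1
    rw [map_one, hN, Matrix.det_mul, det_CM, hf] at h
    simp at h
    linarith
  obtain ⟨ha2, hab⟩ := ha
  by_cases h1 : a = 1 ∧ b = 1
  · rw [hf, h1.1, h1.2]; simp
  exfalso
  -- in the other cases the two parts split the lattice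
  obtain ⟨A, B, hAB, hper⟩ : ∃ A B : ℤ[X],
      A * (X ^ 4 - X ^ 2 + 1) + B * (X ^ 2 + C a * X + C b) = 1 ∧
      ∀ w : V, app M (X ^ 2 + C a * X + C b) w = 0 → M ^ 6 *ᵥ w = w := by
    rcases hb with rfl | rfl
    · have : a = -2 := by omega
      subst this
      refine ⟨3 - 2 * X, 2 * X ^ 3 + X ^ 2 - 2 * X - 2, by simp; ring, fun w hw => ?_⟩
      obtain ⟨d, hd'⟩ : ∃ d, d = M *ᵥ w - w := ⟨_, rfl⟩
      have hMd : M *ᵥ d = d := by
        have e : M *ᵥ d - d = app M (X ^ 2 + C (-2 : ℤ) * X + C 1) w := by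
          rw [hd', app, map_add, map_add, map_mul, map_pow, aeval_X, aeval_C, aeval_C,
            Algebra.algebraMap_eq_smul_one, Algebra.algebraMap_eq_smul_one, Matrix.add_mulVec,
            Matrix.add_mulVec, Matrix.smul_mul, Matrix.one_mul, Matrix.smul_mulVec,
            Matrix.smul_mulVec, Matrix.one_mulVec, pow_two, ← Matrix.mulVec_mulVec,
            Matrix.mulVec_sub, one_smul, neg_smul, two_smul]
          abel
        rw [hw, sub_eq_zero] at e
        exact e
      have hk : ∀ k : ℕ, M ^ k *ᵥ w = w + (k : ℤ) • d := by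
        intro k
        induction k with
        | zero => simp
        | succ k ih =>
          rw [pow_succ', ← Matrix.mulVec_mulVec, ih, Matrix.mulVec_add, Matrix.mulVec_smul, hMd,
            show M *ᵥ w = w + d by rw [hd']; abel]
          push_cast
          rw [add_smul, one_smul]; abel
      have h := hk m
      rw [hm, Matrix.one_mulVec, left_eq_add, smul_eq_zero] at h
      rcases h with h | h
      · omega
      · rw [hk, h, smul_zero, add_zero]
    · obtain rfl := hab rfl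
      refine ⟨1, -X ^ 2, by simp; ring, fun w hw => ?_⟩
      have h2 : M ^ 2 *ᵥ w = w := by
        simp [app, Matrix.sub_mulVec, sub_eq_add_neg, Matrix.add_mulVec, Matrix.neg_mulVec] at hw
        exact add_neg_eq_zero.1 hw
      rw [show M ^ 6 = M ^ 2 * (M ^ 2 * M ^ 2) by rw [← pow_add, ← pow_add], ← Matrix.mulVec_mulVec,
        ← Matrix.mulVec_mulVec, h2, h2, h2]
  obtain ⟨g, hg⟩ : ∃ g : ℤ[X], g = X ^ 2 + C a * X + C b := ⟨_, rfl⟩
  rw [← hg] at hAB hper hf hfm hfd
  have hsum : ∀ x : V, app M (B * g) x = x - app M (A * (X ^ 4 - X ^ 2 + 1)) x := fun x => by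
    rw [eq_sub_iff_add_eq', ← app_add, hAB, app_one]
  have hu : ∀ x : V, app M (X ^ 4 - X ^ 2 + 1) (app M (B * g) x) = 0 := fun x => by
    rw [← app_mul, show (X ^ 4 - X ^ 2 + 1) * (B * g) = B * ((X ^ 4 - X ^ 2 + 1) * g) by ring,
      ← hf, app_mul, app_charpoly, app_zero_right]
  have hw : ∀ x : V, app M g (app M (A * (X ^ 4 - X ^ 2 + 1)) x) = 0 := fun x => by
    rw [← app_mul, show g * (A * (X ^ 4 - X ^ 2 + 1)) = A * ((X ^ 4 - X ^ 2 + 1) * g) by ring,
      ← hf, app_mul, app_charpoly, app_zero_right]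
  have key := no_split (fun i => app M (B * g) (simp6 i)) (fun i => app_inQ hM _ (simp6_inQ i))
    fun i j => by
      rw [hsum (simp6 j), sub_sub_cancel]
      exact orth_of_periods hM (pow6_twelve (hu _)) (hper _ (hw _))
  obtain ⟨u0, hu0, hu0'⟩ := exists_kernel (M := M) (g := X ^ 4 - X ^ 2 + 1) ⟨g, hf⟩ h12
    (by rw [show (X ^ 4 - X ^ 2 + 1 : ℤ[X]).natDegree = 4 by compute_degree!]; norm_num)
  obtain ⟨w0, hw0, hw0'⟩ := exists_kernel (M := M) (g := g) ⟨_, hf.trans (mul_comm _ _)⟩ hfm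
    (by omega)
  rcases key with h | h
  · -- `M ^ 6 = -1`
    refine hw0 (eq_zero_of_orth fun i => ?_)
    rw [← h i]
    exact orth_of_periods hM (pow6_twelve (hu _)) (hper _ hw0')
  · refine hu0 (eq_zero_of_orth fun i => ?_)
    rw [show simp6 i = app M (A * (X ^ 4 - X ^ 2 + 1)) (simp6 i) by
      have := hsum (simp6 i)
      rw [show app M (B * g) (simp6 i) = 0 from h i, eq_comm, sub_eq_zero] at this
      exact this, sB_comm]
    exact orth_of_periods hM (pow6_twelve hu0') (hper _ (hw _))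

end Cfsg.Agent.SimpleFacts.SingerCentre.Six
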