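import Cfsg.Agent.Lib.Chevalley.Singer.Small
import Cfsg.Agent.SimpleFacts.SingerCentre.SixWord

/-!
Arithmetic of the value of the twelfth cyclotomic polynomial and the extension of degree twelve.
-/

set_option autoImplicit false

namespace Cfsg.Agent.SimpleFacts.SingerCentre

open Cfsg.Agent.Chevalley.Singer Polynomial

theorem sq_le_pow_four (q : ℕ) : q ^ 2 ≤ q ^ 4 := by
  rcases Nat.eq_zero_or_pos q with rfl | h
  · simp
  · exact Nat.pow_le_pow_right h (by norm_num)

theorem cast_twelve (q : ℕ) : ((q ^ 4 - q ^ 2 + 1 : ℕ) : ℤ) = (q : ℤ) ^ 4 - (q : ℤ) ^ 2 + 1 := by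
  rw [Nat.cast_add, Nat.cast_sub (sq_le_pow_four q)]
  push_cast
  ring

theorem cast_twelve_zmod (q p : ℕ) :
    ((q ^ 4 - q ^ 2 + 1 : ℕ) : ZMod p) = (q : ZMod p) ^ 4 - (q : ZMod p) ^ 2 + 1 := by
  rw [Nat.cast_add, Nat.cast_sub (sq_le_pow_four q)]
  push_cast
  ring

theorem small_twelve {p : ℕ} (hp : p.Prime) (hlt : p < 13) (q : ℕ) : ¬ p ∣ q ^ 4 - q ^ 2 + 1 := by
  refine zmod_not_dvd ?_
  rw [cast_twelve_zmod]
  generalize (q : ZMod p) = x
  interval_cases p <;> first | exact absurd hp (by decide) | (revert x; decide +kernel)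

theorem exists_primitive (q : ℕ) (hq : 2 ≤ q) :
    ∃ r : ℕ, r.Prime ∧ 13 ≤ r ∧ r ∣ q ^ 4 - q ^ 2 + 1 ∧ orderOf (q : ZMod r) = 12 := by
  have hN : q ^ 4 - q ^ 2 + 1 ≠ 1 := by
    have : q ^ 2 < q ^ 4 := Nat.pow_lt_pow_right (by omega) (by norm_num)
    omega
  obtain ⟨r, hr, hrd⟩ := Nat.exists_prime_and_dvd hN
  have hrb : 13 ≤ r := le_of_not_gt fun h => small_twelve hr h q hrd
  have : Fact r.Prime := ⟨hr⟩
  refine ⟨r, hr, hrb, hrd, ?_⟩
  have : NeZero ((12 : ℕ) : ZMod r) := ⟨fun h => by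
    have := Nat.le_of_dvd (by norm_num) ((ZMod.natCast_eq_zero_iff _ _).1 h); omega⟩
  have h1 : (Polynomial.cyclotomic 12 (ZMod r)).IsRoot (q : ZMod r) := by
    rw [Polynomial.IsRoot, ← Polynomial.map_cyclotomic 12 (Int.castRingHom (ZMod r)),
      Six.cyclotomic_twelve]
    simp only [Polynomial.map_add, Polynomial.map_sub, Polynomial.map_pow, map_X, Polynomial.map_one,
      eval_add, eval_sub, eval_pow, eval_X, eval_one]
    rw [← cast_twelve_zmod, ZMod.natCast_eq_zero_iff]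
    exact hrd
  exact (Polynomial.isRoot_cyclotomic_iff.1 h1).eq_orderOf.symm

/-- The derivative of `Φ₁₂` does not vanish at its roots. -/
theorem twelve_deriv {p : ℕ} [Fact p.Prime] (hp : 5 ≤ p) {x : ZMod p}
    (h : x ^ 4 - x ^ 2 + 1 = 0) : 4 * x ^ 3 - 2 * x ≠ 0 := by
  intro h'
  have key : ∀ n : ℕ, 0 < n → n < 5 → (n : ZMod p) ≠ 0 := fun n h1 h2 e => by
    have := Nat.le_of_dvd h1 ((ZMod.natCast_eq_zero_iff _ _).1 e); omega
  have hx : x ≠ 0 := fun e => by rw [e] at h; simp at h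
  have h2 : 2 * x * (2 * x ^ 2 - 1) = 0 := by linear_combination h'
  have h3 : 2 * x ^ 2 = 1 := by
    rcases mul_eq_zero.1 h2 with h4 | h4
    · exact absurd ((mul_eq_zero.1 h4).resolve_right hx) (by simpa using key 2 (by norm_num) (by norm_num))
    · linear_combination h4
  have h5 : ((3 : ℕ) : ZMod p) = 0 := by
    push_cast
    linear_combination 4 * h - (2 * x ^ 2 - 1) * h3
  exact key 3 (by norm_num) (by norm_num) h5

/-- The extension of degree twelve with its Frobenius map. -/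
theorem exists_extension (F : Type*) [Field F] [Fintype F] {q : ℕ} (hq : Fintype.card F = q) :
    ∃ (K : Type) (_ : Field K) (_ : Fintype K) (f : F →+* K) (σ : K →+* K),
      Fintype.card K = q ^ 12 ∧ (∀ t, σ (f t) = f t) ∧ (∀ t : K, σ t = t → t ∈ Set.range f) ∧
        ∀ x, σ x = x ^ q := by
  classical
  obtain ⟨p, hchar⟩ := CharP.exists F
  obtain ⟨n, hp, hqp⟩ := FiniteField.card F p
  have : Fact p.Prime := ⟨hp⟩
  obtain ⟨K, _, _, f, hQ⟩ : ∃ (K : Type) (_ : Field K) (_ : Fintype K) (_ : F →+* K),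
      Fintype.card K = q ^ 12 :=
    ⟨FiniteField.Extension F p 12, inferInstance, Fintype.ofFinite _, algebraMap F _, by
      rw [← @Nat.card_eq_fintype_card _ (Fintype.ofFinite _), FiniteField.natCard_extension,
        Nat.card_eq_fintype_card, hq]⟩
  have : CharP K p := charP_of_injective_ringHom f.injective p
  obtain ⟨σ, hσ⟩ : ∃ σ : K →+* K, ∀ x, σ x = x ^ q :=
    ⟨iterateFrobenius K p n, fun x => by rw [iterateFrobenius_def, ← hq, hqp]⟩
  refine ⟨K, inferInstance, inferInstance, f, σ, hQ, fun t => by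
    rw [hσ, ← map_pow, ← hq, FiniteField.pow_card], fun t ht => ?_, hσ⟩
  rw [hσ] at ht
  by_contra hne
  have hq2 : 1 < q := hq ▸ Fintype.one_lt_card
  have h1 : (insert t ((Finset.univ : Finset F).image f)).card ≤ q := by
    have hne0 : (Polynomial.X ^ q - Polynomial.X : Polynomial K) ≠ 0 :=
      FiniteField.X_pow_card_sub_X_ne_zero K hq2
    refine (Polynomial.card_le_degree_of_subset_roots ?_).trans
      (FiniteField.X_pow_card_sub_X_natDegree_eq K hq2).le
    intro x hx
    rw [Finset.mem_val, Finset.mem_insert, Finset.mem_image] at hx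
    rw [Polynomial.mem_roots hne0, Polynomial.IsRoot]
    rcases hx with rfl | ⟨a, -, rfl⟩
    · simp [ht]
    · simp [← map_pow, ← hq, FiniteField.pow_card]
  rw [Finset.card_insert_of_notMem, Finset.card_image_of_injective _ f.injective,
    Finset.card_univ, hq] at h1
  · omega
  · simpa using hne

end Cfsg.Agent.SimpleFacts.SingerCentre
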