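import Cfsg.Agent.Lib.Chevalley.Singer.Torus
import Mathlib.LinearAlgebra.Eigenspace.Zero
import Mathlib.GroupTheory.SpecificGroups.Cyclic

/-!
Twisted tori are cyclic when every residue has an eigen-residue unique up to scalars.
-/

set_option autoImplicit false

open scoped Matrix

namespace Cfsg.Agent.SimpleFacts.SingerCentre

open Cfsg.Lie Cfsg.Agent.Chevalley.TorusCard Cfsg.Agent.Chevalley.Singer

/-- A finite abelian group with few elements killed by each prime is cyclic. -/
theorem isCyclic_of_torsion {G : Type*} [CommGroup G] [Finite G]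
    (h : ∀ p : ℕ, p.Prime → Nat.card (powMonoidHom p : G →* G).ker ≤ p) : IsCyclic G := by
  classical
  have hpk : ∀ p : ℕ, p.Prime → ∀ k, Nat.card (powMonoidHom (p ^ k) : G →* G).ker ≤ p ^ k := by
    intro p hp k
    induction k with
    | zero => simp
    | succ k ih =>
      let φ : (powMonoidHom (p ^ (k + 1)) : G →* G).ker →* (powMonoidHom (p ^ k) : G →* G).ker :=
        ((powMonoidHom p).comp (powMonoidHom (p ^ (k + 1)) : G →* G).ker.subtype).codRestrict _
          fun x => by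
            have := x.2
            simp only [MonoidHom.mem_ker, powMonoidHom_apply] at this
            simp [MonoidHom.mem_ker, ← pow_mul, ← pow_succ', this]
      have h1 : Nat.card φ.range ≤ p ^ k := (Subgroup.card_le_card_group _).trans ih
      have h2 : Nat.card φ.ker ≤ p := by
        refine le_trans (Nat.card_le_card_of_injective
          (fun x => (⟨x.1.1, ?_⟩ : (powMonoidHom p : G →* G).ker)) ?_) (h p hp)
        · have := congrArg Subtype.val (MonoidHom.mem_ker.1 x.2)
          simpa [φ, MonoidHom.mem_ker] using this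
        · intro a b e
          exact Subtype.ext (Subtype.ext (Subtype.mk.inj e))
      rw [← Subgroup.card_mul_index φ.ker, Subgroup.index_ker]
      exact (Nat.mul_le_mul h2 h1).trans_eq (pow_succ' p k).symm
  let _ : Fintype G := Fintype.ofFinite G
  refine isCyclic_of_card_pow_eq_one_le fun n hn => ?_
  obtain ⟨A, hA⟩ : ∃ A, A = (powMonoidHom n : G →* G).ker := ⟨_, rfl⟩
  have hAn : ∀ x : G, x ∈ A ↔ x ^ n = 1 := fun x => by simp [hA, MonoidHom.mem_ker]
  have hcard : Nat.card A ≤ n := by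
    refine Nat.le_of_dvd hn ((Nat.factorization_le_iff_dvd Nat.card_pos.ne' hn.ne').1 fun p => ?_)
    by_cases hp : p.Prime
    swap
    · simp [Nat.factorization_eq_zero_of_not_prime _ hp]
    have : Fact p.Prime := ⟨hp⟩
    obtain ⟨P⟩ : Nonempty (Sylow p A) := inferInstance
    have hP := P.card_eq_multiplicity
    refine (Nat.pow_le_pow_iff_right hp.one_lt).1 (hP ▸ le_trans (Nat.card_le_card_of_injective
      (fun x => (⟨(x.1 : G), ?_⟩ : (powMonoidHom (p ^ n.factorization p) : G →* G).ker)) ?_)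
      (hpk p hp _))
    · rw [MonoidHom.mem_ker, powMonoidHom_apply]
      obtain ⟨k, hk⟩ := (Nat.dvd_prime_pow hp).1
        (hP ▸ orderOf_dvd_natCard x : orderOf x ∣ p ^ (Nat.card A).factorization p)
      have hdn : p ^ k ∣ n := by
        rw [← hk.2, Subgroup.orderOf_coe x |>.symm, ← Subgroup.orderOf_coe]
        exact orderOf_dvd_of_pow_eq_one ((hAn _).1 x.1.2)
      have hkle : k ≤ n.factorization p :=
        (hp.pow_dvd_iff_le_factorization hn.ne').1 hdn
      have e : ((x.1 : A) : G) ^ p ^ k = 1 := by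
        rw [← hk.2, ← Subgroup.orderOf_coe, ← Subgroup.orderOf_coe, pow_orderOf_eq_one]
      exact orderOf_dvd_iff_pow_eq_one.1 ((orderOf_dvd_of_pow_eq_one e).trans (pow_dvd_pow p hkle))
    · intro a b e
      exact Subtype.ext (Subtype.ext (Subtype.mk.inj e))
  refine le_trans (le_of_eq ?_) hcard
  rw [Nat.card_eq_fintype_card, ← Fintype.card_coe]
  refine Fintype.card_congr (Equiv.subtypeEquivRight fun x => ?_)
  simp [hAn]

section Eigen

variable {l p : ℕ} [Fact p.Prime]

/-- A simple root of the characteristic polynomial has a one-dimensional space of eigenvectors. -/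
theorem unique_eigen (A : Matrix (Fin l) (Fin l) (ZMod p)) {t : ZMod p}
    (hd : A.charpoly.derivative.eval t ≠ 0) {v w : Fin l → ZMod p} (hv : v ᵥ* A = t • v)
    (hv0 : v ≠ 0) (hw : w ᵥ* A = t • w) : ∃ a : ZMod p, w = a • v := by
  obtain ⟨φ, hφ⟩ : ∃ φ : Module.End (ZMod p) (Fin l → ZMod p), φ = Matrix.toLin' Aᵀ := ⟨_, rfl⟩
  have hroot : φ.charpoly.rootMultiplicity t ≤ 1 := by
    rw [hφ, Matrix.charpoly_toLin', Matrix.charpoly_transpose]
    by_contra hcon
    exact hd ((Polynomial.one_lt_rootMultiplicity_iff_isRoot A.charpoly_monic.ne_zero).1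
      (not_le.1 hcon)).2
  have hmem : ∀ {u : Fin l → ZMod p}, u ᵥ* A = t • u → u ∈ φ.eigenspace t := fun {u} hu => by
    rw [Module.End.mem_eigenspace_iff, hφ, Matrix.toLin'_apply, Matrix.mulVec_transpose, hu]
  have hle := (LinearMap.finrank_eigenspace_le φ t).trans hroot
  obtain ⟨u, hu⟩ := finrank_le_one_iff.1 hle
  obtain ⟨a, ha⟩ := hu ⟨v, hmem hv⟩
  obtain ⟨b, hb⟩ := hu ⟨w, hmem hw⟩
  have ha' : a • (u : Fin l → ZMod p) = v := congrArg Subtype.val ha
  have hb' : b • (u : Fin l → ZMod p) = w := congrArg Subtype.val hb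
  have ha0 : a ≠ 0 := fun e => hv0 (by rw [← ha', e, zero_smul])
  exact ⟨b * a⁻¹, by rw [← ha', ← hb', smul_smul, mul_assoc, inv_mul_cancel₀ ha0, mul_one]⟩

end Eigen

variable {D : ChevalleyDatum} {K : Type*} [Field K] [Finite K]

/-- The twisted torus is cyclic, of the order of the cokernel. -/
theorem gam_cyclic {M : Matrix (Fin D.rank) (Fin D.rank) ℤ} {q N : ℕ}
    (hN : M.charpoly.eval (q : ℤ) = (N : ℤ)) (hN0 : 0 < N) (hNK : N ∣ Nat.card Kˣ)
    (hmult : ∀ p : ℕ, p.Prime → p ^ 2 ∣ N → ∀ v w : Fin D.rank → ZMod p,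
      v ᵥ* M.map Int.cast = (q : ZMod p) • v → v ≠ 0 →
      w ᵥ* M.map Int.cast = (q : ZMod p) • w → ∃ a : ZMod p, w = a • v) :
    IsCyclic (gam M K q) ∧ Nat.card (gam M K q) = N := by
  classical
  have hdet : (Matrix.scalar (Fin D.rank) (q : ℤ) - M).det = (N : ℤ) := by
    rw [← hN, Matrix.eval_charpoly]
  have hinj : Function.Injective (Matrix.toLin' (Matrix.scalar (Fin D.rank) (q : ℤ) - M)) := by
    rw [← LinearMap.ker_eq_bot]
    refine LinearMap.ker_eq_bot'.2 fun x hx => ?_
    by_contra hx0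
    have h0 := Matrix.exists_mulVec_eq_zero_iff.1 ⟨x, hx0, by rwa [Matrix.toLin'_apply] at hx⟩
    rw [hdet] at h0
    omega
  obtain ⟨X, hX⟩ : ∃ X, X = Multiplicative ((Fin D.rank → ℤ) ⧸ coker M (q : ℤ)) := ⟨_, rfl⟩
  have hcard : Nat.card ((Fin D.rank → ℤ) ⧸ coker M (q : ℤ)) = N := by
    rw [← Submodule.natAbs_det_equiv (coker M (q : ℤ)) (LinearEquiv.ofInjective _ hinj),
      ← Int.natAbs_natCast N, ← hdet, ← LinearMap.det_toLin']
    rfl
  have : Finite ((Fin D.rank → ℤ) ⧸ coker M (q : ℤ)) := Nat.finite_of_card_ne_zero (by omega)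
  have hexp : Monoid.exponent (Multiplicative ((Fin D.rank → ℤ) ⧸ coker M (q : ℤ))) ∣ N :=
    hcard ▸ Group.exponent_dvd_nat_card.trans (dvd_of_eq (Nat.card_congr Multiplicative.toAdd))
  have : NeZero (Monoid.exponent (Multiplicative ((Fin D.rank → ℤ) ⧸ coker M (q : ℤ)))) :=
    ⟨fun h => by rw [h, zero_dvd_iff] at hexp; omega⟩
  have : HasEnoughRootsOfUnity K
      (Monoid.exponent (Multiplicative ((Fin D.rank → ℤ) ⧸ coker M (q : ℤ)))) := by
    obtain ⟨w, hw⟩ := IsCyclic.exists_ofOrder_eq_natCard (α := Kˣ)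
    obtain ⟨j, hj⟩ := hexp.trans hNK
    have hprim : IsPrimitiveRoot (w : K) (Nat.card Kˣ) := by
      rw [← hw, ← orderOf_units]; exact IsPrimitiveRoot.orderOf _
    exact ⟨⟨_, hprim.pow Nat.card_pos (hj.trans (mul_comm _ _))⟩, inferInstance⟩
  obtain ⟨e2⟩ := gam_equiv (D := D) M K q
  let _ : CommGroup (Multiplicative ((Fin D.rank → ℤ) ⧸ coker M (q : ℤ))) := inferInstance
  obtain ⟨e3⟩ := CommGroup.monoidHom_mulEquiv_of_hasEnoughRootsOfUnity
    (Multiplicative ((Fin D.rank → ℤ) ⧸ coker M (q : ℤ))) K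
  have hgam : Nat.card (gam M K q) = N := by
    rw [Nat.card_congr (e2.trans e3).toEquiv, Nat.card_congr Multiplicative.toAdd, hcard]
  refine ⟨isCyclic_of_torsion fun p hp => ?_, hgam⟩
  have : Fact p.Prime := ⟨hp⟩
  obtain ⟨T, hT⟩ : ∃ T, T = (powMonoidHom p : gam M K q →* gam M K q).ker := ⟨_, rfl⟩
  rw [← hT]
  have hTc : ∀ c ∈ T, c ^ p = 1 := fun c hc => by
    rw [hT, MonoidHom.mem_ker, powMonoidHom_apply] at hc; exact hc
  by_cases h2 : p ^ 2 ∣ N
  swap
  · have hpg : IsPGroup p T := fun c => ⟨1, Subtype.ext (by simpa using hTc c.1 c.2)⟩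
    obtain ⟨k, hk⟩ := IsPGroup.iff_card.1 hpg
    have hd : Nat.card T ∣ N := hgam ▸ Subgroup.card_subgroup_dvd_card T
    rw [hk] at hd ⊢
    rcases k with _ | _ | k
    · simpa using hp.one_lt.le
    · simp
    · exact absurd ((pow_dvd_pow p (by omega)).trans hd) h2
  have hpQ : p ∣ Nat.card Kˣ := ((dvd_pow_self p two_ne_zero).trans h2).trans hNK
  obtain ⟨ζ, hζ⟩ := exists_prime_orderOf_dvd_card' (G := Kˣ) p hpQ
  have hprim : IsPrimitiveRoot (ζ : K) p := by
    rw [← hζ, ← orderOf_units]; exact IsPrimitiveRoot.orderOf _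
  have hzp : ∀ a a' : ℤ, ζ ^ a = ζ ^ a' ↔ (a : ZMod p) = (a' : ZMod p) := fun a a' => by
    rw [zpow_eq_zpow_iff_modEq, hζ, ZMod.intCast_eq_intCast_iff]
  have hex : ∀ c : T, ∀ i, ∃ a : ℤ, ((c : gam M K q) : Fin D.rank → Kˣ) i = ζ ^ a := fun c i => by
    obtain ⟨a, -, ha⟩ := hprim.eq_pow_of_pow_eq_one
      (ξ := (((c : gam M K q) : Fin D.rank → Kˣ) i : K)) (by
        have := congrArg (fun z : gam M K q => ((z : Fin D.rank → Kˣ) i : K)) (hTc c.1 c.2)
        simpa using this)
    exact ⟨a, Units.ext (by rw [zpow_natCast, Units.val_pow_eq_pow_val, ha])⟩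
  choose va hva using hex
  have heig : ∀ c : T, (fun i => (va c i : ZMod p)) ᵥ* M.map Int.cast =
      (q : ZMod p) • fun i => (va c i : ZMod p) := by
    intro c
    funext j
    have h1 := (c : gam M K q).2 (Pi.single j 1)
    rw [evW_single, Matrix.mulVec_single_one, evW, hva] at h1
    have h2 : ∏ i, ((c : gam M K q) : Fin D.rank → Kˣ) i ^ M.col j i =
        ζ ^ (∑ i, va c i * M i j) := by
      rw [← prod_zpow_sum]
      exact Finset.prod_congr rfl fun i _ => by rw [hva, zpow_mul]; rfl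
    rw [h2, ← zpow_natCast, ← zpow_mul, hzp, Int.cast_sum] at h1
    simp only [Int.cast_mul, Int.cast_natCast] at h1
    simpa [Matrix.vecMul, dotProduct, mul_comm (q : ZMod p)] using h1
  have hinj' : Function.Injective fun (c : T) i => (va c i : ZMod p) := fun c c' e => by
    refine Subtype.ext (Subtype.ext (funext fun i => ?_))
    rw [hva, hva, hzp]
    exact congrFun e i
  by_cases hne : ∃ c : T, (fun i => (va c i : ZMod p)) ≠ 0
  · obtain ⟨c0, hc0⟩ := hne
    choose a ha using fun c : T => hmult p hp h2 _ _ (heig c0) hc0 (heig c)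
    refine (Nat.card_le_card_of_injective a fun c c' e => hinj' ?_).trans (le_of_eq (Nat.card_zmod p))
    show (fun i => (va c i : ZMod p)) = fun i => (va c' i : ZMod p)
    rw [ha c, ha c', e]
  · simp only [not_exists, not_not] at hne
    have : Subsingleton T := ⟨fun c c' => hinj' ((hne c).trans (hne c').symm)⟩
    rw [Nat.card_of_subsingleton (1 : T)]
    exact hp.one_lt.le

end Cfsg.Agent.SimpleFacts.SingerCentre
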