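import Cfsg.Agent.SimpleFacts.SingerCentre.Lift
import Cfsg.Agent.SimpleFacts.SingerCentre.Cyclic

/-!
A twisted torus with a regular cyclic group of points gives a self-centralising cyclic subgroup over
the small field.
-/

set_option autoImplicit false

open scoped Matrix

namespace Cfsg.Agent.SimpleFacts.SingerCentre

open Cfsg.Lie Cfsg.Agent.Chevalley Cfsg.Agent.Chevalley.Table Cfsg.Agent.Chevalley.Check
  Cfsg.Agent.Chevalley.Cert Cfsg.Agent.Chevalley.Group Cfsg.Agent.Chevalley.Borel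
  Cfsg.Agent.Chevalley.Weyl Cfsg.Agent.Chevalley.TorusCard Cfsg.Agent.Chevalley.FieldAut
  Cfsg.Agent.Chevalley.FieldFix Cfsg.Agent.Chevalley.Singer Cfsg.Agent.Chevalley.StKernel

variable {D : ChevalleyDatum} {T : Tab} {p : ℕ}

/-- Evaluation at a weight, as a homomorphism. -/
def evHom {K : Type*} [Field K] (x : Fin D.rank → ℤ) : (Fin D.rank → Kˣ) →* Kˣ where
  toFun c := evW c x
  map_one' := evW_one x
  map_mul' a b := evW_mul a b x

set_option maxHeartbeats 500000 in
/-- The self-centralising subgroup. -/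
theorem exists_sub (P : Pack D T p) {F : Type*} [Field F] [Fintype F] {K : Type} [Field K]
    [Fintype K] (f : F →+* K) (σ : K →+* K) {q : ℕ} (hσf : ∀ t, σ (f t) = f t)
    (hfix : ∀ t : K, σ t = t → t ∈ Set.range f) (hσq : ∀ x, σ x = x ^ q)
    {gv : GL D.Idx K} (hgG : gv ∈ D.group K) {L : List ℕ} (hL : ∀ i ∈ L, i < D.rank)
    {h0 : GL D.Idx K} (hh0 : h0 ∈ D.diagonalSubgroup K)
    (hn0 : gv⁻¹ * mapGL D σ gv = h0 * nL P.cert K L) {N g n : ℕ}
    (hgam : IsCyclic (gam (wMat D L) K q) ∧ Nat.card (gam (wMat D L) K q) = N)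
    (hker : Nat.card (matHom (G := Fˣ) (cartanMat D)).ker = g) (hN : N = g * n)
    (hreg : ∀ s < D.nroots, ∃ c ∈ gam (wMat D L) K q, evW c (lam D s) ≠ 1)
    (hstab : ∀ L' : List ℕ, (∀ i ∈ L', i < D.rank) →
      (∀ c ∈ gam (wMat D L) K q, ∀ s < D.nroots, evW c (lam D (wL D L' s)) = evW c (lam D s)) →
        ∀ s < D.nroots, wL D L' s = s) :
    ∃ H : Subgroup ↥(D.group F), IsCyclic ↥H ∧ Nat.card ↥H = n ∧
      Subgroup.centralizer (H : Set ↥(D.group F)) = H := by
  classical
  have hC := P.cert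
  have htf := torus_fixed P f σ hσf hfix hσq hgG hL hh0 hn0
  let H : Subgroup (D.group F) :=
    ((D.diagonalSubgroup K).map (MulAut.conj gv).toMonoidHom).comap
      ((mapGL D f).comp (D.group F).subtype)
  have hHmem : ∀ x : D.group F, x ∈ H ↔ gv⁻¹ * mapGL D f x * gv ∈ D.diagonalSubgroup K := fun x => by
    constructor
    · rintro ⟨h, hh, e⟩
      have e' : gv * h * gv⁻¹ = mapGL D f x := e
      rw [← e', show gv⁻¹ * (gv * h * gv⁻¹) * gv = h by group]
      exact hh
    · intro h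
      exact ⟨_, h, show gv * (gv⁻¹ * mapGL D f x * gv) * gv⁻¹ = mapGL D f x by group⟩
  obtain ⟨hcyc, hcard⟩ := hgam
  obtain ⟨⟨c0, hc0⟩, hgen⟩ := hcyc.exists_generator
  have hpow : ∀ c ∈ gam (wMat D L) K q, ∃ k : ℤ, c0 ^ k = c := fun c hc => by
    obtain ⟨k, hk⟩ := Subgroup.mem_zpowers_iff.1 (hgen ⟨c, hc⟩)
    exact ⟨k, congrArg Subtype.val hk⟩
  have hev : ∀ s, ∀ k : ℤ, evW (c0 ^ k) (lam D s) = evW c0 (lam D s) ^ k := fun s k =>
    map_zpow (evHom (lam D s)) c0 k
  obtain ⟨y, hyG, hy, hyH⟩ := (htf (gv * torHom D K c0 * gv⁻¹)).2 ⟨c0, hc0, rfl⟩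
  have hyM : (⟨y, hyG⟩ : D.group F) ∈ H := by
    rw [hHmem]; show gv⁻¹ * mapGL D f y * gv ∈ _; rw [hy]; exact hyH
  have hreg0 : ∀ s < D.nroots, torChar D (TorusCard.ext c0) s ≠ 1 := by
    intro s hs h1
    obtain ⟨c, hc, hne⟩ := hreg s hs
    obtain ⟨k, rfl⟩ := hpow c hc
    rw [hev, evW_lam, h1, one_zpow] at hne
    exact hne rfl
  have hstab0 : ∀ L' : List ℕ, (∀ i ∈ L', i < D.rank) →
      (∀ s < D.nroots, torChar D (TorusCard.ext c0) (wL D L' s) = torChar D (TorusCard.ext c0) s) →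
        ∀ s < D.nroots, wL D L' s = s := by
    intro L' hL' hfx
    refine hstab L' hL' fun c hc s hs => ?_
    obtain ⟨k, rfl⟩ := hpow c hc
    rw [hev, hev, evW_lam, evW_lam, hfx s hs]
  have hself : Subgroup.centralizer (H : Set ↥(D.group F)) = H := by
    refine le_antisymm (fun x hx => (hHmem x).2 (mem_H_of_commute hC hreg0 hstab0 ?_ ?_))
      fun x hx => ?_
    · exact mul_mem (mul_mem (inv_mem hgG) (map_mem_group f x.2)) hgG
    · have h1 : mapGL D f y * mapGL D f (x : GL D.Idx F) = mapGL D f x * mapGL D f y := by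
        rw [← map_mul, ← map_mul]
        exact congrArg (fun z : D.group F => mapGL D f z)
          (Subgroup.mem_centralizer_iff.1 hx ⟨y, hyG⟩ hyM)
      rw [show tor D (TorusCard.ext c0) = gv⁻¹ * mapGL D f y * gv by
        rw [hy]; show torHom D K c0 = _; group]
      calc _ = gv⁻¹ * (mapGL D f y * mapGL D f x) * (mapGL D f y)⁻¹ * gv := by group
        _ = _ := by rw [h1]; group
    · rw [Subgroup.mem_centralizer_iff]
      intro z hz
      have h1 := H_comm hC ((hHmem z).1 hz) ((hHmem x).1 hx)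
      refine Subtype.ext (mapGL_injective f ?_)
      rw [Subgroup.coe_mul, Subgroup.coe_mul, map_mul, map_mul]
      calc _ = gv * ((gv⁻¹ * mapGL D f z * gv) * (gv⁻¹ * mapGL D f x * gv)) * gv⁻¹ := by group
        _ = _ := by rw [h1]; group
  let ψ : gam (wMat D L) K q →* GL D.Idx K :=
    (MulAut.conj gv).toMonoidHom.comp ((torHom D K).comp (gam (wMat D L) K q).subtype)
  have himg : H.map ((mapGL D f).comp (D.group F).subtype) = ψ.range := by
    ext z
    constructor
    · rintro ⟨x, hx, rfl⟩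
      obtain ⟨c, hc, e⟩ := (htf _).1 ⟨x, x.2, rfl, (hHmem x).1 hx⟩
      exact ⟨⟨c, hc⟩, e.symm⟩
    · rintro ⟨⟨c, hc⟩, rfl⟩
      obtain ⟨x, hxG, hx, hxH⟩ := (htf (gv * torHom D K c * gv⁻¹)).2 ⟨c, hc, rfl⟩
      exact ⟨⟨x, hxG⟩, (hHmem _).2 (by show gv⁻¹ * mapGL D f x * gv ∈ _; rw [hx]; exact hxH), hx⟩
  have e1 : ↥H ≃* ↥ψ.range :=
    (H.equivMapOfInjective ((mapGL D f).comp (D.group F).subtype)
      ((mapGL_injective f).comp Subtype.val_injective)).trans (MulEquiv.subgroupCongr himg)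
  have : IsCyclic ψ.range := isCyclic_of_surjective ψ.rangeRestrict ψ.rangeRestrict_surjective
  -- the kernel
  obtain ⟨γ, hγ⟩ := range_th hC hgG
  have hν : Cover.Sys.th hC (γ⁻¹ * mapSC hC σ γ) = h0 * nL P.cert K L := by
    rw [map_mul, map_inv, th_mapSC, hγ, hn0]
  let φ : (matHom (G := Fˣ) (cartanMat D)).ker → (Fin D.rank → Kˣ) := fun z i =>
    Units.map (f : F →* K) (z.1 i)
  have hmat : ∀ z : Fin D.rank → Fˣ, matHom (cartanMat D) (fun i => Units.map (f : F →* K) (z i)) =
      fun i => Units.map (f : F →* K) (matHom (cartanMat D) z i) := fun z => by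
    funext j
    simp [matHom_apply, map_prod, map_zpow]
  have hφker : ∀ z, φ z ∈ gam (wMat D L) K q ∧ torHom D K (φ z) = 1 := by
    intro z
    have h1 : φ z ∈ (torHom D K).ker := by
      rw [ker_torHom hC, MonoidHom.mem_ker, hmat, MonoidHom.mem_ker.1 z.2]
      funext i
      simp
    refine ⟨(mem_gam_iff hC P.det_ne hL q _).2 (sig_injective P ?_), h1⟩
    have hzq : φ z ^ q = φ z := funext fun i => Units.ext (by
      show (f (z.1 i)) ^ q = _
      rw [← hσq, hσf]; rfl)
    rw [hzq, ← exact_conj P hL hh0 hν]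
    have hc : sig P K (φ z) ∈ Subgroup.center _ := by
      rw [← (ker_eq_map P).2, MonoidHom.mem_ker, th_sig P]; exact h1
    rw [Subgroup.mem_center_iff.1 hc, mul_inv_cancel_right]
  have hψker : ∀ z : gam (wMat D L) K q, z ∈ ψ.ker ↔ (z : Fin D.rank → Kˣ) ∈ (torHom D K).ker := by
    intro z
    rw [MonoidHom.mem_ker, MonoidHom.mem_ker]
    show gv * torHom D K z * gv⁻¹ = 1 ↔ _
    rw [mul_inv_eq_one, mul_eq_left]
  let Φ : (matHom (G := Fˣ) (cartanMat D)).ker → ψ.ker := fun z =>
    ⟨⟨φ z, (hφker z).1⟩, (hψker ⟨φ z, (hφker z).1⟩).2 (hφker z).2⟩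
  have hΦ : Function.Bijective Φ := by
    constructor
    · intro a b e
      have e' : φ a = φ b := by
        have h1 := congrArg Subtype.val e
        have h2 := congrArg Subtype.val h1
        exact h2
      refine Subtype.ext (funext fun i => Units.map_injective (f := (f : F →* K)) f.injective ?_)
      exact congrFun e' i
    · rintro ⟨⟨c, hc⟩, hck⟩
      have hcker : c ∈ (torHom D K).ker := (hψker ⟨c, hc⟩).1 hck
      have h1 := (mem_gam_iff hC P.det_ne hL q c).1 hc
      have hcq : c ^ q ∈ (torHom D K).ker := pow_mem hcker q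
      have hfixc : c ^ q = c := by
        refine Eq.trans ?_ h1
        refine sig_injective P ?_
        rw [← exact_conj P hL hh0 hν]
        have hc' : sig P K (c ^ q) ∈ Subgroup.center _ := by
          rw [← (ker_eq_map P).2, MonoidHom.mem_ker, th_sig P]; exact hcq
        rw [Subgroup.mem_center_iff.1 hc', mul_inv_cancel_right]
      have hmem : ∀ i, ∃ a : Fˣ, Units.map (f : F →* K) a = c i := fun i => by
        obtain ⟨a, ha⟩ := hfix (c i) (by
          rw [hσq, ← Units.val_pow_eq_pow_val, ← Pi.pow_apply, hfixc])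
        have ha0 : a ≠ 0 := fun e => by
          rw [e, map_zero] at ha
          exact (c i).ne_zero ha.symm
        exact ⟨Units.mk0 a ha0, Units.ext ha⟩
      choose a ha using hmem
      have hak : a ∈ (matHom (G := Fˣ) (cartanMat D)).ker := by
        rw [MonoidHom.mem_ker]
        funext i
        refine Units.map_injective (f := (f : F →* K)) f.injective ?_
        have := congrFun (hmat a) i
        rw [← this, show (fun i => Units.map (f : F →* K) (a i)) = c from funext ha]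
        rw [ker_torHom hC, MonoidHom.mem_ker] at hcker
        rw [hcker]; simp
      exact ⟨⟨a, hak⟩, Subtype.ext (Subtype.ext (funext ha))⟩
  have hg : Nat.card ψ.ker = g := by rw [← hker]; exact (Nat.card_eq_of_bijective Φ hΦ).symm
  have hmul := Subgroup.card_mul_index ψ.ker
  rw [Subgroup.index_ker, hg, hcard, hN] at hmul
  have hg0 : 0 < g := hg ▸ Nat.card_pos
  refine ⟨H, isCyclic_of_surjective e1.symm.toMonoidHom e1.symm.surjective, ?_, hself⟩
  rw [Nat.card_congr e1.toEquiv]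
  exact Nat.eq_of_mul_eq_mul_left hg0 hmul

end Cfsg.Agent.SimpleFacts.SingerCentre
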