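import Cfsg.Agent.SimpleFacts.SingerCentre.SixVectors

/-!
An eigen-residue of order twelve vanishes on no root of type E6, and on a minimal weight only in the
plane of `Φ₃`, which contains exactly three of each class.
-/

set_option autoImplicit false

open scoped Matrix
open Polynomial

namespace Cfsg.Agent.SimpleFacts.SingerCentre.Six

open Cfsg.Lie Cfsg.Agent.Chevalley Cfsg.Agent.Chevalley.TorusCard Cfsg.Agent.Chevalley.Singer

variable {M : Matrix (Fin 6) (Fin 6) ℤ}

/-- The residue of a vector. -/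
def ev {r : ℕ} (v : Fin 6 → ZMod r) (x : V) : ZMod r := v ⬝ᵥ fun i => (x i : ZMod r)

theorem ev_mul {r : ℕ} (v : Fin 6 → ZMod r) (A : Matrix (Fin 6) (Fin 6) ℤ) (x : V) :
    ev v (A *ᵥ x) = (v ᵥ* A.map Int.cast) ⬝ᵥ fun i => (x i : ZMod r) := by
  rw [ev, ← Matrix.dotProduct_mulVec]
  congr 1
  funext i
  simp [Matrix.mulVec, dotProduct]

theorem det_dvd_of_ev {r : ℕ} [Fact r.Prime] {v : Fin 6 → ZMod r} (hv0 : v ≠ 0)
    (K : Matrix (Fin 6) (Fin 6) ℤ) (h : ∀ c, ev v (fun i => K i c) = 0) : (r : ℤ) ∣ K.det := by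
  have h1 : v ᵥ* K.map Int.cast = 0 := funext fun c => h c
  rw [← ZMod.intCast_zmod_eq_zero_iff_dvd]
  by_contra hne
  refine hv0 (Matrix.eq_zero_of_vecMul_eq_zero ?_ h1)
  intro hd
  exact hne ((RingHom.map_det (Int.castRingHom (ZMod r)) K).trans hd)

theorem cast_mulVec (A : Matrix (Fin 6) (Fin 6) ℤ) (x : V) :
    A.map (Int.cast : ℤ → ℚ) *ᵥ (fun i => (x i : ℚ)) = fun i => ((A *ᵥ x) i : ℚ) := by
  funext i
  simp [Matrix.mulVec, dotProduct]

/-- The hypotheses on the matrix and the residue. -/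
structure Res (M : Matrix (Fin 6) (Fin 6) ℤ) (r q : ℕ) (v : Fin 6 → ZMod r) : Prop where
  wd : IsWd M
  cp : M.charpoly = (X ^ 4 - X ^ 2 + 1) * (X ^ 2 + X + 1)
  ord : orderOf (q : ZMod r) = 12
  big : 13 ≤ r
  ne : v ≠ 0
  eig : v ᵥ* M.map Int.cast = (q : ZMod r) • v

variable {r q : ℕ} [Fact r.Prime] {v : Fin 6 → ZMod r} (h : Res M r q v)
include h

theorem ev_app (p : ℤ[X]) (x : V) :
    ev v (app M p x) = (p.map (Int.castRingHom (ZMod r))).eval (q : ZMod r) * ev v x := by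
  rw [app, ev_mul, map_aeval, vecMul_aeval h.eig, smul_dotProduct, smul_eq_mul, ev]

theorem ev_M (k : ℕ) {x : V} (hx : ev v x = 0) : ev v (M ^ k *ᵥ x) = 0 := by
  have h1 := ev_app h (X ^ k) x
  rw [app, map_pow, aeval_X, hx, mul_zero] at h1
  exact h1

theorem ev_three {x : V} (hx : In3 M x) : ev v x = 0 := by
  have h1 := ev_app h (X ^ 2 + X + 1) x
  rw [hx, show ev v (0 : V) = 0 by simp [ev, dotProduct]] at h1
  refine (mul_eq_zero.1 h1.symm).resolve_left fun h2 => ?_
  have h3 : (q : ZMod r) ^ 3 = 1 := by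
    simp at h2
    linear_combination ((q : ZMod r) - 1) * h2
  have h4 := orderOf_dvd_of_pow_eq_one h3
  rw [h.ord] at h4
  norm_num at h4

/-- Only the two factors can kill a vector early. -/
theorem krylov_cases (x : V) :
    (krylov M x).det ≠ 0 ∨ In12 M x ∨ In3 M x := by
  by_contra hcon
  simp only [not_or, not_not] at hcon
  obtain ⟨hd, h12, h3⟩ := hcon
  obtain ⟨c, hc, hKc⟩ := Matrix.exists_mulVec_eq_zero_iff.2 hd
  obtain ⟨p, hp⟩ : ∃ p : ℤ[X], p = ∑ j : Fin 6, monomial (j : ℕ) (c j) := ⟨_, rfl⟩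
  have hcoef : ∀ j : Fin 6, p.coeff j = c j := fun j => by
    rw [hp, finsetSum_coeff, Finset.sum_eq_single j]
    · simp
    · intro i _ hi; rw [coeff_monomial, if_neg fun e => hi (Fin.ext e)]
    · simp
  have hdeg : p.natDegree ≤ 5 := by
    rw [hp]
    refine natDegree_sum_le_of_forall_le Finset.univ _ fun j _ => ?_
    exact (natDegree_monomial_le _).trans (by omega)
  have hp0 : p ≠ 0 := fun e => hc (funext fun j => by rw [← hcoef j, e]; simp)
  have hpx : aeval M p *ᵥ x = 0 := by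
    rw [hp, map_sum, Matrix.sum_mulVec, ← hKc, krylov_mulVec]
    refine Finset.sum_congr rfl fun j _ => ?_
    rw [aeval_monomial, Algebra.algebraMap_eq_smul_one, Matrix.smul_mul, Matrix.one_mul,
      Matrix.smul_mulVec]
  obtain ⟨MQ, hMQ⟩ : ∃ MQ, MQ = M.map (Int.cast : ℤ → ℚ) := ⟨_, rfl⟩
  obtain ⟨xQ, hxQ⟩ : ∃ xQ : Fin 6 → ℚ, xQ = fun i => (x i : ℚ) := ⟨_, rfl⟩
  have kill : ∀ g : ℤ[X], aeval M g *ᵥ x = 0 →
      aeval MQ (g.map (Int.castRingHom ℚ)) *ᵥ xQ = 0 := fun g hg => by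
    rw [hMQ, ← map_aeval, hxQ, cast_mulVec, hg]
    funext i; simp
  have back : ∀ g : ℤ[X], aeval MQ (g.map (Int.castRingHom ℚ)) *ᵥ xQ = 0 →
      aeval M g *ᵥ x = 0 := fun g hg => by
    rw [hMQ, ← map_aeval, hxQ, cast_mulVec] at hg
    funext i
    have := congrFun hg i
    simpa using this
  have step : ∀ (A B : ℚ[X]) (g1 g2 : ℚ[X]), A * g1 + B * g2 = 1 → ∀ y : Fin 6 → ℚ,
      aeval MQ g1 *ᵥ y = 0 → aeval MQ g2 *ᵥ y = 0 → y = 0 := by
    intro A B g1 g2 e y e1 e2
    have := congrArg (fun z => aeval MQ z *ᵥ y) e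
    simp only [map_add, map_mul, map_one, Matrix.add_mulVec, ← Matrix.mulVec_mulVec, e1, e2,
      Matrix.mulVec_zero, add_zero, Matrix.one_mulVec] at this
    exact this.symm
  have hi12 : Irreducible ((X ^ 4 - X ^ 2 + 1 : ℤ[X]).map (Int.castRingHom ℚ)) := by
    rw [← cyclotomic_twelve, map_cyclotomic]; exact cyclotomic.irreducible_rat (by norm_num)
  have hi3 : Irreducible ((X ^ 2 + X + 1 : ℤ[X]).map (Int.castRingHom ℚ)) := by
    rw [← cyclotomic_three, map_cyclotomic]; exact cyclotomic.irreducible_rat (by norm_num)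
  have hchi := kill _ (app_charpoly (M := M) x)
  rw [h.cp, Polynomial.map_mul] at hchi
  have d12 : ((X ^ 4 - X ^ 2 + 1 : ℤ[X]).map (Int.castRingHom ℚ)).natDegree = 4 := by
    rw [natDegree_map_eq_of_injective Int.cast_injective]; compute_degree!
  have d3 : ((X ^ 2 + X + 1 : ℤ[X]).map (Int.castRingHom ℚ)).natDegree = 2 := by
    rw [natDegree_map_eq_of_injective Int.cast_injective]; compute_degree!
  have hdQ : (p.map (Int.castRingHom ℚ)).natDegree ≤ 5 := natDegree_map_le.trans hdeg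
  have hp0Q : p.map (Int.castRingHom ℚ) ≠ 0 := (Polynomial.map_ne_zero_iff Int.cast_injective).2 hp0
  rcases hi12.isCoprime_or_dvd (p.map (Int.castRingHom ℚ)) with ⟨A, B, e⟩ | ⟨g, hg⟩
  · refine h3 (back _ ?_)
    refine step A B _ _ e _ ?_ ?_
    · rw [Matrix.mulVec_mulVec, ← map_mul]; exact hchi
    · rw [Matrix.mulVec_mulVec, ← map_mul, mul_comm, map_mul, ← Matrix.mulVec_mulVec,
        kill p hpx, Matrix.mulVec_zero]
  · have hg0 : g ≠ 0 := fun e => hp0Q (by rw [hg, e, mul_zero])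
    rw [hg, natDegree_mul hi12.ne_zero hg0, d12] at hdQ
    rcases hi3.isCoprime_or_dvd g with ⟨A, B, e⟩ | hdvd
    · refine h12 (back _ ?_)
      refine step A B _ _ e _ ?_ ?_
      · rw [Matrix.mulVec_mulVec, ← map_mul, mul_comm]; exact hchi
      · rw [Matrix.mulVec_mulVec, ← map_mul, mul_comm, ← hg]; exact kill p hpx
    · have := natDegree_le_of_dvd hdvd hg0
      rw [d3] at this
      omega

/-- The residue vanishes on no root. -/
theorem regular {x : V} (hxQ : InQ x) (hx : sB x x = 48) : ev v x ≠ 0 := by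
  intro h0
  rcases krylov_cases h x with hd | h12 | h3
  · have hb := det_krylov_sq_le (M := M) Cor (by rw [corS_eq]; exact h.wd.iso) x
    rw [corS_eq, det_SM, show x ⬝ᵥ SM *ᵥ x = 48 from hx] at hb
    have h3 : (3 : ℤ) ∣ (krylov M x).det := by
      choose z hz using fun c : Fin 6 => pow_inQ h.wd (c : ℕ) hxQ
      have : krylov M x = CM * Matrix.of fun i c => z c i := by
        ext i c
        exact congrFun (hz c) i
      rw [this, Matrix.det_mul, det_CM]
      exact dvd_mul_right _ _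
    have hr : (r : ℤ) ∣ (krylov M x).det :=
      det_dvd_of_ev h.ne _ fun c => ev_M h (c : ℕ) h0
    obtain ⟨e, he⟩ := h3
    rw [he] at hr hd hb
    have he2 : e ^ 2 ≤ 21 := by nlinarith
    have hr' : (r : ℤ) ∣ e := by
      refine Int.natCast_dvd.2 ?_
      have := Int.natCast_dvd.1 hr
      rw [Int.natAbs_mul] at this
      exact ((Fact.out : r.Prime).dvd_mul.1 this).resolve_left fun h' => by
        have := Nat.le_of_dvd (by norm_num) h'; have := h.big; simp at *; omega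
    have he0 : e ≠ 0 := fun e0 => hd (by rw [e0, mul_zero])
    have h5 := Int.le_of_dvd (abs_pos.2 he0) ((dvd_abs _ _).2 hr')
    have hb' : |e| ≤ 4 := by nlinarith [abs_mul_abs_self e, abs_nonneg e]
    have := h.big
    omega
  · obtain ⟨i, hi⟩ : ∃ i, app M (X ^ 4 - X ^ 2 + 1) (simp6 i) ≠ 0 := by
      by_contra hcon
      simp only [not_exists, not_not] at hcon
      have hA : aeval M (X ^ 4 - X ^ 2 + 1 : ℤ[X]) * CM = 0 := by
        ext a b
        have := congrFun (hcon b) a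
        rw [app, simp6, Matrix.mulVec_mulVec, Matrix.mulVec_single_one] at this
        exact this
      have h0' : aeval M (X ^ 4 - X ^ 2 + 1 : ℤ[X]) = 0 := by
        have := congrArg (· * CM.adjugate) hA
        simp only [mul_assoc, Matrix.mul_adjugate, det_CM, zero_mul, Matrix.mul_smul, mul_one] at this
        exact (smul_eq_zero.1 this).resolve_left (by norm_num)
      obtain ⟨w, hw, hw0⟩ := exists_three h.cp
      have h6 := pow6_twelve (M := M) (u := w) (by rw [app, h0', Matrix.zero_mulVec])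
      rw [hw.six] at h6
      exact hw0 (funext fun a => by have := congrFun h6 a; simp only [Pi.neg_apply] at this; simp; omega)
    obtain ⟨w, hw⟩ : ∃ w, w = app M (X ^ 4 - X ^ 2 + 1) (simp6 i) := ⟨_, rfl⟩
    rw [← hw] at hi
    have hw3 : In3 M w := hw ▸ mk3 h.cp _
    obtain ⟨j0, hj0⟩ := even_form (hw ▸ app_inQ h.wd _ (simp6_inQ i) : InQ w)
    have hjle : j0 ≤ 6 := by
      have := twelve_norm_le h.wd h.cp (simp6 i)
      rw [← hw, hj0, sB_simp6, show CM i i = 2 by fin_cases i <;> rfl] at this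
      omega
    have hjpos : 0 < j0 := by have := sB_pos hi; omega
    obtain ⟨hxx, -⟩ := twelve_values h.wd h12
    obtain ⟨a0, ha0⟩ := dvd_sB hxQ (M *ᵥ x)
    have hab := abs_sB_le hx (by rw [sB_M h.wd, hx])
    have ha1 : -1 ≤ a0 ∧ a0 ≤ 1 ∨ a0 = 2 ∨ a0 = -2 := by omega
    have hg := gram h.wd h12 hw3 (k := 24) (a := 24 * a0) (j := 24 * j0) (by omega) ha0 (by
      have := (three_values h.wd hw3).1
      omega)
    have hd0 : (cols M x w).det ≠ 0 :=
      det_cols_ne h.wd h12 (fun e => by rw [e, sB_zero_left] at hx; norm_num at hx) hw3 hi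
    have hr : (r : ℤ) ∣ (cols M x w).det := by
      refine det_dvd_of_ev h.ne _ fun c => ?_
      fin_cases c
      · exact h0
      · have := ev_M h 1 h0; simpa [cols] using this
      · exact ev_M h 2 h0
      · exact ev_M h 3 h0
      · exact ev_three h hw3
      · exact ev_three h hw3.map
    have hsq : (cols M x w).det ^ 2 = 9 * (3 - a0 ^ 2) ^ 2 * j0 ^ 2 := by
      refine mul_right_cancel₀ (b := (63700992 : ℤ)) (by norm_num) (hg.trans ?_)
      ring
    have h9 : (r : ℤ) ∣ 9 * (3 - a0 ^ 2) ^ 2 * j0 ^ 2 := hsq ▸ dvd_pow hr two_ne_zero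
    have hrp : r.Prime := Fact.out
    have key : ∀ n : ℕ, 0 < n → n < 13 → ¬ (r : ℤ) ∣ (n : ℤ) := fun n hn hn' hdv => by
      have := Nat.le_of_dvd hn (Int.natCast_dvd_natCast.1 hdv)
      have := h.big; omega
    have hpI : Prime (r : ℤ) := Nat.prime_iff_prime_int.1 hrp
    rcases hpI.dvd_or_dvd h9 with h' | h'
    · rcases hpI.dvd_or_dvd h' with h' | h'
      · exact key 9 (by norm_num) (by norm_num) h'
      · have h' := hpI.dvd_of_dvd_pow h'
        rcases ha1 with ⟨h1, h2⟩ | rfl | rfl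
        · rcases (by omega : a0 = -1 ∨ a0 = 0 ∨ a0 = 1) with rfl | rfl | rfl
          · exact key 2 (by norm_num) (by norm_num) (by simpa using h')
          · exact key 3 (by norm_num) (by norm_num) (by simpa using h')
          · exact key 2 (by norm_num) (by norm_num) (by simpa using h')
        · exact key 1 (by norm_num) (by norm_num) (by norm_num at h'; simpa using h')
        · exact key 1 (by norm_num) (by norm_num) (by norm_num at h'; simpa using h')
    · have h' := hpI.dvd_of_dvd_pow h'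
      refine key j0.natAbs (by omega) (by omega) ?_
      rwa [Int.natCast_natAbs, abs_of_pos hjpos]
  · exact no_odd h.wd h.cp hxQ h3 (j := 1) (by rw [hx]; rfl) odd_one

/-- Where the residue vanishes on minimal weights. -/
theorem weight_three {x : V} (hx : sB x x = 32) (h0 : ev v x = 0) : In3 M x := by
  rcases krylov_cases h x with hd | h12 | h3
  · exfalso
    have hb := det_krylov_sq_le (M := M) Cor (by rw [corS_eq]; exact h.wd.iso) x
    rw [corS_eq, det_SM, show x ⬝ᵥ SM *ᵥ x = 32 from hx] at hb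
    have hr : (r : ℤ) ∣ (krylov M x).det :=
      det_dvd_of_ev h.ne _ fun c => ev_M h (c : ℕ) h0
    have h5 := Int.le_of_dvd (abs_pos.2 hd) ((dvd_abs _ _).2 hr)
    have h6 : |(krylov M x).det| ≤ 4 := by
      nlinarith [abs_mul_abs_self (krylov M x).det, abs_nonneg (krylov M x).det]
    have := h.big
    omega
  · exfalso
    obtain ⟨hxx, -⟩ := twelve_values h.wd h12
    have hq : InQ (x - M ^ 2 *ᵥ x) := by
      have := (h.wd.modQ x).add (h.wd.modQ (M *ᵥ x))
      rw [Matrix.mulVec_mulVec, ← pow_two] at this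
      convert this using 1
      abel
    obtain ⟨n, hn⟩ := dvd_sB hq x
    rw [sB_sub_left, hx, sB_comm (M ^ 2 *ᵥ x), ] at hn
    omega
  · exact h3

omit h in
theorem sum_three {μ : V} (hμ : In3 M μ) : μ + M *ᵥ μ + M ^ 2 *ᵥ μ = 0 := by
  rw [hμ.sq]; abel

omit [Fact r.Prime] in
/-- There is a minimal weight in the plane. -/
theorem exists_weight : ∃ μ : V, sB μ μ = 32 ∧ In3 M μ := by
  obtain ⟨ω, hω⟩ : ∃ ω : V, ω = Pi.single 0 1 := ⟨_, rfl⟩
  have hω0 : sB ω ω = 32 := by rw [hω, sB]; decide +kernel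
  obtain ⟨w, hw⟩ : ∃ w, w = app M (X ^ 4 - X ^ 2 + 1) ω := ⟨_, rfl⟩
  have hw3 : In3 M w := hw ▸ mk3 h.cp ω
  have hdQ : InQ (w - ω) := by
    have h1 := (h.wd.modQ (M ^ 2 *ᵥ ω)).add (h.wd.modQ (M *ᵥ (M ^ 2 *ᵥ ω)))
    have h2 : w - ω = -((M ^ 2 *ᵥ ω - M *ᵥ (M ^ 2 *ᵥ ω)) +
        (M *ᵥ (M ^ 2 *ᵥ ω) - M *ᵥ (M *ᵥ (M ^ 2 *ᵥ ω)))) := by
      rw [hw, app_twelve]
      simp only [Matrix.mulVec_mulVec, ← pow_succ']
      abel
    rw [h2]
    exact h1.neg
  obtain ⟨A, hA⟩ := dvd_sB hdQ ω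
  obtain ⟨B, hB⟩ := even_form hdQ
  have hww : sB w w = 32 + 48 * (A + B) := by
    have e : w = ω + (w - ω) := by abel
    conv_lhs => rw [e]
    rw [sB_add_left, sB_add_right, sB_add_right, hω0, hB, sB_comm ω, hA]
    ring
  have hle := twelve_norm_le h.wd h.cp ω
  rw [← hw, hω0] at hle
  have hnn := sB_nonneg w
  have hwv := three_values h.wd hw3
  rcases (by omega : sB w w = 32 ∨ sB w w = 80 ∨ sB w w = 128 ∨ sB w w = 176) with hc | hc | hc | hc
  · exact ⟨w, hc, hw3⟩
  rotate_left 2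
  all_goals try
    exfalso
    have hzQ : InQ (w - M *ᵥ w) := h.wd.modQ w
    have hzn : sB (w - M *ᵥ w) (w - M *ᵥ w) = 3 * sB w w := by
      rw [sB_sub_left, sB_sub_right, sB_sub_right, sB_comm (M *ᵥ w) w]
      omega
    first
      | exact no_odd h.wd h.cp hzQ (hw3.sub hw3.map) (j := 5) (by rw [hzn, hc]; rfl) (by decide)
      | exact no_odd h.wd h.cp hzQ (hw3.sub hw3.map) (j := 11) (by rw [hzn, hc]; rfl) (by decide)
  refine ⟨ω, hω0, ?_⟩
  have hwω : sB ω (M *ᵥ w) = -64 := by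
    have := sB_twelve_left h.wd ω hw3
    rw [← hw] at this
    omega
  have hz : (2 : ℤ) • ω + M *ᵥ w = 0 := by
    refine eq_zero_of_sB ?_
    rw [sB_add_left, sB_add_right, sB_add_right, sB_smul_left, sB_smul_left, sB_smul_right,
      sB_smul_right, sB_comm (M *ᵥ w) ω, hwω, hω0, hwv.2, hc]
    norm_num
  have h2 : In3 M ((2 : ℤ) • ω) := by
    rw [eq_neg_of_add_eq_zero_left hz, In3, app, Matrix.mulVec_neg]
    exact neg_eq_zero.2 hw3.map
  rw [In3, app_smul] at h2
  exact (smul_eq_zero.1 h2).resolve_left (by norm_num)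

omit [Fact r.Prime] in
/-- Two minimal weights of one class in the plane differ by a power of the matrix. -/
theorem weight_unique {μ μ' : V} (hμ : sB μ μ = 32) (hμ' : sB μ' μ' = 32) (h3 : In3 M μ)
    (h3' : In3 M μ') (hQ : InQ (μ' - μ)) : μ' = μ ∨ μ' = M *ᵥ μ ∨ μ' = M ^ 2 *ᵥ μ := by
  have key : ∀ ν, sB ν ν = 32 → In3 M ν → InQ (μ' - ν) → μ' = ν ∨ sB μ' ν = -16 := by
    intro ν hν hν3 hνQ
    obtain ⟨n, hn⟩ := dvd_sB hνQ μ'
    rw [sB_sub_left, hμ', sB_comm ν μ'] at hn
    have hab := abs_sB_le hμ' hν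
    rcases (by omega : sB μ' ν = 32 ∨ sB μ' ν = 8 ∨ sB μ' ν = -16) with h1 | h1 | h1
    · left
      refine sub_eq_zero.1 (eq_zero_of_sB ?_)
      rw [sB_sub_left, sB_sub_right, sB_sub_right, hμ', hν, sB_comm ν μ', h1]; norm_num
    · refine absurd odd_one (no_odd h.wd h.cp hνQ (h3'.sub hν3) (j := 1) ?_)
      rw [sB_sub_left, sB_sub_right, sB_sub_right, hμ', hν, sB_comm ν μ', h1]; norm_num
    · exact Or.inr h1
  have hQ1 : InQ (μ' - M *ᵥ μ) := by
    convert hQ.add (h.wd.modQ μ) using 1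
    abel
  have hQ2 : InQ (μ' - M ^ 2 *ᵥ μ) := by
    convert hQ1.add (h.wd.modQ (M *ᵥ μ)) using 1
    rw [Matrix.mulVec_mulVec, ← pow_two]
    abel
  rcases key μ hμ h3 hQ with h1 | h1
  · exact Or.inl h1
  rcases key _ (by rw [sB_M h.wd, hμ]) h3.map hQ1 with h2 | h2
  · exact Or.inr (Or.inl h2)
  rcases key (M ^ 2 *ᵥ μ) (by rw [sB_pow h.wd, hμ])
      (by rw [pow_two, ← Matrix.mulVec_mulVec]; exact h3.map.map) hQ2 with h4 | h4
  · exact Or.inr (Or.inr h4)
  exfalso
  have := congrArg (sB μ') (sum_three h3)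
  rw [sB_add_right, sB_add_right, sB_zero_right, h1, h2, h4] at this
  norm_num at this

end Cfsg.Agent.SimpleFacts.SingerCentre.Six
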