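import Cfsg.Agent.SimpleFacts.SingerCentre.Lift
import Cfsg.Agent.SimpleFacts.SingerCentre.SixRegular
import Cfsg.Agent.Lib.Chevalley.Cover.CenterE6

/-!
An element whose order is a primitive prime divisor for twelve, inside the torus of type E6 over the
extension of degree twelve.
-/

set_option autoImplicit false

open scoped Matrix

namespace Cfsg.Agent.SimpleFacts.SingerCentre.Six

open Cfsg.Lie Cfsg.Agent.Chevalley Cfsg.Agent.Chevalley.Table Cfsg.Agent.Chevalley.Check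
  Cfsg.Agent.Chevalley.Cert Cfsg.Agent.Chevalley.Group Cfsg.Agent.Chevalley.Borel
  Cfsg.Agent.Chevalley.Weyl Cfsg.Agent.Chevalley.TorusCard Cfsg.Agent.Chevalley.FieldAut
  Cfsg.Agent.Chevalley.FieldFix Cfsg.Agent.Chevalley.Singer Cfsg.Agent.Chevalley.NormalForm
  Cfsg.Agent.Chevalley.WeylGroup

theorem hC6 : Certified chevE6 Cfsg.Agent.Chevalley.Data.E6.tab :=
  Cfsg.Agent.Chevalley.Types.E6.certified

theorem det6_ne : (cartanMat chevE6).det ≠ 0 := by
  rw [show (cartanMat chevE6).det = 3 from (congrArg Matrix.det cartan_eq).trans det_CM]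
  norm_num

theorem card_ker6 (G : Type*) [CommGroup G] [Finite G] [IsCyclic G] :
    Nat.card (matHom (G := G) (cartanMat chevE6)).ker = Nat.gcd (Nat.card G) 3 := by
  refine (TorusCard.card_ker_matHom (G := G) Types.OrderE6.hP Types.OrderE6.hQ Types.OrderE6.hQ'
    Types.OrderE6.hdiag).trans ?_
  simp [Fin.prod_univ_succ, Types.OrderE6.ed]

theorem pack6 : Pack chevE6 Cfsg.Agent.Chevalley.Data.E6.tab 3 where
  cert := hC6
  certs := ⟨⟨_, Types.CoefE6.coef_ok⟩, ⟨_, Types.StCerts.conj_E6⟩⟩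
  sym := Cover.K2.sym_E6
  prime := Nat.prime_three
  center_dvd E _ _ := by rw [Cover.CenterE6.center_card]; exact Nat.gcd_dvd_left _ _
  center_eq E _ _ := by
    rw [Cover.CenterE6.center_card, card_ker6, Nat.card_units, Nat.card_eq_fintype_card,
      Nat.gcd_comm]
  det_ne := det6_ne

theorem card_W6 : Nat.card (WG hC6) = 51840 := by
  rw [card_WG hC6 Types.WE6.chain_ok Types.WE6.top_ok]
  decide +kernel

theorem prime_not_dvd {r n : ℕ} (hr : r.Prime) (hrb : 13 ≤ r) (h : n ∣ Nat.factorial 12 ^ 20) :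
    ¬ r ∣ n :=
  not_dvd_of_big (k := 20) hr hrb (by norm_num) h

/-- The weight coordinates of a root, on six letters. -/
def lam6 (s : ℕ) : V := lam chevE6 s

theorem root_check : ∀ s : Fin 72, lam6 (s : ℕ) = CM *ᵥ (fun j => cor chevE6 (s : ℕ) (j : ℕ) : V) ∧
    sB (lam6 (s : ℕ)) (lam6 (s : ℕ)) = 48 := by
  unfold sB
  decide +kernel

/-- Roots lie in the root lattice and have one length. -/
theorem root_facts {s : ℕ} (hs : s < chevE6.nroots) :
    InQ (lam chevE6 s) ∧ sB (lam chevE6 s) (lam chevE6 s) = 48 :=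
  ⟨⟨_, (root_check ⟨s, hs⟩).1⟩, (root_check ⟨s, hs⟩).2⟩

/-- The evaluation of a tuple of powers of one unit. -/
theorem evW_zpow {D : ChevalleyDatum} {K : Type*} [Field K] {r : ℕ} {ζ : Kˣ} (hζ : orderOf ζ = r)
    {c : Fin D.rank → Kˣ} {va : Fin D.rank → ℤ} (hc : ∀ i, c i = ζ ^ va i) (x y : Fin D.rank → ℤ) :
    evW c x = evW c y ↔ ((fun i => (va i : ZMod r)) ⬝ᵥ fun i => (x i : ZMod r)) =
      (fun i => (va i : ZMod r)) ⬝ᵥ fun i => (y i : ZMod r) := by
  have h : ∀ x, evW c x = ζ ^ (∑ i, va i * x i) := fun x => by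
    rw [evW, ← prod_zpow_sum]
    exact Finset.prod_congr rfl fun i _ => by rw [hc, zpow_mul]
  rw [h, h, zpow_eq_zpow_iff_modEq, hζ, ← ZMod.intCast_eq_intCast_iff]
  simp [dotProduct]

/-- What the seed element provides. -/
structure Seed (F : Type*) (K : Type) [Field F] [Field K] (σ : K →+* K) (q r : ℕ) [Fact r.Prime]
    where
  gv : GL chevE6.Idx K
  mem : gv ∈ chevE6.group K
  L : List ℕ
  valid : ∀ i ∈ L, i < chevE6.rank
  h0 : GL chevE6.Idx K
  h0_mem : h0 ∈ chevE6.diagonalSubgroup K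
  twist : gv⁻¹ * mapGL chevE6 σ gv = h0 * nL hC6 K L
  v : Fin 6 → ZMod r
  res : Res (M6 L) r q v
  c : Fin chevE6.rank → Kˣ
  c_mem : c ∈ gam (wMat chevE6 L) K q
  ev_iff : ∀ x y : V, evW c x = evW c y ↔ ev v x = ev v y

theorem exists_seed {F : Type*} [Field F] [Fintype F] {K : Type} [Field K] [Fintype K]
    (f : F →+* K) (σ : K →+* K) {q : ℕ} (hq : Fintype.card F = q)
    (hQ : Fintype.card K = q ^ 12) (hσf : ∀ t, σ (f t) = f t) (hσq : ∀ x, σ x = x ^ q)
    {r : ℕ} [Fact r.Prime] (hrb : 13 ≤ r) (hord : orderOf (q : ZMod r) = 12) :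
    Nonempty (Seed F K σ q r) := by
  classical
  have hC := hC6
  have hr : r.Prime := Fact.out
  have hq1 : 1 ≤ q := hq ▸ Fintype.card_pos
  have hQr : ((q ^ 12 : ℕ) : ZMod r) = 1 := by rw [Nat.cast_pow, ← hord, pow_orderOf_eq_one]
  have hgcd : ∀ Q : ℕ, ∏ i, Nat.gcd (Q - 1) (Types.OrderE6.ed i) = Nat.gcd (Q - 1) 3 := fun Q => by
    simp [Fin.prod_univ_succ, Types.OrderE6.ed]
  have hr3 : ¬ r ∣ 3 := prime_not_dvd hr hrb (by decide +kernel)
  -- the element
  have hrG : r ∣ Nat.card (chevE6.group F) := by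
    have h := Types.OrderE6.card_group F
    rw [hgcd, hq] at h
    have h1 : r ∣ q ^ 36 * (([2, 5, 6, 8, 9, 12] : List ℕ).map fun d => q ^ d - 1).prod := by
      refine dvd_mul_of_dvd_right (Dvd.dvd.trans ?_
        (List.dvd_prod (List.mem_map_of_mem (show (12 : ℕ) ∈ [2, 5, 6, 8, 9, 12] by decide)))) _
      rw [← ZMod.natCast_eq_zero_iff, Nat.cast_sub (Nat.one_le_pow _ _ hq1), Nat.cast_pow,
        ← hord, pow_orderOf_eq_one, Nat.cast_one, sub_self]
    rw [← h] at h1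
    exact ((Nat.Prime.dvd_mul hr).1 h1).resolve_left fun h' => hr3 (h'.trans (Nat.gcd_dvd_right _ _))
  obtain ⟨y, hy⟩ := exists_prime_orderOf_dvd_card' r hrG
  obtain ⟨yK, hyK⟩ : ∃ yK : chevE6.group K, (yK : GL chevE6.Idx K) = mapGL chevE6 f y :=
    ⟨⟨_, map_mem_group f y.2⟩, rfl⟩
  have hyr : orderOf yK = r := by
    rw [← Subgroup.orderOf_coe, hyK, orderOf_injective (mapGL chevE6 f) (mapGL_injective f),
      Subgroup.orderOf_coe, hy]
  have hidx : ¬ r ∣ ((chevE6.diagonalSubgroup K).subgroupOf (chevE6.group K)).index := by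
    have hmul := Subgroup.card_mul_index ((chevE6.diagonalSubgroup K).subgroupOf (chevE6.group K))
    rw [Nat.card_congr (Subgroup.subgroupOfEquivOfLe (H_le_group hC)).toEquiv] at hmul
    have hH := Types.OrderE6.card_H K
    have hG := Types.OrderE6.card_group K
    rw [hgcd] at hH hG
    rw [← hmul, ← mul_assoc, hH] at hG
    have hgeom : ∀ L : List ℕ, (L.map fun j => Fintype.card K ^ j - 1).prod =
        (Fintype.card K - 1) ^ L.length *
          (L.map fun j => ∑ i ∈ Finset.range j, Fintype.card K ^ i).prod := by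
      intro L
      induction L with
      | nil => simp
      | cons j L ih =>
        have hj : Fintype.card K ^ j - 1 =
            (∑ i ∈ Finset.range j, Fintype.card K ^ i) * (Fintype.card K - 1) := by
          have h1 : 1 ≤ Fintype.card K := Fintype.card_pos
          zify [Nat.one_le_pow j _ Fintype.card_pos, h1]
          exact (geom_sum_mul _ _).symm
        rw [List.map_cons, List.prod_cons, ih, hj, List.map_cons, List.prod_cons, List.length_cons,
          pow_succ]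
        ring
    rw [hgeom, show ([2, 5, 6, 8, 9, 12] : List ℕ).length = 6 from rfl, mul_left_comm] at hG
    have hidx' := Nat.eq_of_mul_eq_mul_left
      (Nat.pow_pos (Nat.sub_pos_of_lt (Fintype.one_lt_card (α := K)))) hG
    rw [hidx', ← ZMod.natCast_eq_zero_iff, Nat.cast_mul, Nat.cast_pow, hQ, hQr, one_pow, one_mul,
      Nat.cast_list_prod, List.map_map]
    rw [show ([2, 5, 6, 8, 9, 12] : List ℕ).map (Nat.cast ∘ fun j => ∑ i ∈ Finset.range j, (q ^ 12) ^ i) =
        ([2, 5, 6, 8, 9, 12] : List ℕ).map (fun j : ℕ => (j : ZMod r)) by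
          refine List.map_congr_left fun j _ => ?_
          rw [Function.comp_apply, Nat.cast_sum]
          simp only [Nat.cast_pow] at hQr ⊢
          simp [hQr],
      ← Nat.cast_list_prod, ZMod.natCast_eq_zero_iff]
    exact prime_not_dvd hr hrb (by decide +kernel)
  obtain ⟨g, hg⟩ := exists_conj_mem _ hidx hyr
  rw [Subgroup.mem_subgroupOf] at hg
  obtain ⟨c1, hc1⟩ := (mem_H_iff hC).1 hg
  obtain ⟨gv, hgv⟩ : ∃ gv : GL chevE6.Idx K, gv = g := ⟨_, rfl⟩
  have hgG : gv ∈ chevE6.group K := hgv ▸ g.2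
  have hconj : gv⁻¹ * mapGL chevE6 f y * gv = tor chevE6 c1 := by
    rw [← hc1, hgv, ← hyK, Subgroup.coe_mul, Subgroup.coe_mul, Subgroup.coe_inv]
  -- a representative of order `r`
  obtain ⟨k, hk⟩ : ∃ k : ℕ, ((3 * k : ℕ) : ZMod r) = 1 := by
    refine ⟨((3 : ZMod r)⁻¹).val, ?_⟩
    rw [Nat.cast_mul, ZMod.natCast_zmod_val, Nat.cast_ofNat,
      mul_inv_cancel₀ (fun e => hr3 ((ZMod.natCast_eq_zero_iff _ _).1 (by simpa using e)))]
  obtain ⟨c, hc⟩ : ∃ c : Fin chevE6.rank → Kˣ, c = (fun i : Fin chevE6.rank => c1 i) ^ (3 * k) := ⟨_, rfl⟩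
  have hyp : ∀ e : ℕ, (gv⁻¹ * mapGL chevE6 f (y : GL chevE6.Idx F) * gv) ^ e =
      gv⁻¹ * mapGL chevE6 f y ^ e * gv := fun e => by
    rw [show gv⁻¹ * mapGL chevE6 f y * gv = gv⁻¹ * mapGL chevE6 f y * gv⁻¹⁻¹ by rw [inv_inv],
      conj_pow, inv_inv]
  have hyF : (mapGL chevE6 f (y : GL chevE6.Idx F)) ^ r = 1 := by
    rw [← map_pow, ← SubgroupClass.coe_pow, ← hy, pow_orderOf_eq_one]; simp
  have hctor : torHom chevE6 K c = tor chevE6 c1 := by
    obtain ⟨j, hj⟩ : ∃ j, 3 * k = 1 + r * j := by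
      have h0 : 1 ≤ 3 * k := Nat.pos_of_ne_zero fun e => by simp [e] at hk
      have : r ∣ 3 * k - 1 := by
        rw [← ZMod.natCast_eq_zero_iff, Nat.cast_sub h0, hk, Nat.cast_one, sub_self]
      obtain ⟨j, hj⟩ := this
      exact ⟨j, by omega⟩
    rw [hc, map_pow, torHom_eq hC, hj, ← hconj, hyp, pow_add, pow_mul, hyF, one_pow, mul_one, pow_one]
  have hcr : c ^ r = 1 := by
    have h1 : ((fun i : Fin chevE6.rank => c1 i) ^ r) ∈ (torHom chevE6 K).ker := by
      rw [MonoidHom.mem_ker, map_pow, torHom_eq hC, ← hconj, hyp, hyF]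
      group
    rw [ker_torHom hC, MonoidHom.mem_ker] at h1
    have h2 : ((fun i : Fin chevE6.rank => c1 i) ^ r) ^ 3 = 1 := by
      have h3 := congrArg (matHom (G := Kˣ) (cartanMat chevE6).adjugate) h1
      rw [← matHom_mul, map_one, Matrix.adjugate_mul,
        show (cartanMat chevE6).det = 3 from (congrArg Matrix.det cartan_eq).trans det_CM] at h3
      refine funext fun j => ?_
      have h4 := congrFun h3 j
      rw [matHom_apply, Finset.prod_eq_single j] at h4
      · simpa [zpow_ofNat] using h4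
      · intro i _ hi; simp [Ne.symm hi]
      · simp
    rw [hc, ← pow_mul, mul_comm (3 * k) r, ← mul_assoc, pow_mul, pow_mul, h2, one_pow]
  obtain ⟨ζ, hζ⟩ : ∃ ζ : Kˣ, orderOf ζ = r := exists_prime_orderOf_dvd_card' r (by
    rw [Nat.card_units, Nat.card_eq_fintype_card, hQ, ← ZMod.natCast_eq_zero_iff,
      Nat.cast_sub (Nat.one_le_pow _ _ hq1), hQr, Nat.cast_one, sub_self])
  have hvex : ∀ i : Fin chevE6.rank, ∃ a : ℤ, c i = ζ ^ a := fun i => by
    have hp' : IsPrimitiveRoot (ζ : K) r := by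
      rw [← hζ, ← orderOf_units]; exact IsPrimitiveRoot.orderOf _
    obtain ⟨a, -, ha⟩ := hp'.eq_pow_of_pow_eq_one (ξ := (c i : K))
      (by rw [← Units.val_pow_eq_pow_val, ← Pi.pow_apply, hcr]; simp)
    exact ⟨a, Units.ext (by rw [zpow_natCast, Units.val_pow_eq_pow_val, ha])⟩
  choose va hva using hvex
  obtain ⟨v, hv⟩ : ∃ v : Fin 6 → ZMod r, v = fun i => (va i : ZMod r) := ⟨_, rfl⟩
  have hiff : ∀ x z : V, evW c x = evW c z ↔ ev v x = ev v z := fun x z => by
    exact (evW_zpow hζ hva x z).trans (by rw [hv]; rfl)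
  have hev : ∀ (d : Fin chevE6.rank → Kˣ) (s : ℕ), evW d (lam chevE6 s) =
      torChar chevE6 (TorusCard.ext d) s := fun d s => evW_lam d s
  have hv0 : v ≠ 0 := fun e => by
    have h1 : c = 1 := funext fun i => by
      rw [← evW_single c i, Pi.one_apply]
      exact ((hiff (Pi.single i 1) 0).2 (by simp [ev, e])).trans
        (Finset.prod_eq_one fun j _ => zpow_zero _)
    rw [h1, map_one] at hctor
    have h2 : mapGL chevE6 f (y : GL chevE6.Idx F) = 1 := by
      rw [← hctor] at hconj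
      rw [show mapGL chevE6 f y = gv * (gv⁻¹ * mapGL chevE6 f y * gv) * gv⁻¹ by group, hconj]
      group
    rw [← map_one (mapGL chevE6 f)] at h2
    have h3 : orderOf y = 1 := orderOf_eq_one_iff.2 (Subtype.ext (mapGL_injective f h2))
    rw [hy] at h3
    exact hr.one_lt.ne' h3
  -- the twist
  have hσc : mapGL chevE6 σ (torHom chevE6 K c) = torHom chevE6 K (c ^ q) := by
    show mapGL chevE6 σ (tor chevE6 (TorusCard.ext c)) = tor chevE6 (TorusCard.ext (c ^ q))
    rw [mapGL_tor]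
    congr 1
    funext i
    refine Units.ext ?_
    simp only [TorusCard.ext, Units.coe_map, MonoidHom.coe_coe, hσq, Pi.pow_apply]
    split <;> simp
  obtain ⟨n0, hn0⟩ : ∃ n0, n0 = gv⁻¹ * mapGL chevE6 σ gv := ⟨_, rfl⟩
  have hn0G : n0 ∈ chevE6.group K := hn0 ▸ mul_mem (inv_mem hgG) (map_mem_group σ hgG)
  have hn0c : n0 * torHom chevE6 K (c ^ q) * n0⁻¹ = torHom chevE6 K c := by
    have h1 := congrArg (mapGL chevE6 σ) hconj
    rw [← hctor, hσc, map_mul, map_mul, map_inv] at h1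
    rw [← h1, hn0, hctor, ← hconj]
    have h2 : mapGL chevE6 σ (mapGL chevE6 f (y : GL chevE6.Idx F)) = mapGL chevE6 f y :=
      Units.ext (Matrix.ext fun a b => hσf _)
    rw [h2]
    group
  obtain ⟨nn, hnn, hnc⟩ := conj_in_N hC (tor_mem_H hC (TorusCard.ext (c ^ q)))
    (tor_mem_H hC (TorusCard.ext c)) hn0G hn0c
  obtain ⟨dd, L, hL, rfl⟩ := (mem_N_iff hC).1 hnn
  have hwd := isWd_wMat hL
  have hchar : ∀ s < chevE6.nroots, evW c (lam chevE6 (wL chevE6 L s)) =
      evW c (lam chevE6 s) ^ q := fun s hs => by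
    rw [hev, char_of_conj hC hL hnc hs, ← hev, evW_pow]
  have hCu : IsUnit ((cartanMat chevE6)ᵀ.map (Int.cast : ℤ → ZMod r)).det := by
    rw [isUnit_iff_ne_zero]
    intro h0
    have h1 : ((((cartanMat chevE6)ᵀ).det : ℤ) : ZMod r) = 0 :=
      (RingHom.map_det (Int.castRingHom (ZMod r)) _).trans h0
    rw [Matrix.det_transpose,
      show (cartanMat chevE6).det = 3 from (congrArg Matrix.det cartan_eq).trans det_CM] at h1
    exact hr3 ((ZMod.natCast_eq_zero_iff 3 r).1 (by exact_mod_cast h1))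
  have hCinj : ∀ a b : Fin chevE6.rank → ZMod r, (∀ j : Fin chevE6.rank,
      (a ⬝ᵥ fun i => (lam chevE6 (chevE6.simple j) i : ZMod r)) =
        b ⬝ᵥ fun i => (lam chevE6 (chevE6.simple j) i : ZMod r)) → a = b := by
    intro a b h
    have h1 : a ᵥ* (cartanMat chevE6)ᵀ.map Int.cast = b ᵥ* (cartanMat chevE6)ᵀ.map Int.cast :=
      funext fun j => h j
    have h2 := congrArg (· ᵥ* ((cartanMat chevE6)ᵀ.map (Int.cast : ℤ → ZMod r))⁻¹) h1
    simpa [Matrix.vecMul_vecMul, Matrix.mul_nonsing_inv _ hCu] using h2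
  have evq : ∀ x : V, ev v (((q : ℕ) : ℤ) • x) = (q : ZMod r) * ev v x := fun x => by
    simp [ev, dotProduct, Finset.mul_sum, mul_left_comm]
  have heig : v ᵥ* (M6 L).map Int.cast = (q : ZMod r) • v := by
    refine hCinj _ _ fun j => ?_
    have hs := hC.simple_lt j.2
    obtain ⟨μ, hμ⟩ : ∃ μ : V, μ = lam chevE6 (chevE6.simple j) := ⟨_, rfl⟩
    have e : M6 L *ᵥ μ = lam chevE6 (wL chevE6 L (chevE6.simple j)) := by
      rw [hμ]; exact wMat_lam hC hL hs
    have h2 := hchar _ hs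
    rw [← zpow_natCast, ← evW_smul, ← hμ] at h2
    have h1 : ev v (M6 L *ᵥ μ) = (q : ZMod r) * ev v μ := by
      rw [e, ← evq]
      exact (hiff _ _).1 h2
    rw [ev_mul] at h1
    rw [← hμ]
    refine h1.trans ?_
    simp only [ev, dotProduct, Finset.mul_sum]
    exact Finset.sum_congr rfl fun i _ => (mul_assoc _ _ _).symm
  have hM : ∀ m, M6 L ^ m = 1 → 0 < m → ∃ m', M6 L ^ m' = 1 ∧ ¬ r ∣ m' := fun m _ _ =>
    ⟨Nat.card (WG hC), wMat_pow_card hC det6_ne hL,
      by rw [card_W6]; exact prime_not_dvd hr hrb (by decide +kernel)⟩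
  have res : Res (M6 L) r q v :=
    ⟨hwd, charpoly_eq_six hwd hM hord hv0 heig, hord, hrb, hv0, heig⟩
  -- regularity
  have hreg : ∀ s < chevE6.nroots, ev v (lam chevE6 s) ≠ 0 := fun s hs =>
    regular res (root_facts hs).1 (root_facts hs).2
  have hregc : ∀ s < chevE6.nroots, torChar chevE6 (TorusCard.ext c) s ≠ 1 := fun s hs h => by
    refine hreg s hs ?_
    have h1 : evW c (lam chevE6 s) = evW c (0 : V) := by
      rw [hev, h]; exact (Finset.prod_eq_one fun i _ => zpow_zero _).symm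
    rw [(hiff _ _).1 h1]; simp [ev]
  have hstab : ∀ L' : List ℕ, (∀ i ∈ L', i < chevE6.rank) →
      (∀ s < chevE6.nroots, torChar chevE6 (TorusCard.ext c) (wL chevE6 L' s) =
        torChar chevE6 (TorusCard.ext c) s) → ∀ s < chevE6.nroots, wL chevE6 L' s = s := by
    intro L' hL' h
    refine eqv_nil_of_fix hC det6_ne (r := r) (by rw [card_W6]; exact prime_not_dvd hr hrb (by decide +kernel))
      hL' (v := v) (hCinj _ _ fun j => ?_) hreg
    have hs := hC.simple_lt j.2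
    have h1 := h _ hs
    rw [← hev, ← hev] at h1
    have h2 := (hiff _ _).1 h1
    obtain ⟨μ, hμ⟩ : ∃ μ : V, μ = lam chevE6 (chevE6.simple j) := ⟨_, rfl⟩
    have e : M6 L' *ᵥ μ = lam chevE6 (wL chevE6 L' (chevE6.simple j)) := by
      rw [hμ]; exact wMat_lam hC hL' hs
    rw [← e, ← hμ, ev_mul] at h2
    rw [← hμ]
    exact h2
  obtain ⟨h0, hh0, hn0e⟩ : ∃ h0 ∈ chevE6.diagonalSubgroup K,
      n0 = h0 * nL hC K L := by
    obtain ⟨m, hm⟩ : ∃ m, m = tor chevE6 dd * nL hC K L := ⟨_, rfl⟩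
    have hh : n0 * m⁻¹ ∈ chevE6.diagonalSubgroup K := by
      refine mem_H_of_commute hC hregc hstab (mul_mem hn0G (inv_mem (N_le_group hC (hm ▸ hnn)))) ?_
      have h2 : m⁻¹ * (tor chevE6 (TorusCard.ext c))⁻¹ =
          (tor chevE6 (TorusCard.ext (c ^ q)))⁻¹ * m⁻¹ := by
        rw [← hm] at hnc; rw [← hnc]; group
      calc tor chevE6 (TorusCard.ext c) * (n0 * m⁻¹) * (tor chevE6 (TorusCard.ext c))⁻¹
          = tor chevE6 (TorusCard.ext c) * n0 * (m⁻¹ * (tor chevE6 (TorusCard.ext c))⁻¹) := by group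
        _ = tor chevE6 (TorusCard.ext c) * n0 *
              ((tor chevE6 (TorusCard.ext (c ^ q)))⁻¹ * m⁻¹) := by rw [h2]
        _ = n0 * torHom chevE6 K (c ^ q) * n0⁻¹ * n0 *
              ((tor chevE6 (TorusCard.ext (c ^ q)))⁻¹ * m⁻¹) := by rw [hn0c]; rfl
        _ = _ := by show n0 * tor chevE6 (TorusCard.ext (c ^ q)) * n0⁻¹ * n0 * _ = _; group
    refine ⟨n0 * m⁻¹ * tor chevE6 dd, mul_mem hh (tor_mem_H hC dd), ?_⟩
    rw [mul_assoc, ← hm]
    group
  refine ⟨⟨gv, hgG, L, hL, h0, hh0, by rw [← hn0e, hn0], v, res, c, ?_, hiff⟩⟩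
  intro x
  rw [← zpow_natCast, ← evW_smul]
  obtain ⟨μ, hμ⟩ : ∃ μ : V, μ = x := ⟨_, rfl⟩
  subst hμ
  refine (hiff (M6 L *ᵥ μ) _).2 ?_
  refine Eq.trans ?_ (evq μ).symm
  rw [ev_mul, heig, smul_dotProduct, smul_eq_mul, ev]

theorem fix_of_chars {F : Type*} {K : Type} [Field F] [Field K] {σ : K →+* K} {q r : ℕ}
    [Fact r.Prime] (hr : r.Prime) (hrb : 13 ≤ r) (S : Seed F K σ q r) {L' : List ℕ}
    (hL' : ∀ i ∈ L', i < chevE6.rank)
    (h : ∀ s < chevE6.nroots, evW S.c (lam chevE6 (wL chevE6 L' s)) = evW S.c (lam chevE6 s)) :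
    S.v ᵥ* (M6 L').map Int.cast = S.v := by
  obtain ⟨u, hu⟩ : ∃ u, u = S.v ᵥ* (M6 L').map Int.cast - S.v := ⟨_, rfl⟩
  have hu0 : ∀ j : Fin 6, ev u (simp6 j) = 0 := by
    intro j
    have hs := hC6.simple_lt (i := (j : ℕ)) j.2
    have e : M6 L' *ᵥ simp6 j = lam6 (wL chevE6 L' (chevE6.simple j)) := by
      rw [simp6_eq]; exact wMat_lam hC6 hL' hs
    have h2 : ev S.v (lam6 (wL chevE6 L' (chevE6.simple j))) = ev S.v (lam6 (chevE6.simple j)) :=
      (S.ev_iff _ _).1 (h _ hs)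
    rw [← e, ev_mul, show lam6 (chevE6.simple j) = simp6 j from (simp6_eq j).symm] at h2
    rw [hu, ev, sub_dotProduct, h2, ev, sub_self]
  have hd : ((CM.det : ℤ) : ZMod r) ≠ 0 := by
    rw [det_CM]
    intro e
    exact prime_not_dvd hr hrb (n := 3) (by decide +kernel)
      ((ZMod.natCast_eq_zero_iff 3 r).1 (by exact_mod_cast e))
  refine sub_eq_zero.1 (hu ▸ Matrix.eq_zero_of_vecMul_eq_zero (M := CM.map (Int.cast : ℤ → ZMod r))
    (fun e => hd ((RingHom.map_det (Int.castRingHom (ZMod r)) CM).trans e)) (funext fun j => ?_))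
  have h3 := hu0 j
  rw [ev, simp6, Matrix.mulVec_single_one] at h3
  exact h3

end Cfsg.Agent.SimpleFacts.SingerCentre.Six
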