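import Cfsg.Agent.SimpleFacts.SingerCentre.SevenTwist
import Cfsg.Agent.SimpleFacts.SingerCentre.Final

/-!
No root is trivial on the twisted torus of type E7 and only the trivial word fixes it pointwise.
-/

set_option autoImplicit false

open scoped Matrix

namespace Cfsg.Agent.SimpleFacts.SingerCentre.Seven

open Cfsg.Lie Cfsg.Agent.Chevalley Cfsg.Agent.Chevalley.Table Cfsg.Agent.Chevalley.Check
  Cfsg.Agent.Chevalley.Cert Cfsg.Agent.Chevalley.Group Cfsg.Agent.Chevalley.Borel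
  Cfsg.Agent.Chevalley.Weyl Cfsg.Agent.Chevalley.Singer Cfsg.Agent.Chevalley.TorusCard
  Cfsg.Agent.Chevalley.WeylGroup Cfsg.Agent.SimpleFacts.SingerCentre.Six

theorem card_W7 : Nat.card (WG hC7) = 2903040 := by
  rw [card_WG hC7 Types.WE7.chain_ok Types.WE7.top_ok]
  decide +kernel

variable {D : ChevalleyDatum} {F : Type*} [Field F]

theorem evW_neg (c : Fin D.rank → Fˣ) (x : Fin D.rank → ℤ) : evW c (-x) = (evW c x)⁻¹ := by
  rw [← neg_one_smul ℤ x, evW_smul, zpow_neg_one]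

theorem evW_zero (c : Fin D.rank → Fˣ) : evW c 0 = 1 :=
  Finset.prod_eq_one fun i _ => zpow_zero _

variable {K : Type} [Field K] {σ : K →+* K} {q r : ℕ} [Fact r.Prime] {S : Seed7 K σ q r}
  (W : Twist7 S)

/-- The orbit on a point of the torus. -/
theorem gam_orb {c : Fin chevE7.rank → Kˣ} (hc : c ∈ gam (wMat chevE7 W.L) K q) (k : Fin 3) :
    evW c (lam7 (S.orb k)) = evW c (lam7 (S.orb 0)) ^ q ^ (k : ℕ) ∧
      evW c (lam7 (S.orb 0)) ^ (q ^ 3 + 1) = 1 := by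
  obtain ⟨h0, h1, h2⟩ := twist_orb W
  have a0 : evW c (lam7 (S.orb 1)) = evW c (lam7 (S.orb 0)) ^ q :=
    (congrArg (evW c) h0).symm.trans (hc _)
  have a1 : evW c (lam7 (S.orb 2)) = evW c (lam7 (S.orb 0)) ^ q ^ 2 := by
    have h : evW c (lam7 (S.orb 2)) = evW c (lam7 (S.orb 1)) ^ q :=
      (congrArg (evW c) h1).symm.trans (hc _)
    rw [a0, ← pow_mul, ← pow_two] at h
    exact h
  have a2 : evW c (lam7 (S.orb 0)) ^ q ^ 3 = (evW c (lam7 (S.orb 0)))⁻¹ := by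
    have h : evW c (-lam7 (S.orb 0)) = evW c (lam7 (S.orb 2)) ^ q :=
      (congrArg (evW c) h2).symm.trans (hc _)
    have hn : evW c (-lam7 (S.orb 0)) = (evW c (lam7 (S.orb 0)))⁻¹ := evW_neg c _
    rw [hn, a1, ← pow_mul, ← pow_succ] at h
    exact h.symm
  refine ⟨?_, by rw [pow_succ, a2, inv_mul_cancel]⟩
  fin_cases k
  · exact (pow_one _).symm.trans (congrArg _ (pow_zero q).symm)
  · exact a0.trans (congrArg _ (pow_one q).symm)
  · exact a1

/-- The value on the first root has large order at a generator. -/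
theorem orb_order {c0 : Fin chevE7.rank → Kˣ} (hc0 : c0 ∈ gam (wMat chevE7 W.L) K q)
    (ho : orderOf c0 = (q ^ 4 - q ^ 2 + 1) * (q ^ 3 + 1)) :
    q ^ 3 + 1 ∣ 2 * orderOf (evW c0 (lam7 (S.orb 0))) := by
  obtain ⟨j, hj⟩ : ∃ j, j = orderOf (evW c0 (lam7 (S.orb 0))) := ⟨_, rfl⟩
  rw [← hj]
  obtain ⟨d, hd⟩ : ∃ d, d = c0 ^ j := ⟨_, rfl⟩
  have hd0 : evW d (lam7 (S.orb 0)) = 1 := by
    have h : evW (c0 ^ j) (lam7 (S.orb 0)) = evW c0 (lam7 (S.orb 0)) ^ j :=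
      evW_pow c0 j _
    rw [hd, h, hj, pow_orderOf_eq_one]
  have hdM : ∀ x : V7, evW d (M7 S.L *ᵥ x) = evW d x ^ q := fun x => by
    have hdmem : d ∈ gam (wMat chevE7 W.L) K q := hd ▸ pow_mem hc0 j
    refine Eq.trans ?_ (hdmem x)
    have e : (wMat chevE7 W.L *ᵥ x : Fin chevE7.rank → ℤ) =
        M7 S.L *ᵥ x + (-(cor7 (S.orb 0) ⬝ᵥ (M7 S.L *ᵥ x))) • lam7 (S.orb 0) := by
      refine (W.act x).trans ?_
      rw [neg_smul, sub_eq_add_neg]
    rw [e]
    refine Eq.trans ?_ (evW_add d _ _).symm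
    have h1 : evW d ((-(cor7 (S.orb 0) ⬝ᵥ (M7 S.L *ᵥ x))) • lam7 (S.orb 0)) = 1 :=
      (evW_smul d _ _).trans (by rw [hd0, one_zpow])
    exact ((congrArg _ h1).trans (mul_one _)).symm
  obtain ⟨A, hA⟩ : ∃ A, A = Matrix.scalar (Fin 7) (q : ℤ) - M7 S.L := ⟨_, rfl⟩
  have hAx : ∀ x : V7, evW d (A *ᵥ x) = 1 := fun x => by
    have e : A *ᵥ x = (q : ℤ) • x + -(M7 S.L *ᵥ x) := by
      rw [hA, Matrix.sub_mulVec, sub_eq_add_neg]
      congr 1
      funext i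
      simp
    refine ((congrArg (evW d) e).trans (evW_add d _ _)).trans ?_
    have h1 : evW d ((q : ℤ) • x) = evW d x ^ q := (evW_smul d _ _).trans (zpow_natCast _ _)
    have h2 : evW d (-(M7 S.L *ᵥ x)) = (evW d x ^ q)⁻¹ :=
      (evW_neg d _).trans (congrArg (·⁻¹) (hdM x))
    exact (congrArg₂ (· * ·) h1 h2).trans (mul_inv_cancel _)
  have hdet : d ^ A.det = 1 := funext fun i => by
    have hi : evW d (Pi.single i (1 : ℤ) : V7) = d i := evW_single d i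
    have h1 : evW d (A.det • (Pi.single i (1 : ℤ) : V7)) = 1 := by
      have e : A *ᵥ (A.adjugate *ᵥ (Pi.single i (1 : ℤ) : V7)) = A.det • Pi.single i 1 := by
        exact (Matrix.mulVec_mulVec _ _ _).trans
          ((congrArg (fun B : Matrix (Fin 7) (Fin 7) ℤ => B *ᵥ (Pi.single i (1 : ℤ) : V7))
            (Matrix.mul_adjugate A)).trans
            ((Matrix.smul_mulVec _ _ _).trans (congrArg (A.det • ·) (Matrix.one_mulVec _))))
      exact (congrArg (evW d) e).symm.trans (hAx _)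
    have h2 : evW d (A.det • (Pi.single i (1 : ℤ) : V7)) = d i ^ A.det :=
      (evW_smul d _ _).trans (by rw [hi])
    rw [h2] at h1
    exact h1
  rw [hd, ← zpow_natCast, ← zpow_mul, ← orderOf_dvd_iff_zpow_eq_one, ho, hA,
    ← Matrix.eval_charpoly, eval_M7, Nat.cast_mul, cast_twelve] at hdet
  have hq4 : (q : ℤ) ^ 4 - (q : ℤ) ^ 2 + 1 ≠ 0 := by
    rw [← cast_twelve q]
    exact_mod_cast Nat.succ_ne_zero (q ^ 4 - q ^ 2)
  rw [mul_left_comm] at hdet
  have h3 := (mul_dvd_mul_iff_left hq4).1 hdet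
  rw [← Int.natCast_dvd_natCast]
  have h4 : ((q ^ 3 + 1 : ℕ) : ℤ) ∣ (j : ℤ) * ((q : ℤ) ^ 3 - 1) := h3
  have h5 : ((q ^ 3 + 1 : ℕ) : ℤ) ∣ (j : ℤ) * (((q ^ 3 + 1 : ℕ)) : ℤ) := dvd_mul_left _ _
  have h6 := h5.sub h4
  push_cast at h6 ⊢
  rwa [show (j : ℤ) * ((q : ℤ) ^ 3 + 1) - (j : ℤ) * ((q : ℤ) ^ 3 - 1) = 2 * j by ring] at h6

variable [Fintype K]

omit [Fintype K] in
theorem exists_gen (hcyc : IsCyclic (gam (wMat chevE7 W.L) K q) ∧
    Nat.card (gam (wMat chevE7 W.L) K q) = (q ^ 4 - q ^ 2 + 1) * (q ^ 3 + 1)) :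
    ∃ c0 ∈ gam (wMat chevE7 W.L) K q,
      orderOf c0 = (q ^ 4 - q ^ 2 + 1) * (q ^ 3 + 1) := by
  obtain ⟨h1, h2⟩ := hcyc
  obtain ⟨⟨c0, hc0⟩, hgen⟩ := h1.exists_generator
  refine ⟨c0, hc0, ?_⟩
  rw [← h2, ← orderOf_eq_card_of_forall_mem_zpowers hgen, ← Subgroup.orderOf_coe]

variable (hq : 2 ≤ q) {c0 : Fin chevE7.rank → Kˣ} (hc0 : c0 ∈ gam (wMat chevE7 W.L) K q)
  (ho : orderOf c0 = (q ^ 4 - q ^ 2 + 1) * (q ^ 3 + 1))
include hq hc0 ho

omit [Fintype K] in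
theorem orb_separated (k l : Fin 3) :
    (evW c0 (lam7 (S.orb k)) = evW c0 (lam7 (S.orb l)) → k = l) ∧
      evW c0 (lam7 (S.orb k)) * evW c0 (lam7 (S.orb l)) ≠ 1 := by
  have hk := (gam_orb W hc0 k).1
  have hl := gam_orb W hc0 l
  have hof := order_facts hq (orderOf_dvd_of_pow_eq_one hl.2) (orb_order W hc0 ho) k l
  rw [hk, hl.1]
  refine ⟨fun h => hof.2 ?_, fun h => hof.1 ?_⟩
  · rw [← zpow_natCast, ← zpow_natCast, zpow_eq_zpow_iff_modEq, Int.modEq_iff_dvd] at h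
    exact_mod_cast h
  · rw [← pow_add] at h
    exact orderOf_dvd_of_pow_eq_one h

omit [Fintype K] in
theorem regular7 {s : ℕ} (hs : s < chevE7.nroots) :
    ∃ c ∈ gam (wMat chevE7 W.L) K q, evW c (lam chevE7 s) ≠ 1 := by
  by_cases h0 : S.val s = 0
  · refine ⟨c0, hc0, fun h => ?_⟩
    obtain ⟨k, hk | hk⟩ := (killed_iff S hs).1 h0
    · refine (orb_separated W hq hc0 ho k k).2 ?_
      rw [← hk]
      show evW c0 (lam chevE7 s) * evW c0 (lam chevE7 s) = 1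
      rw [h, one_mul]
    · refine (orb_separated W hq hc0 ho k k).2 ?_
      have h1 : evW c0 (-lam7 (S.orb k)) = 1 := by
        rw [← lam7_neg (orb_lt S k), ← hk]; exact h
      have h2 : evW c0 (-lam7 (S.orb k)) = (evW c0 (lam7 (S.orb k)))⁻¹ := evW_neg c0 _
      rw [h2, inv_eq_one] at h1
      rw [h1, one_mul]
  · refine ⟨ext7 S.c, c7_mem W, fun h => h0 ?_⟩
    have h1 : evW (D := chevE6) S.c (p7 s) = 1 := (evW_ext7 S.c (lam7 s)).symm.trans h
    exact ((S.ev_iff _ 0).1 (h1.trans (evW_zero (D := chevE6) S.c).symm)).trans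
      (by simp [ev, dotProduct])

omit [Fintype K] in
/-- A word preserving the characters fixes the orbit. -/
theorem stab_orb {L' : List ℕ} (hL' : ∀ i ∈ L', i < chevE7.rank)
    (h : ∀ c ∈ gam (wMat chevE7 W.L) K q, ∀ s < chevE7.nroots,
      evW c (lam chevE7 (wL chevE7 L' s)) = evW c (lam chevE7 s)) (k : Fin 3) :
    wL chevE7 L' (S.orb k) = S.orb k := by
  have hlt := wL_lt hC7 hL' (orb_lt S k)
  have h7 := h _ (c7_mem W) _ (orb_lt S k)
  have hk0 : S.val (S.orb k) = 0 := (killed_iff S (orb_lt S k)).2 ⟨k, Or.inl rfl⟩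
  obtain ⟨l, hl | hl⟩ := (killed_iff S hlt).1 (((c7_val (S := S)).1 h7).trans hk0)
  · have h1 := h c0 hc0 _ (orb_lt S k)
    rw [hl] at h1 ⊢
    rw [(orb_separated W hq hc0 ho l k).1 h1]
  · exfalso
    refine (orb_separated W hq hc0 ho l k).2 ?_
    have h1 := h c0 hc0 _ (orb_lt S k)
    rw [hl] at h1
    have h2 : evW c0 (lam7 (chevE7.neg (S.orb l))) = (evW c0 (lam7 (S.orb l)))⁻¹ :=
      (congrArg (evW c0) (lam7_neg (orb_lt S l))).trans (evW_neg c0 _)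
    have h3 : (evW c0 (lam7 (S.orb l)))⁻¹ = evW c0 (lam7 (S.orb k)) := h2.symm.trans h1
    rw [← h3, mul_inv_cancel]

omit [Fintype K] in
/-- Only the trivial word preserves the characters. -/
theorem stab7 (hrb : 13 ≤ r) {L' : List ℕ} (hL' : ∀ i ∈ L', i < chevE7.rank)
    (h : ∀ c ∈ gam (wMat chevE7 W.L) K q, ∀ s < chevE7.nroots,
      evW c (lam chevE7 (wL chevE7 L' s)) = evW c (lam chevE7 s)) :
    ∀ s < chevE7.nroots, wL chevE7 L' s = s := by
  classical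
  have horb := stab_orb W hq hc0 ho hL' h
  have hval : ∀ s < chevE7.nroots, S.val (wL chevE7 L' s) = S.val s := fun s hs =>
    (c7_val (S := S)).1 (h _ (c7_mem W) s hs)
  obtain ⟨m, hm⟩ : ∃ m, m = Nat.card (WG hC7) := ⟨_, rfl⟩
  obtain ⟨M, hM⟩ : ∃ M, M = M7 L' := ⟨_, rfl⟩
  have hMm : M ^ m = 1 := by rw [hM, hm]; exact wMat_pow_card hC7 det7_ne hL'
  have hMlam : ∀ s < chevE7.nroots, M *ᵥ lam7 s = lam7 (wL chevE7 L' s) := fun s hs =>
    hM ▸ wMat_lam hC7 hL' hs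
  have hpow : ∀ k, ∀ s < chevE7.nroots,
      ∃ u < chevE7.nroots, M ^ k *ᵥ lam7 s = lam7 u ∧ S.val u = S.val s := by
    intro k
    induction k with
    | zero => exact fun s hs => ⟨s, hs, by rw [pow_zero, Matrix.one_mulVec], rfl⟩
    | succ k ih =>
      intro s hs
      obtain ⟨u, hu, e1, e2⟩ := ih s hs
      exact ⟨_, wL_lt hC7 hL' hu, by rw [pow_succ', ← Matrix.mulVec_mulVec, e1, hMlam u hu],
        (hval u hu).trans e2⟩
  obtain ⟨z0, hz0⟩ : ∃ z0 : V7,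
      z0 = fun i => Fin.snoc (α := fun _ => ℤ) (fun j => ((S.v j).val : ℤ)) 0 i := ⟨_, rfl⟩
  have hz0v : ∀ u, ((z0 ⬝ᵥ lam7 u : ℤ) : ZMod r) = S.val u := fun u => by
    rw [hz0, dotProduct, Fin.sum_univ_castSucc]
    simp only [Fin.snoc_last, Fin.snoc_castSucc, zero_mul, add_zero]
    simp [Seed7.val, ev, p7, pr, dotProduct]
  obtain ⟨z, hz⟩ : ∃ z, z = ∑ k ∈ Finset.range m, z0 ᵥ* M ^ k := ⟨_, rfl⟩
  have hzM : z ᵥ* M = z := by
    rw [hz, Matrix.sum_vecMul]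
    simp only [Matrix.vecMul_vecMul, ← pow_succ]
    have h1 := Finset.sum_range_succ' (fun k => z0 ᵥ* M ^ k) m
    rw [Finset.sum_range_succ, pow_zero, hMm] at h1
    exact (add_right_cancel h1).symm
  have hzv : ∀ s < chevE7.nroots, ((z ⬝ᵥ lam7 s : ℤ) : ZMod r) = (m : ZMod r) * S.val s := by
    intro s hs
    rw [hz, sum_dotProduct, Int.cast_sum]
    rw [Finset.sum_congr rfl fun k _ => show ((z0 ᵥ* M ^ k ⬝ᵥ lam7 s : ℤ) : ZMod r) = S.val s by
      obtain ⟨u, -, e1, e2⟩ := hpow k s hs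
      rw [← Matrix.dotProduct_mulVec, e1, hz0v, e2]]
    simp
  obtain ⟨e, he⟩ : ∃ e : ℕ → ℤ, e = fun s => ∑ k : Fin 3, cor7 (S.orb k) ⬝ᵥ lam7 s := ⟨_, rfl⟩
  have heinv : ∀ s < chevE7.nroots, e (wL chevE7 L' s) = e s := fun s hs => by
    simp only [he]
    refine Finset.sum_congr rfl fun k _ => ?_
    have h1 := cor_dot hC7 hL' (orb_lt S k) (lam chevE7 (wL chevE7 L' s))
    have hL'r : ∀ i ∈ L'.reverse, i < chevE7.rank := fun i hi => hL' i (List.mem_reverse.1 hi)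
    rw [horb k, wMat_lam hC7 hL'r (wL_lt hC7 hL' hs), wL_reverse hC7 hL' hs] at h1
    exact h1
  obtain ⟨N, hN⟩ : ∃ N : ℤ, N = 1 + ∑ s ∈ Finset.range chevE7.nroots, |e s| := ⟨_, rfl⟩
  obtain ⟨z', hz'⟩ : ∃ z' : V7, z' = N • z + ∑ k : Fin 3, cor7 (S.orb k) := ⟨_, rfl⟩
  have hf : ∀ s, z' ⬝ᵥ lam7 s = N * (z ⬝ᵥ lam7 s) + e s := fun s => by
    rw [hz', add_dotProduct, smul_dotProduct, sum_dotProduct, smul_eq_mul, he]
  refine eqv_nil_of_inv hC7 det7_ne hL' z' (fun s hs => ?_) fun s hs h0 => ?_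
  · refine ((hf _).trans ?_).trans (hf s).symm
    rw [heinv s hs, ← hMlam s hs, Matrix.dotProduct_mulVec, hzM]
  · have h1 : N * (z ⬝ᵥ lam7 s) + e s = 0 := (hf s).symm.trans h0
    have hle : |e s| < N := by
      have := Finset.single_le_sum (f := fun s => |e s|) (fun _ _ => abs_nonneg _)
        (Finset.mem_range.2 hs)
      omega
    have hzero : z ⬝ᵥ lam7 s = 0 := by
      by_contra hne
      have h2 : |N * (z ⬝ᵥ lam7 s)| = |e s| := by
        rw [eq_neg_of_add_eq_zero_left h1, abs_neg]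
      rw [abs_mul, abs_of_pos (lt_of_le_of_lt (abs_nonneg _) hle)] at h2
      have := mul_le_mul_of_nonneg_left (Int.one_le_abs hne)
        (lt_of_le_of_lt (abs_nonneg _) hle).le
      omega
    rw [hzero, mul_zero, zero_add] at h1
    have hv0 : S.val s = 0 := by
      have h2 := hzv s hs
      rw [hzero, Int.cast_zero, eq_comm, mul_eq_zero] at h2
      refine h2.resolve_left fun h3 => prime_not_dvd (Fact.out : r.Prime) hrb (n := m) ?_
        ((ZMod.natCast_eq_zero_iff _ _).1 h3)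
      rw [hm, card_W7]
      decide +kernel
    simp only [he] at h1
    obtain ⟨k, hk | hk⟩ := (killed_iff S hs).1 hv0
    · rw [hk] at h1
      simp only [orb_pair, Finset.sum_ite_eq', Finset.mem_univ, if_true] at h1
      omega
    · rw [hk, lam7_neg (orb_lt S k)] at h1
      simp only [dotProduct_neg, orb_pair, Finset.sum_neg_distrib, Finset.sum_ite_eq',
        Finset.mem_univ, if_true] at h1
      omega

end Cfsg.Agent.SimpleFacts.SingerCentre.Seven
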