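import Cfsg.Agent.Lib.Chevalley.Cover.MinCenter
import Cfsg.Agent.Lib.Chevalley.FieldFix
import Cfsg.Agent.Lib.Chevalley.Singer.Torus
import Mathlib.FieldTheory.Finite.Extension
import Mathlib.Algebra.Ring.GeomSum

/-!
Functoriality of the cover in the field, the exact action of monomial elements on its torus, and the
tori fixed by a twisted Frobenius map when the centre of the cover is not trivial.
-/

set_option autoImplicit false

open scoped Matrix

namespace Cfsg.Agent.SimpleFacts.SingerCentre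

open Cfsg.Lie Cfsg.Agent.Chevalley Cfsg.Agent.Chevalley.Table Cfsg.Agent.Chevalley.Check
  Cfsg.Agent.Chevalley.Cert Cfsg.Agent.Chevalley.Group Cfsg.Agent.Chevalley.Borel
  Cfsg.Agent.Chevalley.Unip Cfsg.Agent.Chevalley.Weyl Cfsg.Agent.Chevalley.NormalForm
  Cfsg.Agent.Chevalley.TorusCard Cfsg.Agent.Chevalley.FieldAut Cfsg.Agent.Chevalley.FieldFix
  Cfsg.Agent.Chevalley.StUnip Cfsg.Agent.Chevalley.StConj Cfsg.Agent.Chevalley.StKernel
  Cfsg.Agent.Chevalley.StSteinberg Cfsg.Agent.Chevalley.Singer Cfsg.Agent.Chevalley.Cover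

variable {D : ChevalleyDatum} {T : Tab}

/-- The certificates needed for the cover. -/
structure Pack (D : ChevalleyDatum) (T : Tab) (p : ℕ) : Prop where
  cert : Certified D T
  certs : HasCerts T
  sym : K2.symChk T = true
  prime : p.Prime
  center_dvd : ∀ (E : Type) [Field E] [Fintype E],
    Nat.card (Subgroup.center (D.SteinbergCover E)) ∣ p
  center_eq : ∀ (E : Type) [Field E] [Fintype E],
    Nat.card (Subgroup.center (D.SteinbergCover E)) =
      Nat.card (matHom (G := Eˣ) (cartanMat D)).ker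
  det_ne : (cartanMat D).det ≠ 0

theorem commWord_map {K L : Type*} [Field K] [Field L] (f : K →+* L) (r s : ℕ) (t u : K) :
    (D.commWord K r s t u).map (fun p => (p.1, f p.2)) = D.commWord L r s (f t) (f u) := by
  simp [ChevalleyDatum.commWord, List.map_map, Function.comp_def, map_mul, map_pow, map_neg]

section Functor

variable (hC : Certified D T) {K L : Type*} [Field K] [Field L]
include hC

theorem exists_mapSC (f : K →+* L) : ∃ Φ : D.SteinbergCover K →* D.SteinbergCover L,
    ∀ r < D.nroots, ∀ t, Φ (D.scGen K r t) = D.scGen L r (f t) := by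
  refine Cover.Sys.exists_hom hC (X := fun r t => D.scGen L r (f t))
    ⟨fun r hr t u => by rw [map_add, Cover.Sys.scGen_add hr],
      fun r hr s hs hne hnn t u => ?_⟩
  rw [Cover.Sys.scGen_comm hr hs hne hnn (f t) (f u), ← commWord_map f r s t u, List.map_map]
  rfl

/-- The map of covers given by a field homomorphism. -/
noncomputable def mapSC (f : K →+* L) : D.SteinbergCover K →* D.SteinbergCover L :=
  (exists_mapSC hC f).choose

theorem mapSC_gen (f : K →+* L) {r : ℕ} (hr : r < D.nroots) (t : K) :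
    mapSC hC f (D.scGen K r t) = D.scGen L r (f t) :=
  (exists_mapSC hC f).choose_spec r hr t

theorem th_mapSC (f : K →+* L) (x : D.SteinbergCover K) :
    Cover.Sys.th hC (mapSC hC f x) = mapGL D f (Cover.Sys.th hC x) := by
  have : (Cover.Sys.th hC).comp (mapSC hC f) = (mapGL D f).comp (Cover.Sys.th hC) := by
    refine Cover.Sys.scHom_ext fun r hr t => ?_
    rw [MonoidHom.comp_apply, MonoidHom.comp_apply, mapSC_gen hC f hr, Cover.Sys.th_gen hC r hr,
      Cover.Sys.th_gen hC r hr, mapGL_xg]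
  exact DFunLike.congr_fun this x

theorem mapSC_comp {M : Type*} [Field M] (f : K →+* L) (g : L →+* M) (x : D.SteinbergCover K) :
    mapSC hC g (mapSC hC f x) = mapSC hC (g.comp f) x := by
  have : (mapSC hC g).comp (mapSC hC f) = mapSC hC (g.comp f) := by
    refine Cover.Sys.scHom_ext fun r hr t => ?_
    rw [MonoidHom.comp_apply, mapSC_gen hC f hr, mapSC_gen hC g hr, mapSC_gen hC _ hr]
    rfl
  exact DFunLike.congr_fun this x

theorem mapSC_hb (f : K →+* L) {r : ℕ} (hr : r < D.nroots) (a : K) :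
    mapSC hC f (hb (Cover.Sys.scSys (F := K) hC) r a) =
      hb (Cover.Sys.scSys (F := L) hC) r (f a) := by
  have hn := hC.neg_lt hr
  simp only [hb, nb, Cover.Sys.scSys, map_mul, mapSC_gen hC f hr, mapSC_gen hC f hn, map_neg,
    map_inv₀, map_one]

end Functor

section Sigma

variable {p : ℕ} (P : Pack D T p) {K L : Type} [Field K] [Field L] [Finite K] [Finite L]
include P

/-- The torus of the cover. -/
noncomputable def sig (K : Type) [Field K] [Finite K] : (Fin D.rank → Kˣ) →* D.SteinbergCover K :=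
  sigma (Cover.Sys.scSys (F := K) P.cert) P.certs (MinCenter.hmul P.cert P.certs P.sym)

theorem th_sig (c : Fin D.rank → Kˣ) : Cover.Sys.th P.cert (sig P K c) = torHom D K c :=
  DFunLike.congr_fun (th_sigma (Cover.Sys.scSys (F := K) P.cert) P.certs
    (MinCenter.hmul P.cert P.certs P.sym)) c

theorem mapSC_sig (f : K →+* L) (c : Fin D.rank → Kˣ) :
    mapSC P.cert f (sig P K c) = sig P L (fun i => Units.map (f : K →* L) (c i)) := by
  let g : (Fin D.rank → Kˣ) →* (Fin D.rank → Lˣ) :=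
    { toFun := fun c i => Units.map (f : K →* L) (c i)
      map_one' := funext fun i => map_one _
      map_mul' := fun a b => funext fun i => map_mul _ _ _ }
  have h : (mapSC P.cert f).comp (sig P K) = (sig P L).comp g := by
    refine MonoidHom.pi_ext fun i x => ?_
    have hg : g (Pi.mulSingle i x) = Pi.mulSingle i (Units.map (f : K →* L) x) := by
      funext j
      show Units.map (f : K →* L) (Pi.mulSingle (M := fun _ => Kˣ) i x j) = _
      rcases eq_or_ne j i with rfl | h
      · simp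
      · simp [Pi.mulSingle_eq_of_ne h]
    rw [MonoidHom.comp_apply, MonoidHom.comp_apply, hg, sig, sig, sigma, sigma,
      MonoidHom.noncommPiCoprod_mulSingle, MonoidHom.noncommPiCoprod_mulSingle]
    exact mapSC_hb P.cert f (P.cert.simple_lt i.2) _
  exact DFunLike.congr_fun h c

theorem ker_eq_map :
    (Cover.Sys.th P.cert).ker ≤ (torHom D K).ker.map (sig P K) ∧
      (Cover.Sys.th P.cert (F := K)).ker = Subgroup.center (D.SteinbergCover K) := by
  have h1 := center_eq_ker (Cover.Sys.scSys (F := K) P.cert) P.certs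
  refine ⟨fun z hz => ?_, h1⟩
  rw [ker_torHom P.cert]
  refine center_le_image (Cover.Sys.scSys (F := K) P.cert) P.certs
    (MinCenter.hmul P.cert P.certs P.sym) ?_
  rw [← h1]; exact hz

theorem sig_injective : Function.Injective (sig P K) := by
  have := Fintype.ofFinite K
  obtain ⟨h1, h2⟩ := ker_eq_map P (K := K)
  rw [← MonoidHom.ker_eq_bot_iff, eq_bot_iff]
  intro c hc
  rw [MonoidHom.mem_ker] at hc
  have hker : c ∈ (torHom D K).ker := by
    rw [MonoidHom.mem_ker, ← th_sig P, hc, map_one]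
  let φ : (torHom D K).ker →* Subgroup.center (D.SteinbergCover K) :=
    ((sig P K).comp (torHom D K).ker.subtype).codRestrict _ fun x => by
      rw [← h2, MonoidHom.mem_ker, MonoidHom.comp_apply, th_sig P]
      exact x.2
  have hsurj : Function.Surjective φ := fun z => by
    obtain ⟨x, hx, e⟩ := h1 (by rw [h2]; exact z.2)
    exact ⟨⟨x, hx⟩, Subtype.ext e⟩
  have hcard : Nat.card (torHom D K).ker = Nat.card (Subgroup.center (D.SteinbergCover K)) := by
    rw [P.center_eq K, ker_torHom P.cert]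
  have hinj := ((Nat.bijective_iff_surjective_and_card φ).2 ⟨hsurj, hcard⟩).1
  have : (⟨c, hker⟩ : (torHom D K).ker) = 1 := hinj (by
    rw [map_one]; exact Subtype.ext hc)
  exact congrArg Subtype.val this

theorem exists_sig_of_th {x : D.SteinbergCover K} {d : Fin D.rank → Kˣ}
    (h : Cover.Sys.th P.cert x = torHom D K d) : ∃ d', x = sig P K d' := by
  have hz : (sig P K d)⁻¹ * x ∈ (Cover.Sys.th P.cert (F := K)).ker := by
    rw [MonoidHom.mem_ker, map_mul, map_inv, th_sig P, h, inv_mul_cancel]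
  obtain ⟨e, -, he⟩ := (ker_eq_map P).1 hz
  exact ⟨d * e, by rw [map_mul, he]; group⟩

end Sigma

theorem range_th (hC : Certified D T) {K : Type*} [Field K] {g : GL D.Idx K} (hg : g ∈ D.group K) :
    ∃ x : D.SteinbergCover K, Cover.Sys.th hC x = g := by
  rw [← StKernel.th_range (Cover.Sys.scSys (F := K) hC)] at hg
  exact hg

/-- The action of a word on parameters of the torus. -/
def actA (D : ChevalleyDatum) (L : List ℕ) (G : Type*) [CommGroup G] :
    (Fin D.rank → G) →* (Fin D.rank → G) :=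
  matHom (wMat D L.reverse)ᵀ

theorem evW_actA {K : Type*} [Field K] (L : List ℕ) (c : Fin D.rank → Kˣ)
    (x : Fin D.rank → ℤ) : evW (actA D L Kˣ c) x = evW c (wMat D L.reverse *ᵥ x) := by
  simp only [evW, actA, matHom_apply, Matrix.transpose_apply, Matrix.mulVec, dotProduct]
  simp only [← Finset.prod_zpow, ← zpow_mul]
  rw [Finset.prod_comm]
  refine Finset.prod_congr rfl fun i _ => ?_
  rw [prod_zpow_sum]

theorem actA_map {K L : Type*} [Field K] [Field L] (f : K →+* L) (w : List ℕ)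
    (c : Fin D.rank → Kˣ) :
    actA D w Lˣ (fun i => Units.map (f : K →* L) (c i)) =
      fun i => Units.map (f : K →* L) (actA D w Kˣ c i) := by
  funext j
  simp [actA, matHom_apply, map_prod, map_zpow]

section Conj

variable (hC : Certified D T) {K : Type*} [Field K]
include hC

theorem torHom_eq (c : ℕ → Kˣ) : torHom D K (fun i => c i) = tor D c :=
  dg_congr fun s _ => Finset.prod_congr rfl fun i hi => by
    rw [TorusCard.ext, dif_pos (Finset.mem_range.1 hi)]

theorem conj_torHom {L : List ℕ} (hL : ∀ i ∈ L, i < D.rank) {h : GL D.Idx K}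
    (hh : h ∈ D.diagonalSubgroup K) (d : Fin D.rank → Kˣ) :
    h * nL hC K L * torHom D K d * (h * nL hC K L)⁻¹ = torHom D K (actA D L Kˣ d) := by
  obtain ⟨c1, rfl⟩ := (mem_H_iff hC).1 hh
  show tor D c1 * nL hC K L * tor D (TorusCard.ext d) * (tor D c1 * nL hC K L)⁻¹ = _
  obtain ⟨c2, hc2⟩ := exists_conj_tor (F := K) hC hL c1 (TorusCard.ext d)
  rw [hc2]
  refine dg_congr fun s hs => ?_
  have hLr : ∀ i ∈ L.reverse, i < D.rank := fun i hi => hL i (List.mem_reverse.1 hi)
  have hs' := wL_lt hC hLr hs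
  have e : wL D L (wL D L.reverse s) = s := by simpa using wL_reverse hC hLr hs
  have h1 := char_of_conj hC hL hc2 hs'
  rw [e] at h1
  rw [h1, ← evW_lam, ← evW_lam, evW_actA, wMat_lam hC hLr hs]

theorem wMat_mul_reverse (hdet : (cartanMat D).det ≠ 0) {L : List ℕ} (hL : ∀ i ∈ L, i < D.rank) :
    wMat D L * wMat D L.reverse = 1 := by
  have hLr : ∀ i ∈ L.reverse, i < D.rank := fun i hi => hL i (List.mem_reverse.1 hi)
  have hall : ∀ i ∈ L ++ L.reverse, i < D.rank := fun i hi =>
    (List.mem_append.1 hi).elim (hL i) (hLr i)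
  rw [← wMat_append, wMat_eq_of_eqv hC hdet hall (L' := []) (by simp) fun s hs => ?_]
  · simp [wMat]
  · rw [wL_append, show wL D L (wL D L.reverse s) = s by simpa using wL_reverse hC hLr hs]
    simp [wL]

theorem mem_gam_iff (hdet : (cartanMat D).det ≠ 0) {L : List ℕ} (hL : ∀ i ∈ L, i < D.rank)
    (q : ℕ) (c : Fin D.rank → Kˣ) :
    c ∈ gam (wMat D L) K q ↔ actA D L Kˣ (c ^ q) = c := by
  have h1 := wMat_mul_reverse hC hdet hL
  have h2 : wMat D L.reverse * wMat D L = 1 := mul_eq_one_comm.1 h1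
  constructor
  · intro hc
    funext j
    rw [← evW_single (actA D L Kˣ (c ^ q)) j, evW_actA, evW_pow, ← hc, Matrix.mulVec_mulVec, h1,
      Matrix.one_mulVec, evW_single]
  · intro hc x
    conv_lhs => rw [← hc, evW_actA, Matrix.mulVec_mulVec, h2, Matrix.one_mulVec, evW_pow]

end Conj

section Exact

variable {p : ℕ} (P : Pack D T p) {K : Type} [Field K] [Finite K]
include P

/-- Monomial elements act exactly on the torus of the cover. -/
theorem exact_conj {L : List ℕ} (hL : ∀ i ∈ L, i < D.rank) {n : D.SteinbergCover K}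
    {h : GL D.Idx K} (hh : h ∈ D.diagonalSubgroup K)
    (hn : Cover.Sys.th P.cert n = h * nL P.cert K L) (d : Fin D.rank → Kˣ) :
    n * sig P K d * n⁻¹ = sig P K (actA D L Kˣ d) := by
  classical
  have := Fintype.ofFinite K
  obtain ⟨ℓ, hchar⟩ := CharP.exists K
  have : Fact ℓ.Prime := ⟨CharP.char_is_prime K ℓ⟩
  have : NeZero p := ⟨P.prime.ne_zero⟩
  let E := FiniteField.Extension K ℓ p
  have : Fintype E := Fintype.ofFinite _
  let f : K →+* E := algebraMap K E
  have hcard : Nat.card E = Nat.card K ^ p := FiniteField.natCard_extension K ℓ p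
  -- roots of elements of the small field
  have hroot : ∀ x : Kˣ, ∃ y : Eˣ, y ^ p = Units.map (f : K →* E) x := by
    intro x
    have hQ : 1 < Nat.card K := Finite.one_lt_card
    by_cases hp : p ∣ Nat.card K - 1
    · obtain ⟨w, hw⟩ := IsCyclic.exists_generator (α := Eˣ)
      obtain ⟨j, hj⟩ := Subgroup.mem_zpowers_iff.1 (hw (Units.map (f : K →* E) x))
      obtain ⟨S, hS⟩ : ∃ S, S = ∑ i ∈ Finset.range p, Nat.card K ^ i := ⟨_, rfl⟩
      have hmul : S * (Nat.card K - 1) = Nat.card Eˣ := by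
        have := Fintype.ofFinite Eˣ
        rw [Nat.card_units, hcard, hS]
        zify [Nat.one_le_pow p _ (by omega : 0 < Nat.card K), hQ.le]
        exact geom_sum_mul _ _
      have hpS : p ∣ S := by
        have hq1 : ((Nat.card K : ℕ) : ZMod p) = 1 := by
          have := (ZMod.natCast_eq_zero_iff _ _).2 hp
          rwa [Nat.cast_sub hQ.le, Nat.cast_one, sub_eq_zero] at this
        rw [← ZMod.natCast_eq_zero_iff, hS, Nat.cast_sum]
        simp [hq1, -Nat.card_eq_fintype_card]
      have h1 : w ^ (j * ((Nat.card K - 1 : ℕ) : ℤ)) = 1 := by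
        rw [zpow_mul, hj, zpow_natCast, ← map_pow]
        have := Fintype.ofFinite Kˣ
        rw [show Nat.card K - 1 = Nat.card Kˣ from (Nat.card_units K).symm, pow_card_eq_one', map_one]
      rw [← orderOf_dvd_iff_zpow_eq_one, orderOf_eq_card_of_forall_mem_zpowers hw, ← hmul,
        Nat.cast_mul] at h1
      have h2 : (S : ℤ) ∣ j := Int.dvd_of_mul_dvd_mul_right (by omega) h1
      obtain ⟨k, hk⟩ := (Int.natCast_dvd_natCast.2 hpS).trans h2
      exact ⟨w ^ k, by rw [← zpow_natCast, ← zpow_mul, mul_comm, ← hk, hj]⟩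
    · have hco : Nat.Coprime (Nat.card Kˣ) p := by
        rw [Nat.card_units]
        exact ((P.prime.coprime_iff_not_dvd).2 hp).symm
      refine ⟨Units.map (f : K →* E) ((powCoprime hco).symm x), ?_⟩
      rw [← map_pow]
      exact congrArg _ ((powCoprime hco).apply_symm_apply x)
  choose e he using fun i => hroot (d i)
  obtain ⟨n', hn'⟩ : ∃ n', n' = mapSC P.cert f n := ⟨_, rfl⟩
  -- the defect is a homomorphism into the centre
  have hth : ∀ u : Fin D.rank → Eˣ,
      n' * sig P E u * n'⁻¹ * (sig P E (actA D L Eˣ u))⁻¹ ∈ Subgroup.center (D.SteinbergCover E) := by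
    intro u
    rw [← (ker_eq_map P).2, MonoidHom.mem_ker, map_mul, map_mul, map_mul, map_inv, map_inv,
      th_sig P, th_sig P, hn', th_mapSC, hn, map_mul, mapGL_nL P.cert f,
      conj_torHom P.cert hL (map_mem_H P.cert f hh), mul_inv_cancel]
  let δ : (Fin D.rank → Eˣ) →* Subgroup.center (D.SteinbergCover E) :=
    MonoidHom.mk' (fun u => ⟨_, hth u⟩) fun u v => Subtype.ext (by
      have hc := Subgroup.mem_center_iff.1 (hth v)
      show n' * sig P E (u * v) * n'⁻¹ * (sig P E (actA D L Eˣ (u * v)))⁻¹ =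
        n' * sig P E u * n'⁻¹ * (sig P E (actA D L Eˣ u))⁻¹ *
          (n' * sig P E v * n'⁻¹ * (sig P E (actA D L Eˣ v))⁻¹)
      have e1 : (sig P E (actA D L Eˣ (u * v)))⁻¹ =
          (sig P E (actA D L Eˣ v))⁻¹ * (sig P E (actA D L Eˣ u))⁻¹ := by
        rw [map_mul, map_mul, mul_inv_rev]
      rw [e1, map_mul,
        mul_assoc (n' * sig P E u * n'⁻¹) (sig P E (actA D L Eˣ u))⁻¹,
        hc (sig P E (actA D L Eˣ u))⁻¹]
      group)
  obtain ⟨dE, hdE⟩ : ∃ dE : Fin D.rank → Eˣ, dE = fun i => Units.map (f : K →* E) (d i) :=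
    ⟨_, rfl⟩
  have h0 : δ dE = 1 := by
    have hpow : dE = e ^ p := funext fun i => by rw [hdE, Pi.pow_apply, he]
    rw [hpow, map_pow]
    exact orderOf_dvd_iff_pow_eq_one.1 ((orderOf_dvd_natCard _).trans (P.center_dvd E))
  have h1 : n' * sig P E dE * n'⁻¹ * (sig P E (actA D L Eˣ dE))⁻¹ = 1 := congrArg Subtype.val h0
  rw [mul_inv_eq_one, hdE, hn', actA_map f, ← mapSC_sig P, ← mapSC_sig P, ← map_inv, ← map_mul,
    ← map_mul] at h1
  -- back to the small field
  have hz : n * sig P K d * n⁻¹ * (sig P K (actA D L Kˣ d))⁻¹ ∈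
      (Cover.Sys.th P.cert (F := K)).ker := by
    rw [MonoidHom.mem_ker, map_mul, map_mul, map_mul, map_inv, map_inv, th_sig P, th_sig P, hn,
      conj_torHom P.cert hL hh, mul_inv_cancel]
  obtain ⟨z, -, hz'⟩ := (ker_eq_map P).1 hz
  have h2 := congrArg (mapSC P.cert f) hz'
  rw [map_mul, h1, ← map_mul, mul_inv_cancel, map_one, mapSC_sig P] at h2
  have h3 := sig_injective P (h2.trans (map_one (sig P E)).symm)
  have h4 : z = 1 := funext fun i => Units.map_injective (f := (f : K →* E)) f.injective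
    (by have := congrFun h3 i; simpa using this)
  rw [h4, map_one, eq_comm, mul_inv_eq_one] at hz'
  exact hz'

end Exact

section Fixed

variable (hC : Certified D T) {F K : Type*} [Field F] [Field K]
include hC

/-- A fixed element is a fixed toral element between two elements of the fixed field. -/
theorem fixed_split (f : F →+* K) (σ : K →+* K) (hσ : ∀ t : K, σ t = t → t ∈ Set.range f)
    {g : GL D.Idx K} (hg : g ∈ D.group K) (he : mapGL D σ g = g) :
    ∃ a ∈ (D.group F).map (mapGL D f), ∃ h ∈ D.diagonalSubgroup K,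
      ∃ b ∈ (D.group F).map (mapGL D f), mapGL D σ h = h ∧ g = a * h * b := by
  obtain ⟨b, hb, n, hn, u, hu, rfl⟩ := exists_form hC hg
  obtain ⟨c, L, hL, rfl⟩ := (mem_N_iff hC).1 hn
  have e1 : (tor D (1 : ℕ → Kˣ) : GL D.Idx K) * nL hC K L = nL hC K L := by rw [tor_one, one_mul]
  have hU1 : Uminus D K (tor D c * nL hC K L) = Uminus D K (nL hC K L) := by
    rw [Uminus_eq hC hL c, ← e1, Uminus_eq hC hL 1]
  rw [hU1] at hu
  obtain ⟨b', hb'⟩ : ∃ b', b' = b * tor D c := ⟨_, rfl⟩
  have hbB : b' ∈ D.borelSubgroup K :=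
    hb' ▸ mul_mem hb (Subgroup.mem_sup_right (tor_mem_H hC c))
  rw [show b * (tor D c * nL hC K L) * u = b' * nL hC K L * u by simp only [hb', mul_assoc]] at he ⊢
  rw [map_mul, map_mul, mapGL_nL] at he
  have hnN : nL hC K L ∈ D.monomialSubgroup K := nL_mem_N hC hL
  have hu' : mapGL D σ u ∈ Uminus D K (nL hC K L) := by
    have h1 : Uminus D K (nL hC K L) ≤ (Uminus D K (nL hC K L)).comap (mapGL D σ) := by
      rw [← e1, Uminus_eq hC hL 1, Subgroup.closure_le]
      rintro g ⟨r, t, hr, rfl⟩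
      rw [SetLike.mem_coe, Subgroup.mem_comap, mapGL_xg]
      exact Subgroup.subset_closure ⟨r, σ t, hr, rfl⟩
    exact h1 hu
  obtain ⟨v, hv, h, hh, hbe⟩ := (mem_B_iff hC).1 hbB
  have hσb : mapGL D σ b' ∈ D.borelSubgroup K := by
    rw [hbe, map_mul]
    exact (mem_B_iff hC).2 ⟨_, map_mem_U hC σ hv, _, map_mem_H hC σ hh, rfl⟩
  obtain ⟨hb2, hu2⟩ := (unique_form hC hσb hbB hnN hnN hu' hu he).2 rfl
  rw [hbe, map_mul] at hb2
  have hvh : v⁻¹ * mapGL D σ v = h * (mapGL D σ h)⁻¹ := by
    rw [eq_mul_inv_iff_mul_eq, mul_assoc, hb2]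
    group
  have h2 : v⁻¹ * mapGL D σ v ∈ (⊥ : Subgroup (GL D.Idx K)) := by
    rw [← U_inf_H hC, Subgroup.mem_inf]
    exact ⟨mul_mem (inv_mem hv) (map_mem_U hC σ hv),
      hvh ▸ mul_mem hh (inv_mem (map_mem_H hC σ hh))⟩
  rw [Subgroup.mem_bot] at h2
  have hσv : mapGL D σ v = v := by rwa [inv_mul_eq_one, eq_comm] at h2
  have hσh : mapGL D σ h = h := by rw [hσv] at hb2; exact mul_left_cancel hb2
  refine ⟨v, U_fixed hC f σ hσ hv hσv, h, hh, nL hC K L * u, mul_mem
    ⟨nL hC F L, N_le_group hC (nL_mem_N hC hL), mapGL_nL hC f L⟩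
    (U_fixed hC f σ hσ (Uminus_le_U hC _ hu) hu2), hσh, by rw [hbe]; group⟩

end Fixed

section Torus

variable {p : ℕ} (P : Pack D T p) {F : Type*} {K : Type} [Field F] [Field K] [Finite K]
include P

/-- The points over the small field of a twisted torus. -/
theorem torus_fixed (f : F →+* K) (σ : K →+* K) {q : ℕ} (hσf : ∀ t, σ (f t) = f t)
    (hfix : ∀ t : K, σ t = t → t ∈ Set.range f) (hσq : ∀ x, σ x = x ^ q)
    {gv : GL D.Idx K} (hgG : gv ∈ D.group K) {L : List ℕ} (hL : ∀ i ∈ L, i < D.rank)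
    {h0 : GL D.Idx K} (hh0 : h0 ∈ D.diagonalSubgroup K)
    (hn0 : gv⁻¹ * mapGL D σ gv = h0 * nL P.cert K L) (z : GL D.Idx K) :
    (∃ x ∈ D.group F, mapGL D f x = z ∧ gv⁻¹ * z * gv ∈ D.diagonalSubgroup K) ↔
      ∃ c ∈ gam (wMat D L) K q, z = gv * torHom D K c * gv⁻¹ := by
  obtain ⟨γ, hγ⟩ := range_th P.cert hgG
  obtain ⟨ν, hν⟩ : ∃ ν, ν = γ⁻¹ * mapSC P.cert σ γ := ⟨_, rfl⟩
  have hν' : Cover.Sys.th P.cert ν = h0 * nL P.cert K L := by
    rw [hν, map_mul, map_inv, th_mapSC, hγ, hn0]
  have hσσ : σ.comp f = f := RingHom.ext hσf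
  have hσc : ∀ c : Fin D.rank → Kˣ, mapSC P.cert σ (sig P K c) = sig P K (c ^ q) := by
    intro c
    rw [mapSC_sig P]
    congr 1
    funext i
    exact Units.ext (by simp [hσq])
  have hσγ : ∀ c, mapSC P.cert σ (γ * sig P K c * γ⁻¹) =
      γ * sig P K (actA D L Kˣ (c ^ q)) * γ⁻¹ := by
    intro c
    rw [map_mul, map_mul, map_inv, hσc, ← exact_conj P hL hh0 hν', hν]
    group
  constructor
  · rintro ⟨x, hx, rfl, hz⟩
    obtain ⟨ξ, hξ⟩ := range_th P.cert hx
    obtain ⟨d, hd⟩ := (mem_H_iff P.cert).1 hz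
    rw [← torHom_eq P.cert] at hd
    obtain ⟨c, hc⟩ := exists_sig_of_th P (x := γ⁻¹ * mapSC P.cert f ξ * γ) (d := fun i => d i)
      (by rw [map_mul, map_mul, map_inv, th_mapSC, hγ, hξ, hd])
    have hc' : mapSC P.cert f ξ = γ * sig P K c * γ⁻¹ := by rw [← hc]; group
    have h1 := congrArg (mapSC P.cert σ) hc'
    rw [mapSC_comp, hσσ, hσγ, hc'] at h1
    have h2 := sig_injective P (mul_left_cancel (mul_right_cancel h1))
    refine ⟨c, (mem_gam_iff P.cert P.det_ne hL q c).2 h2.symm, ?_⟩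
    rw [← hξ, ← th_mapSC, hc', map_mul, map_mul, map_inv, hγ, th_sig P]
  · rintro ⟨c, hc, rfl⟩
    have hfixX : mapSC P.cert σ (γ * sig P K c * γ⁻¹) = γ * sig P K c * γ⁻¹ := by
      rw [hσγ, (mem_gam_iff P.cert P.det_ne hL q c).1 hc]
    have hH : torHom D K c ∈ D.diagonalSubgroup K := tor_mem_H P.cert _
    have hmemG : gv * torHom D K c * gv⁻¹ ∈ D.group K :=
      mul_mem (mul_mem hgG (H_le_group P.cert hH)) (inv_mem hgG)
    have hthX : Cover.Sys.th P.cert (γ * sig P K c * γ⁻¹) = gv * torHom D K c * gv⁻¹ := by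
      rw [map_mul, map_mul, map_inv, hγ, th_sig P]
    have hfixed : mapGL D σ (gv * torHom D K c * gv⁻¹) = gv * torHom D K c * gv⁻¹ := by
      rw [← hthX, ← th_mapSC, hfixX]
    obtain ⟨a, ⟨a0, ha0, rfl⟩, h, hh, b, ⟨b0, hb0, rfl⟩, -, hsplit⟩ :=
      fixed_split P.cert f σ hfix hmemG hfixed
    obtain ⟨α, hα⟩ := range_th P.cert ha0
    obtain ⟨β, hβ⟩ := range_th P.cert hb0
    obtain ⟨d, hd⟩ := (mem_H_iff P.cert).1 hh
    rw [← torHom_eq P.cert] at hd
    obtain ⟨Y, hY⟩ : ∃ Y, Y = (mapSC P.cert f α)⁻¹ * (γ * sig P K c * γ⁻¹) *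
        (mapSC P.cert f β)⁻¹ := ⟨_, rfl⟩
    obtain ⟨d', hd'⟩ := exists_sig_of_th P (x := Y) (d := fun i => d i) (by
      rw [hY, map_mul, map_mul, map_inv, map_inv, th_mapSC, th_mapSC, hthX, hα, hβ, hsplit, hd]
      group)
    have hYfix : mapSC P.cert σ Y = Y := by
      rw [hY, map_mul, map_mul, map_inv, map_inv, hfixX, mapSC_comp, mapSC_comp, hσσ]
    rw [hd', hσc] at hYfix
    have hd'q := sig_injective P hYfix
    have hmem : ∀ i, ∃ a : Fˣ, f a = d' i := fun i => by
      obtain ⟨a, ha⟩ := hfix (d' i) (by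
        rw [hσq, ← Units.val_pow_eq_pow_val, ← Pi.pow_apply, hd'q])
      have ha0 : a ≠ 0 := fun h0 => by
        rw [h0, map_zero] at ha
        exact (d' i).ne_zero ha.symm
      exact ⟨Units.mk0 a ha0, ha⟩
    choose a ha using hmem
    have hh' : mapGL D f (torHom D F a) = h := by
      have h1 : Cover.Sys.th P.cert Y = h := by
        rw [hY, map_mul, map_mul, map_inv, map_inv, th_mapSC, th_mapSC, hthX, hα, hβ, hsplit]
        group
      rw [← h1, hd', th_sig P, show torHom D F a = tor D (TorusCard.ext a) from rfl, mapGL_tor,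
        ← torHom_eq P.cert]
      congr 1
      funext i
      refine Units.ext ?_
      simp [TorusCard.ext, ha]
    refine ⟨a0 * torHom D F a * b0, mul_mem (mul_mem ha0 ?_) hb0, ?_, ?_⟩
    · exact H_le_group P.cert (tor_mem_H P.cert _)
    · rw [map_mul, map_mul, hh', hsplit]
    · rw [show gv⁻¹ * (gv * torHom D K c * gv⁻¹) * gv = torHom D K c by group]
      exact hH

end Torus

end Cfsg.Agent.SimpleFacts.SingerCentre
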