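import Cfsg.Agent.SimpleFacts.SingerCentre.Lift

/-!
Reflections in arbitrary roots and the twist of a torus by an orbit of three orthogonal roots.
-/

set_option autoImplicit false

open scoped Matrix

namespace Cfsg.Agent.SimpleFacts.SingerCentre

open Cfsg.Lie Cfsg.Agent.Chevalley Cfsg.Agent.Chevalley.Table Cfsg.Agent.Chevalley.Check
  Cfsg.Agent.Chevalley.Cert Cfsg.Agent.Chevalley.Group Cfsg.Agent.Chevalley.Borel
  Cfsg.Agent.Chevalley.Weyl Cfsg.Agent.Chevalley.TorusCard Cfsg.Agent.Chevalley.FieldAut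
  Cfsg.Agent.Chevalley.FieldFix Cfsg.Agent.Chevalley.Singer Cfsg.Agent.Chevalley.StUnip
  Cfsg.Agent.Chevalley.Unip

variable {D : ChevalleyDatum} {T : Tab} (hC : Certified D T)
include hC

theorem exists_word {r : ℕ} (hr : r < D.nroots) :
    ∃ L : List ℕ, (∀ i ∈ L, i < D.rank) ∧ ∃ i < D.rank, wL D L (D.simple i) = r := by
  have key : ∀ r, r < D.nroots → 0 < T.phi r →
      ∃ L : List ℕ, (∀ i ∈ L, i < D.rank) ∧ ∃ i < D.rank, wL D L (D.simple i) = r := by
    intro r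
    induction r using Nat.strong_induction_on with
    | _ r ih =>
      intro hr hp
      obtain ⟨i, hi, h | ⟨-, -, hp', hlt⟩⟩ := descend hC hr hp
      · exact ⟨[], by simp, i, hi, h.symm⟩
      · obtain ⟨L, hL, j, hj, e⟩ := ih _ hlt (hC.reflect_lt hi hr) hp'
        refine ⟨i :: L, fun a ha => ?_, j, hj, ?_⟩
        · rcases List.mem_cons.1 ha with rfl | h
          exacts [hi, hL a h]
        · show D.reflectRoot i (wL D L (D.simple j)) = r
          rw [e, hC.reflect_reflect hi hr]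
  by_cases hp : 0 < T.phi r
  · exact key r hr hp
  · have hp' : 0 < T.phi (D.neg r) := by
      rw [hC.phi_neg hr]; have := hC.phi_ne_zero hr; omega
    obtain ⟨L, hL, i, hi, e⟩ := key _ (hC.neg_lt hr) hp'
    refine ⟨L ++ [i], fun a ha => ?_, i, hi, ?_⟩
    · rcases List.mem_append.1 ha with h | h
      exacts [hL a h, List.mem_singleton.1 h ▸ hi]
    · rw [wL_append, show wL D [i] (D.simple i) = D.reflectRoot i (D.simple i) from rfl,
        hC.reflect_simple hi, wL_neg hC hL (hC.simple_lt hi), e, hC.neg_neg hr]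

/-- Coroots transform contragrediently. -/
theorem cor_dot {L : List ℕ} (hL : ∀ i ∈ L, i < D.rank) {r : ℕ} (hr : r < D.nroots)
    (x : Fin D.rank → ℤ) :
    (fun j : Fin D.rank => cor D (wL D L r) j) ⬝ᵥ x =
      (fun j : Fin D.rank => cor D r j) ⬝ᵥ (wMat D L.reverse *ᵥ x) := by
  induction L generalizing x with
  | nil => simp [wL, wMat]
  | cons i L ih =>
    have hi := hL i List.mem_cons_self
    have hL' : ∀ j ∈ L, j < D.rank := fun j hj => hL j (List.mem_cons_of_mem i hj)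
    rw [List.reverse_cons, wMat_append, ← Matrix.mulVec_mulVec,
      show wMat D [i] = refMat D i by simp [wMat], ← ih hL']
    show (fun j : Fin D.rank => cor D (D.reflectRoot i (wL D L r)) j) ⬝ᵥ x = _
    obtain ⟨u, hu⟩ : ∃ u, u = wL D L r := ⟨_, rfl⟩
    rw [← hu]
    have hu' : u < D.nroots := hu ▸ wL_lt hC hL' hr
    rw [refMat, Matrix.sub_mulVec, Matrix.one_mulVec, Matrix.vecMulVec_mulVec, delta_dot hi,
      op_smul_eq_smul, dotProduct_sub, dotProduct_smul, smul_eq_mul]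
    have e : ∀ j : Fin D.rank, cor D (D.reflectRoot i u) j * x j = cor D u j * x j -
        (if (j : ℕ) = i then
          (∑ k ∈ Finset.range D.rank, cor D u k * D.cartan k (D.simple i)) * x j else 0) := by
      intro j
      rw [hC.cor_reflect hi j.2 hu']
      by_cases h : (j : ℕ) = i
      · rw [if_pos h, if_pos h, sub_mul]
      · rw [if_neg h, if_neg h, sub_zero]
    simp only [dotProduct, e, Finset.sum_sub_distrib]
    congr 1
    rw [Finset.sum_eq_single (⟨i, hi⟩ : Fin D.rank)]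
    · rw [if_pos rfl, ← Fin.sum_univ_eq_sum_range fun k => cor D u k * D.cartan k (D.simple i),
        mul_comm]
      rfl
    · intro k _ hk; rw [if_neg fun h => hk (Fin.ext h)]
    · simp

theorem cor_simple_dot {i : ℕ} (hi : i < D.rank) (x : Fin D.rank → ℤ) :
    (fun j : Fin D.rank => cor D (D.simple i) j) ⬝ᵥ x = x ⟨i, hi⟩ := by
  rw [← delta_dot hi x]
  congr 1
  funext j
  rw [hC.cor_simple hi j.2]
  exact if_congr ⟨Eq.symm, Eq.symm⟩ rfl rfl

/-- The word of a reflection. -/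
theorem wMat_reflWord (hdet : (cartanMat D).det ≠ 0) {L : List ℕ} (hL : ∀ i ∈ L, i < D.rank)
    {i : ℕ} (hi : i < D.rank) (x : Fin D.rank → ℤ) :
    wMat D (L ++ [i] ++ L.reverse) *ᵥ x =
      x - ((fun j : Fin D.rank => cor D (wL D L (D.simple i)) j) ⬝ᵥ x) •
        lam D (wL D L (D.simple i)) := by
  rw [wMat_append, wMat_append, show wMat D [i] = refMat D i by simp [wMat],
    ← Matrix.mulVec_mulVec, ← Matrix.mulVec_mulVec, refMat, Matrix.sub_mulVec, Matrix.one_mulVec,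
    Matrix.vecMulVec_mulVec, delta_dot hi, op_smul_eq_smul, Matrix.mulVec_sub,
    Matrix.mulVec_smul, wMat_lam hC hL (hC.simple_lt hi), Matrix.mulVec_mulVec,
    wMat_mul_reverse hC hdet hL, Matrix.one_mulVec, cor_dot hC hL (hC.simple_lt hi),
    cor_simple_dot hC hi]

variable {F : Type*} [Field F]

/-- Opposite root subgroups are moved by one sign. -/
theorem nL_conj_pm {L : List ℕ} (hL : ∀ i ∈ L, i < D.rank) {r : ℕ} (hr : r < D.nroots) :
    ∃ η : F, η * η = 1 ∧ ∀ t : F,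
      nL hC F L * xg hC r t * (nL hC F L)⁻¹ = xg hC (wL D L r) (η * t) ∧
      nL hC F L * xg hC (D.neg r) t * (nL hC F L)⁻¹ = xg hC (D.neg (wL D L r)) (η * t) := by
  induction L with
  | nil => exact ⟨1, one_mul 1, fun t => by simp [nL, wL]⟩
  | cons i L ih =>
    have hL' : ∀ j ∈ L, j < D.rank := fun j hj => hL j (List.mem_cons_of_mem i hj)
    have hi := hL i List.mem_cons_self
    obtain ⟨η, hη, h⟩ := ih hL'
    have hlt := wL_lt hC hL' hr
    obtain ⟨ε, hε⟩ : ∃ ε : F, ε = (T.eta i (wL D L r) : F) := ⟨_, rfl⟩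
    have hε2 : ε * ε = 1 := by rw [hε, ← Int.cast_mul, Certified.eta_sq, Int.cast_one]
    refine ⟨ε * η, by rw [mul_mul_mul_comm, hε2, hη, mul_one], fun t => ⟨?_, ?_⟩⟩
    · calc nL hC F (i :: L) * xg hC r t * (nL hC F (i :: L))⁻¹
          = ng hC (D.simple i) 1 * (nL hC F L * xg hC r t * (nL hC F L)⁻¹) *
            (ng hC (D.simple i) (1 : F))⁻¹ := by
            rw [nL_cons, mul_inv_rev]; simp only [mul_assoc]
        _ = _ := by rw [(h t).1, ng_conj_x hC hi hlt, hε, mul_assoc]; rfl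
    · calc nL hC F (i :: L) * xg hC (D.neg r) t * (nL hC F (i :: L))⁻¹
          = ng hC (D.simple i) 1 * (nL hC F L * xg hC (D.neg r) t * (nL hC F L)⁻¹) *
            (ng hC (D.simple i) (1 : F))⁻¹ := by
            rw [nL_cons, mul_inv_rev]; simp only [mul_assoc]
        _ = _ := by
          rw [(h t).2, ng_conj_x hC hi (hC.neg_lt hlt), hC.eta_neg hi hlt,
            hC.reflect_neg hi hlt, hε, mul_assoc]
          rfl

/-- A monomial element of a root is a fixed word up to the torus. -/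
theorem ng_eq_word {L : List ℕ} (hL : ∀ i ∈ L, i < D.rank) {i : ℕ} (hi : i < D.rank) {t : F}
    (ht : t ≠ 0) :
    ∃ c : ℕ → Fˣ, ng hC (wL D L (D.simple i)) t = tor D c * nL hC F (L ++ [i] ++ L.reverse) := by
  have hLr : ∀ a ∈ L.reverse, a < D.rank := fun a ha => hL a (List.mem_reverse.1 ha)
  obtain ⟨η, hη, h⟩ := nL_conj_ng (F := F) hC hL (hC.simple_lt hi)
  obtain ⟨c1, h1⟩ := ng_simple_eq (F := F) hC hi (a := η⁻¹ * t) (mul_ne_zero (inv_ne_zero hη) ht)
  obtain ⟨d, hd⟩ := exists_tor_of_pos (F := F) hC (L := L ++ L.reverse)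
    (fun a ha => (List.mem_append.1 ha).elim (hL a) (hLr a)) fun j hj => by
      rw [wL_append, show wL D L (wL D L.reverse (D.simple j)) = D.simple j by
        simpa using wL_reverse hC hLr (hC.simple_lt hj)]
      exact hC.phi_simple hj
  have hinv : (nL hC F L)⁻¹ = nL hC F L.reverse * (tor D d)⁻¹ := by
    rw [← hd, nL_append]; group
  obtain ⟨c2, h2⟩ := nL_conj_tor (F := F) hC hL c1
  have hall : ∀ a ∈ L ++ [i] ++ L.reverse, a < D.rank := fun a ha => by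
    rcases List.mem_append.1 ha with h | h
    · rcases List.mem_append.1 h with h | h
      exacts [hL a h, List.mem_singleton.1 h ▸ hi]
    · exact hLr a h
  obtain ⟨c3, h3⟩ := nL_conj_tor (F := F) hC hall d⁻¹
  refine ⟨c2 * c3, ?_⟩
  have e := h (η⁻¹ * t)
  rw [mul_inv_cancel_left₀ hη] at e
  rw [← e, h1, hinv, tor_inv, ← mul_assoc (nL hC F L) (tor D c1), h2, ← tor_mul,
    nL_append hC (L ++ [i]) L.reverse, nL_append hC L [i], nL_singleton]
  rw [nL_append hC (L ++ [i]) L.reverse, nL_append hC L [i], nL_singleton] at h3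
  calc tor D c2 * nL hC F L * ng hC (D.simple i) 1 * (nL hC F L.reverse * tor D d⁻¹)
      = tor D c2 * (nL hC F L * ng hC (D.simple i) 1 * nL hC F L.reverse * tor D d⁻¹) := by
        simp only [mul_assoc]
    _ = _ := by rw [h3]; simp only [mul_assoc]

/-- Root subgroups without commutator terms commute after transport. -/
theorem commute_transport {L : List ℕ} (hL : ∀ i ∈ L, i < D.rank) {r s : ℕ} (hr : r < D.nroots)
    (hs : s < D.nroots) (hne : s ≠ r) (hnn : s ≠ D.neg r) (hempty : D.commTerms r s = [])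
    (t u : F) : Commute (xg hC (wL D L r) t) (xg hC (wL D L s) u) := by
  obtain ⟨η, hη, h1⟩ := nL_conj_x (F := F) hC hL hr
  obtain ⟨μ, hμ, h2⟩ := nL_conj_x (F := F) hC hL hs
  have hc : Commute (xg hC r (η⁻¹ * t)) (xg hC s (μ⁻¹ * u)) := by
    have := xg_comm hC hr hs hne hnn (η⁻¹ * t) (μ⁻¹ * u)
    rw [ChevalleyDatum.commWord, hempty] at this
    simp only [List.map_nil, List.prod_nil, mul_one] at this
    exact this.symm
  have h3 := Commute.map hc (MulAut.conj (nL hC F L)).toMonoidHom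
  simp only [MulEquiv.coe_toMonoidHom, MulAut.conj_apply, h1, h2, mul_inv_cancel_left₀ hη,
    mul_inv_cancel_left₀ hμ] at h3
  exact h3

omit hC in
/-- A semilinear equation with a two cycle. -/
theorem exists_two_cycle {K : Type*} [Field K] [Fintype K] {Q : ℕ} (hQ : 2 ≤ Q)
    (hK : Fintype.card K = Q ^ 4) {η : K} (hη : η ^ (1 + Q + Q ^ 2 + Q ^ 3) = 1) :
    ∃ z : K, η * z ^ Q ≠ z ∧ η * (η * z ^ Q) ^ Q = z := by
  classical
  have hη0 : η ≠ 0 := fun e => by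
    rw [e, zero_pow (by omega)] at hη; exact zero_ne_one hη
  obtain ⟨R, rfl⟩ : ∃ R, Q = R + 1 := ⟨Q - 1, by omega⟩
  have hsplit : Nat.card Kˣ = R * (1 + (R + 1) + (R + 1) ^ 2 + (R + 1) ^ 3) := by
    rw [Nat.card_units, Nat.card_eq_fintype_card, hK]
    have : (R + 1) ^ 4 = R * (1 + (R + 1) + (R + 1) ^ 2 + (R + 1) ^ 3) + 1 := by ring
    omega
  obtain ⟨w, hw⟩ := IsCyclic.exists_generator (α := Kˣ)
  have how := orderOf_eq_card_of_forall_mem_zpowers hw
  obtain ⟨ε, hε⟩ : ∃ ε : Kˣ, ε = w ^ (R * ((R + 1) ^ 2 + 1)) := ⟨_, rfl⟩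
  have hεp : ε ^ (R + 2) = 1 := by
    rw [hε, ← pow_mul, ← orderOf_dvd_iff_pow_eq_one, how, hsplit]
    exact dvd_of_eq (by ring)
  have hε1 : ε ≠ 1 := fun h => by
    rw [hε, ← orderOf_dvd_iff_pow_eq_one, how, hsplit] at h
    have h' := Nat.le_of_dvd (Nat.mul_pos (by omega) (by positivity)) h
    have : R * ((R + 1) ^ 2 + 1) < R * (1 + (R + 1) + (R + 1) ^ 2 + (R + 1) ^ 3) :=
      Nat.mul_lt_mul_of_pos_left (by nlinarith) (by omega)
    omega
  obtain ⟨a, ha⟩ : ∃ a : Kˣ, a = (Units.mk0 η hη0)⁻¹ * ε := ⟨_, rfl⟩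
  have haS : a ^ (1 + (R + 1) + (R + 1) ^ 2 + (R + 1) ^ 3) = 1 := by
    rw [ha, mul_pow, inv_pow, show (Units.mk0 η hη0) ^ (1 + (R + 1) + (R + 1) ^ 2 + (R + 1) ^ 3) = 1
      from Units.ext (by simpa using hη), inv_one, one_mul,
      show 1 + (R + 1) + (R + 1) ^ 2 + (R + 1) ^ 3 = (R + 2) * ((R + 1) ^ 2 + 1) by ring, pow_mul,
      hεp, one_pow]
  obtain ⟨j, hj⟩ := Subgroup.mem_zpowers_iff.1 (hw a)
  rw [← hj, ← zpow_natCast, ← zpow_mul, ← orderOf_dvd_iff_zpow_eq_one, how, hsplit,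
    Nat.cast_mul] at haS
  have h2 : (R : ℤ) ∣ j := Int.dvd_of_mul_dvd_mul_right (by positivity) haS
  obtain ⟨k, hk⟩ := h2
  obtain ⟨u, hu⟩ : ∃ u : Kˣ, u = w ^ k := ⟨_, rfl⟩
  have hua : u ^ R = a := by rw [hu, ← zpow_natCast, ← zpow_mul, mul_comm, ← hk, hj]
  have key : η * (u : K) ^ (R + 1) = (ε : K) * u := by
    have h3 := congrArg Units.val hua
    rw [ha, Units.val_pow_eq_pow_val, Units.val_mul, Units.val_inv_eq_inv_val,
      Units.val_mk0] at h3
    rw [pow_succ, h3, ← mul_assoc, ← mul_assoc, mul_inv_cancel₀ hη0, one_mul]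
  refine ⟨u, ?_, ?_⟩
  · rw [key]
    intro h
    exact hε1 (Units.ext (mul_right_cancel₀ u.ne_zero (h.trans (one_mul _).symm)))
  · rw [key, mul_pow, mul_left_comm, key, ← mul_assoc, ← pow_succ, ← Units.val_pow_eq_pow_val,
      hεp, Units.val_one, one_mul]

variable {K : Type*} [Field K] [Fintype K]

/-- Twisting a torus along an orbit of three orthogonal roots. -/
theorem exists_twist (σ : K →+* K) {q : ℕ} (hq : 2 ≤ q) (hK : Fintype.card K = q ^ 12)
    (hσq : ∀ x, σ x = x ^ q) {gv : GL D.Idx K} (hgv : gv ∈ D.group K) {L : List ℕ}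
    (hL : ∀ i ∈ L, i < D.rank) {h0 : GL D.Idx K} (hh0 : h0 ∈ D.diagonalSubgroup K)
    (hn0 : gv⁻¹ * mapGL D σ gv = h0 * nL hC K L) {β : ℕ} (hβ : β < D.nroots)
    (hper : wL D L (wL D L (wL D L β)) = β)
    (horth : ∀ e, (e = β ∨ e = D.neg β) → ∀ e', (e' = wL D L β ∨ e' = D.neg (wL D L β) ∨
      e' = wL D L (wL D L β) ∨ e' = D.neg (wL D L (wL D L β))) →
        ∀ t u : K, Commute (xg hC e t) (xg hC e' u))
    {L1 : List ℕ} (hL1 : ∀ i ∈ L1, i < D.rank) {i : ℕ} (hi : i < D.rank)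
    (he : wL D L1 (D.simple i) = D.neg β) :
    ∃ gv' ∈ D.group K, ∃ h' ∈ D.diagonalSubgroup K,
      gv'⁻¹ * mapGL D σ gv' = h' * nL hC K (L1 ++ [i] ++ L1.reverse ++ L) := by
  obtain ⟨n0, hn0'⟩ : ∃ n0, n0 = gv⁻¹ * mapGL D σ gv := ⟨_, rfl⟩
  rw [← hn0'] at hn0
  obtain ⟨τ, hτ⟩ : ∃ τ : GL D.Idx K →* GL D.Idx K,
      τ = (MulAut.conj n0).toMonoidHom.comp (mapGL D σ) := ⟨_, rfl⟩
  have hτa : ∀ x, τ x = n0 * mapGL D σ x * n0⁻¹ := fun x => by rw [hτ]; rfl
  obtain ⟨c0, hc0⟩ := (mem_H_iff hC).1 hh0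
  -- the action on root subgroups
  have hstep : ∀ r < D.nroots, ∃ a : K, a ≠ 0 ∧ ∀ t, τ (xg hC r t) = xg hC (wL D L r) (a * t ^ q) ∧
      τ (xg hC (D.neg r) t) = xg hC (D.neg (wL D L r)) (a⁻¹ * t ^ q) := by
    intro r hr
    obtain ⟨η, hη, h⟩ := nL_conj_pm (F := K) hC hL hr
    have hlt := wL_lt hC hL hr
    obtain ⟨χ, hχ⟩ : ∃ χ : K, χ = (torChar D c0 (wL D L r) : K) := ⟨_, rfl⟩
    have hχn : (torChar D c0 (D.neg (wL D L r)) : K) = χ⁻¹ :=
      eq_inv_of_mul_eq_one_left (hχ ▸ (torChar_isMulChar hC c0).1 _ hlt)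
    have hη' : η⁻¹ = η := inv_eq_of_mul_eq_one_right hη
    refine ⟨χ * η, mul_ne_zero (hχ ▸ Units.ne_zero _)
      (left_ne_zero_of_mul (hη ▸ one_ne_zero)), fun t => ⟨?_, ?_⟩⟩
    · rw [hτa, mapGL_xg, hσq, hn0, hc0,
        show ∀ a b x : GL D.Idx K, a * b * x * (a * b)⁻¹ = a * (b * x * b⁻¹) * a⁻¹ from
          fun a b x => by group, (h _).1, tor_conj_x hC _ _ _ hlt, ← hχ, mul_assoc]
    · rw [hτa, mapGL_xg, hσq, hn0, hc0,
        show ∀ a b x : GL D.Idx K, a * b * x * (a * b)⁻¹ = a * (b * x * b⁻¹) * a⁻¹ from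
          fun a b x => by group, (h _).2, tor_conj_x hC _ _ _ (hC.neg_lt hlt), hχn, mul_inv, hη',
        mul_assoc]
  obtain ⟨β2, hβ2⟩ : ∃ β2, β2 = wL D L β := ⟨_, rfl⟩
  obtain ⟨β3, hβ3⟩ : ∃ β3, β3 = wL D L β2 := ⟨_, rfl⟩
  have hβ2l : β2 < D.nroots := hβ2 ▸ wL_lt hC hL hβ
  have hβ3l : β3 < D.nroots := hβ3 ▸ wL_lt hC hL hβ2l
  have hback : wL D L β3 = β := by rw [hβ3, hβ2, hper]
  rw [← hβ2, ← hβ3] at horth
  obtain ⟨a1, ha1, s1⟩ := hstep β hβ
  obtain ⟨a2, ha2, s2⟩ := hstep β2 hβ2l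
  obtain ⟨a3, ha3, s3⟩ := hstep β3 hβ3l
  rw [← hβ2] at s1
  rw [← hβ3] at s2
  rw [hback] at s3
  obtain ⟨η, hη⟩ : ∃ η, η = a3 * (a2 * a1 ^ q) ^ q := ⟨_, rfl⟩
  obtain ⟨Q, hQ⟩ : ∃ Q, Q = q ^ 3 := ⟨_, rfl⟩
  have hη0 : η ≠ 0 :=
    hη ▸ mul_ne_zero ha3 (pow_ne_zero _ (mul_ne_zero ha2 (pow_ne_zero _ ha1)))
  have hp1 : ∀ t, τ (τ (τ (xg hC β t))) = xg hC β (η * t ^ Q) := fun t => by
    rw [(s1 t).1, (s2 _).1, (s3 _).1, hη, hQ]
    congr 1
    simp only [mul_pow, ← pow_mul]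
    ring
  have hp2 : ∀ t, τ (τ (τ (xg hC (D.neg β) t))) = xg hC (D.neg β) (η⁻¹ * t ^ Q) := fun t => by
    rw [(s1 t).2, (s2 _).2, (s3 _).2, hη, hQ]
    congr 1
    simp only [mul_inv, mul_pow, inv_pow, ← pow_mul]
    ring
  -- the period
  have hiter : ∀ (k : ℕ) x, τ^[k] x =
      gv⁻¹ * (mapGL D σ)^[k] (gv * x * gv⁻¹) * gv := by
    intro k
    induction k with
    | zero => intro x; simp only [Function.iterate_zero, id]; group
    | succ k ih =>
      intro x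
      rw [Function.iterate_succ_apply', ih, Function.iterate_succ_apply', hτa, map_mul, map_mul,
        map_inv, hn0']
      group
  have hmap : ∀ (k : ℕ) (y : GL D.Idx K) a b,
      ((mapGL D σ)^[k] y : GL D.Idx K) a b = (y a b) ^ q ^ k := by
    intro k
    induction k with
    | zero => intro y a b; simp
    | succ k ih =>
      intro y a b
      rw [Function.iterate_succ_apply']
      show σ (((mapGL D σ)^[k] y : GL D.Idx K) a b) = _
      rw [ih, hσq, ← pow_mul, ← pow_succ]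
  have hid : ∀ x, τ^[12] x = x := fun x => by
    have h1 : (mapGL D σ)^[12] (gv * x * gv⁻¹) = gv * x * gv⁻¹ :=
      Units.ext (Matrix.ext fun a b => by
        rw [hmap, ← hK]; exact FiniteField.pow_card _)
    rw [hiter, h1]; group
  have hN : η ^ (1 + Q + Q ^ 2 + Q ^ 3) = 1 := by
    have h1 := hid (xg hC β 1)
    simp only [Function.iterate_succ, Function.iterate_zero, Function.comp_apply, id, hp1] at h1
    have h2 := xg_injective hC hβ h1
    rw [← h2]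
    simp only [one_pow, mul_one, mul_pow, ← pow_mul]
    ring
  obtain ⟨z, hzne, hz⟩ := exists_two_cycle (K := K) (Q := Q)
    (hQ ▸ hq.trans (Nat.le_self_pow (by norm_num) q)) (by rw [hK, hQ, ← pow_mul]) hN
  obtain ⟨w, hw⟩ : ∃ w, w = η * z ^ Q := ⟨_, rfl⟩
  rw [← hw] at hzne hz
  obtain ⟨b, hb⟩ : ∃ b, b = (w - z)⁻¹ := ⟨_, rfl⟩
  have hwz : w - z ≠ 0 := sub_ne_zero.2 hzne
  have hfr : ∀ x y : K, (x - y) ^ Q = x ^ Q - y ^ Q := by
    obtain ⟨p, hchar⟩ := CharP.exists K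
    obtain ⟨n, hp, hcard⟩ := FiniteField.card K p
    have : Fact p.Prime := ⟨hp⟩
    obtain ⟨m, -, hm⟩ : ∃ m ≤ (n : ℕ), Q = p ^ m := (Nat.dvd_prime_pow hp).1 (by
      rw [← hcard, hK, hQ]; exact pow_dvd_pow q (by norm_num))
    intro x y
    rw [hm]; exact sub_pow_char_pow x y m
  have hbQ : η⁻¹ * b ^ Q = -b := by
    rw [hb, inv_pow, ← mul_inv, hfr, mul_sub, hz, ← hw, ← neg_sub w z, inv_neg]
  obtain ⟨h1, hh1⟩ : ∃ h1, h1 = xg hC β z * xg hC (D.neg β) b := ⟨_, rfl⟩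
  have hd : h1⁻¹ * τ (τ (τ h1)) = ng hC (D.neg β) (-b) := by
    have e : ng hC (D.neg β) (-b) =
        xg hC (D.neg β) (-b) * xg hC β (w - z) * xg hC (D.neg β) (-b) := by
      refine Units.ext ?_
      rw [coe_ng, Units.val_mul, Units.val_mul]
      simp only [coe_xg, ChevalleyDatum.nMat, ChevalleyDatum.nWord, ChevalleyDatum.wordMat, List.map_cons,
        List.map_nil, List.prod_cons, List.prod_nil, mul_one, hC.neg_neg hβ]
      rw [inv_neg, neg_neg, hb, inv_inv, mul_assoc]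
    rw [e, hh1, map_mul, map_mul, map_mul, hp1, hp2, ← hw, hbQ, mul_inv_rev, xg_inv, xg_inv,
      sub_eq_neg_add, xg_add]
    simp only [mul_assoc]
  have hc1 : ∀ e', (e' = β2 ∨ e' = D.neg β2 ∨ e' = β3 ∨ e' = D.neg β3) →
      ∀ u, Commute h1 (xg hC e' u) := fun e' he' u =>
    hh1 ▸ (horth β (Or.inl rfl) e' he' _ _).mul_left (horth _ (Or.inr rfl) e' he' _ _)
  have hcb : Commute h1 (τ h1) := by
    nth_rw 2 [hh1]
    rw [map_mul, (s1 _).1, (s1 _).2]
    exact (hc1 _ (Or.inl rfl) _).mul_right (hc1 _ (Or.inr (Or.inl rfl)) _)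
  have hcc : Commute h1 (τ (τ h1)) := by
    nth_rw 2 [hh1]
    rw [map_mul, map_mul, (s1 _).1, (s1 _).2, (s2 _).1, (s2 _).2]
    exact (hc1 _ (Or.inr (Or.inr (Or.inl rfl))) _).mul_right
      (hc1 _ (Or.inr (Or.inr (Or.inr rfl))) _)
  obtain ⟨h, hh⟩ : ∃ h, h = h1 * τ h1 * τ (τ h1) := ⟨_, rfl⟩
  have hτh : h⁻¹ * τ h = h1⁻¹ * τ (τ (τ h1)) := by
    rw [hh, map_mul, map_mul, inv_mul_eq_iff_eq_mul]
    calc τ h1 * τ (τ h1) * τ (τ (τ h1))
        = τ h1 * τ (τ h1) * h1 * (h1⁻¹ * τ (τ (τ h1))) := by group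
      _ = _ := by
        rw [← ((hcb.mul_right hcc).eq)]
        simp only [mul_assoc]
  have hmem : h ∈ D.group K := by
    have hh1G : h1 ∈ D.group K := hh1 ▸ mul_mem (xg_mem_group hC hβ _)
      (xg_mem_group hC (hC.neg_lt hβ) _)
    have hn0G : n0 ∈ D.group K := hn0' ▸ mul_mem (inv_mem hgv) (map_mem_group σ hgv)
    have hτG : ∀ x ∈ D.group K, τ x ∈ D.group K := fun x hx => by
      rw [hτa]; exact mul_mem (mul_mem hn0G (map_mem_group σ hx)) (inv_mem hn0G)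
    exact hh ▸ mul_mem (mul_mem hh1G (hτG _ hh1G)) (hτG _ (hτG _ hh1G))
  obtain ⟨c, hc⟩ := ng_eq_word (F := K) hC hL1 hi (t := -b)
    (neg_ne_zero.2 (hb ▸ inv_ne_zero hwz))
  rw [he] at hc
  have hall : ∀ a ∈ L1 ++ [i] ++ L1.reverse, a < D.rank := fun a ha => by
    rcases List.mem_append.1 ha with h | h
    · rcases List.mem_append.1 h with h | h
      exacts [hL1 a h, List.mem_singleton.1 h ▸ hi]
    · exact hL1 a (List.mem_reverse.1 h)
  obtain ⟨c', hc'⟩ := nL_conj_tor (F := K) hC hall c0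
  refine ⟨gv * h, mul_mem hgv hmem, tor D (c * c'), tor_mem_H hC _, ?_⟩
  calc (gv * h)⁻¹ * mapGL D σ (gv * h)
      = h⁻¹ * τ h * n0 := by rw [map_mul, hτa, hn0']; group
    _ = tor D c * (nL hC K (L1 ++ [i] ++ L1.reverse) * tor D c0) * nL hC K L := by
      rw [hτh, hd, hc, hn0, hc0]; simp only [mul_assoc]
    _ = _ := by rw [hc', ← tor_mul, nL_append hC (L1 ++ [i] ++ L1.reverse) L]; simp only [mul_assoc]

end Cfsg.Agent.SimpleFacts.SingerCentre
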