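import Cfsg.Agent.SimpleFacts.SingerCentre.SixSeed
import Cfsg.Agent.Lib.Chevalley.Cover.CenterE7

/-!
The homomorphism from the cover of type E6 into the group of type E7.
-/

set_option autoImplicit false

open scoped Matrix

namespace Cfsg.Agent.SimpleFacts.SingerCentre.Seven

open Cfsg.Lie Cfsg.Agent.Chevalley Cfsg.Agent.Chevalley.Table Cfsg.Agent.Chevalley.Check
  Cfsg.Agent.Chevalley.Cert Cfsg.Agent.Chevalley.Group Cfsg.Agent.Chevalley.Borel
  Cfsg.Agent.Chevalley.Weyl Cfsg.Agent.Chevalley.TorusCard Cfsg.Agent.Chevalley.FieldAut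
  Cfsg.Agent.Chevalley.FieldFix
  Cfsg.Agent.Chevalley.Singer Cfsg.Agent.Chevalley.StKernel Cfsg.Agent.Chevalley.StConj
  Cfsg.Agent.Chevalley.StSteinberg Cfsg.Agent.Chevalley.Cover

theorem hC7 : Certified chevE7 Cfsg.Agent.Chevalley.Data.E7.tab :=
  Cfsg.Agent.Chevalley.Types.E7.certified

theorem card_ker7 (G : Type*) [CommGroup G] [Finite G] [IsCyclic G] :
    Nat.card (matHom (G := G) (cartanMat chevE7)).ker = Nat.gcd (Nat.card G) 2 := by
  refine (TorusCard.card_ker_matHom (G := G) Types.OrderE7.hP Types.OrderE7.hQ Types.OrderE7.hQ'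
    Types.OrderE7.hdiag).trans ?_
  simp [Fin.prod_univ_succ, Types.OrderE7.ed]

/-- The index in type E7 of a root of type E6. -/
def io (r : ℕ) : ℕ := ([6, 10, 13, 15, 16, 19, 21, 22, 24, 25, 26, 28, 29, 30, 31, 32, 35, 37, 38, 40, 41, 42, 44, 45, 46, 47, 49, 50, 51, 52, 54, 55, 56, 58, 59, 61, 64, 66, 67, 69, 70, 71, 73, 74, 75, 76, 78, 79, 80, 81, 83, 84, 85, 87, 88, 90, 93, 94, 95, 96, 97, 99, 100, 101, 103, 104, 106, 109, 110, 112, 115, 119] : List ℕ).getD r 0

theorem io_check : ∀ r : Fin 72, io (r : ℕ) < 126 ∧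
    io (chevE6.neg (r : ℕ)) = chevE7.neg (io (r : ℕ)) := by decide +kernel

theorem io_simple : ∀ i : Fin 6, io (chevE6.simple (i : ℕ)) = chevE7.simple (i : ℕ) := by
  decide +kernel

theorem io_injective : ∀ r s : Fin 72, io (r : ℕ) = io (s : ℕ) → r = s := by decide +kernel

theorem io_comm : ∀ r s : Fin 72,
    (chevE6.commTerms (r : ℕ) (s : ℕ)).map (fun c => (io c.1, c.2)) =
      chevE7.commTerms (io (r : ℕ)) (io (s : ℕ)) := by decide +kernel

theorem io_lt {r : ℕ} (hr : r < chevE6.nroots) : io r < chevE7.nroots := (io_check ⟨r, hr⟩).1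

theorem io_neg {r : ℕ} (hr : r < chevE6.nroots) : io (chevE6.neg r) = chevE7.neg (io r) :=
  (io_check ⟨r, hr⟩).2

variable (K : Type*) [Field K]

theorem embed_rels : Sys.Rels chevE6 (fun r (t : K) => xg hC7 (io r) t) := by
  refine ⟨fun r _ t u => xg_add hC7 _ t u, fun r hr s hs hne hnn t u => ?_⟩
  have hne' : io s ≠ io r := fun h => hne (congrArg Fin.val (io_injective ⟨s, hs⟩ ⟨r, hr⟩ h))
  have hnn' : io s ≠ chevE7.neg (io r) := fun h => hnn (congrArg Fin.val
    (io_injective ⟨s, hs⟩ ⟨_, Six.hC6.neg_lt hr⟩ (h.trans (io_neg hr).symm)))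
  have h := (Sys.xg_rels (F := K) hC7).comm _ (io_lt hr) _ (io_lt hs) hne' hnn' t u
  have e : chevE7.commWord K (io r) (io s) t u =
      (chevE6.commWord K r s t u).map fun p => (io p.1, p.2) := by
    rw [ChevalleyDatum.commWord, ← io_comm ⟨r, hr⟩ ⟨s, hs⟩, ChevalleyDatum.commWord, List.map_map,
      List.map_map]
    rfl
  rw [e, List.map_map] at h
  exact h

/-- The homomorphism into the group of type E7. -/
noncomputable def emb : chevE6.SteinbergCover K →* GL chevE7.Idx K :=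
  (Sys.exists_hom Six.hC6 (embed_rels K)).choose

theorem emb_gen {r : ℕ} (hr : r < chevE6.nroots) (t : K) :
    emb K (chevE6.scGen K r t) = xg hC7 (io r) t :=
  (Sys.exists_hom Six.hC6 (embed_rels K)).choose_spec r hr t

theorem emb_mem (x : chevE6.SteinbergCover K) : emb K x ∈ chevE7.group K := by
  have hle : Subgroup.closure {g | ∃ r t, r < chevE6.nroots ∧ g = chevE6.scGen K r t} ≤
      (chevE7.group K).comap (emb K) := by
    rw [Subgroup.closure_le]
    rintro g ⟨r, t, hr, rfl⟩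
    rw [SetLike.mem_coe, Subgroup.mem_comap, emb_gen K hr]
    exact xg_mem_group hC7 (io_lt hr) t
  rw [Sys.scGen_closure] at hle
  exact hle (Subgroup.mem_top x)

theorem emb_map {L : Type*} [Field L] (f : K →+* L) (x : chevE6.SteinbergCover K) :
    emb L (mapSC Six.hC6 f x) = mapGL chevE7 f (emb K x) := by
  have : (emb L).comp (mapSC Six.hC6 f) = (mapGL chevE7 f).comp (emb K) := by
    refine Sys.scHom_ext fun r hr t => ?_
    rw [MonoidHom.comp_apply, MonoidHom.comp_apply, mapSC_gen Six.hC6 f hr, emb_gen L hr,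
      emb_gen K hr, mapGL_xg]
  exact DFunLike.congr_fun this x

theorem emb_nb {r : ℕ} (hr : r < chevE6.nroots) (c : K) :
    emb K (nb (Sys.scSys (F := K) Six.hC6) r c) = ng hC7 (io r) c := by
  refine Eq.trans ?_ (th_nb (Sys.scSys (F := K) hC7) (io_lt hr) c)
  show emb K (chevE6.scGen K r c * chevE6.scGen K (chevE6.neg r) (-c⁻¹) * chevE6.scGen K r c) =
    Sys.th hC7 (chevE7.scGen K (io r) c * chevE7.scGen K (chevE7.neg (io r)) (-c⁻¹) *
      chevE7.scGen K (io r) c)
  rw [map_mul, map_mul, map_mul, map_mul, emb_gen K hr, emb_gen K (Six.hC6.neg_lt hr),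
    Sys.th_gen hC7 _ (io_lt hr), Sys.th_gen hC7 _ (hC7.neg_lt (io_lt hr)), io_neg hr]

theorem emb_nbL {L : List ℕ} (hL : ∀ i ∈ L, i < chevE6.rank) :
    emb K (nbL (Sys.scSys (F := K) Six.hC6) L) = nL hC7 K L := by
  induction L with
  | nil => simp [nbL, nL]
  | cons i L ih =>
    have hi : i < 6 := hL i List.mem_cons_self
    rw [nbL_cons, nL_cons, map_mul, ih fun j hj => hL j (List.mem_cons_of_mem i hj), n1,
      emb_nb K (Six.hC6.simple_lt hi), io_simple ⟨i, hi⟩]

theorem emb_sig (K : Type) [Field K] [Finite K] (d : Fin chevE6.rank → Kˣ) :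
    emb K (sig Six.pack6 K d) ∈ chevE7.diagonalSubgroup K := by
  obtain ⟨P, hP⟩ : ∃ P, P = (chevE7.diagonalSubgroup K).comap ((emb K).comp (sig Six.pack6 K)) :=
    ⟨_, rfl⟩
  have h1 : ∀ i a, Pi.mulSingle i a ∈ P := by
    intro i a
    rw [hP, Subgroup.mem_comap, MonoidHom.comp_apply, sig, sigma,
      MonoidHom.noncommPiCoprod_mulSingle]
    show emb K (hb (Sys.scSys (F := K) Six.hC6) (chevE6.simple i) (a : K)) ∈ _
    have hi := Six.hC6.simple_lt i.2
    rw [hb, map_mul, emb_nb K hi, emb_nb K hi]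
    show hg hC7 (io (chevE6.simple i)) (a : K) ∈ _
    rw [hg_eq_tor hC7 (io_lt hi)]
    exact tor_mem_H hC7 _
  have h2 : d ∈ P := Subgroup.pi_mem_of_mulSingle_mem d fun i => h1 i (d i)
  rw [hP] at h2
  exact h2

end Cfsg.Agent.SimpleFacts.SingerCentre.Seven
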