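import Cfsg.Agent.SimpleFacts.SingerCentre.SevenEmbed

/-!
Roots of type E7 seen from the maximal subsystem of type E6.
-/

set_option autoImplicit false

open scoped Matrix

namespace Cfsg.Agent.SimpleFacts.SingerCentre.Seven

open Cfsg.Lie Cfsg.Agent.Chevalley Cfsg.Agent.Chevalley.Table Cfsg.Agent.Chevalley.Check
  Cfsg.Agent.Chevalley.Cert Cfsg.Agent.Chevalley.Group Cfsg.Agent.Chevalley.Borel
  Cfsg.Agent.Chevalley.Singer Cfsg.Agent.Chevalley.TorusCard Cfsg.Agent.SimpleFacts.SingerCentre.Six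

/-- Weight coordinates of type E7. -/
abbrev V7 : Type := Fin 7 → ℤ

/-- The Cartan matrix of type E7. -/
def CM7 : Matrix (Fin 7) (Fin 7) ℤ := !![2, 0, -1, 0, 0, 0, 0; 0, 2, 0, -1, 0, 0, 0; -1, 0, 2, -1, 0, 0, 0; 0, -1, -1, 2, -1, 0, 0; 0, 0, 0, -1, 2, -1, 0; 0, 0, 0, 0, -1, 2, -1; 0, 0, 0, 0, 0, -1, 2]

/-- The first six coordinates. -/
def pr (x : V7) : V := fun i => x i.castSucc

/-- The weight coordinates of a root. -/
def lam7 (s : ℕ) : V7 := lam chevE7 s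

/-- The coroot of a root. -/
def cor7 (s : ℕ) : V7 := fun i => cor chevE7 s i

/-- The projection of a root. -/
def p7 (s : ℕ) : V := pr (lam7 s)

/-- The coefficient on the last fundamental root. -/
def aC (s : ℕ) : ℤ := cor chevE7 s 6

theorem root7_check : ∀ s : Fin 126, lam7 (s : ℕ) = CM7 *ᵥ cor7 (s : ℕ) ∧
    (aC (s : ℕ) = -1 ∨ aC (s : ℕ) = 0 ∨ aC (s : ℕ) = 1) ∧
    p7 (s : ℕ) + aC (s : ℕ) • (Pi.single 5 1 : V) = CM *ᵥ pr (cor7 (s : ℕ)) ∧
    cor7 (s : ℕ) ⬝ᵥ lam7 (s : ℕ) = 2 := by decide +kernel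

theorem p7_injective : ∀ s t : Fin 126, aC (s : ℕ) = aC (t : ℕ) → p7 (s : ℕ) = p7 (t : ℕ) → s = t := by
  decide +kernel

theorem form_eq : (24 : ℤ) • CM7 = (CM7.submatrix Fin.castSucc id)ᵀ * SM *
    CM7.submatrix Fin.castSucc id + Matrix.single (Fin.last 6) (Fin.last 6) 16 :=
  of_eqB (by decide +kernel)

theorem small_check : ∀ a b c d e f : Fin 3,
    sB (![(a : ℤ) - 1, (b : ℤ) - 1, (c : ℤ) - 1, (d : ℤ) - 1, (e : ℤ) - 1, (f : ℤ) - 1])
      (![(a : ℤ) - 1, (b : ℤ) - 1, (c : ℤ) - 1, (d : ℤ) - 1, (e : ℤ) - 1, (f : ℤ) - 1]) = 32 →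
    ∃ s : Fin 126, aC (s : ℕ) ≠ 0 ∧
      p7 (s : ℕ) = ![(a : ℤ) - 1, (b : ℤ) - 1, (c : ℤ) - 1, (d : ℤ) - 1, (e : ℤ) - 1, (f : ℤ) - 1] := by
  unfold sB
  decide +kernel

theorem simple7_check : ∀ i : Fin 6, p7 (chevE7.simple (i : ℕ)) = lam6 (chevE6.simple (i : ℕ)) ∧
    ∀ k : Fin 7, (k : ℕ) = (i : ℕ) → k = i.castSucc := by decide +kernel

variable {s t : ℕ}

theorem aC_cases (hs : s < chevE7.nroots) : aC s = -1 ∨ aC s = 0 ∨ aC s = 1 :=
  (root7_check ⟨s, hs⟩).2.1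

theorem p7_inj (hs : s < chevE7.nroots) (ht : t < chevE7.nroots) (ha : aC s = aC t)
    (hp : p7 s = p7 t) : s = t :=
  congrArg Fin.val (p7_injective ⟨s, hs⟩ ⟨t, ht⟩ ha hp)

theorem form_apply (x y : V7) :
    24 * (x ⬝ᵥ CM7 *ᵥ y) = sB (CM7.submatrix Fin.castSucc id *ᵥ x)
      (CM7.submatrix Fin.castSucc id *ᵥ y) + 16 * (x 6 * y 6) := by
  rw [← smul_eq_mul, ← dotProduct_smul, ← Matrix.smul_mulVec, form_eq, Matrix.add_mulVec,
    dotProduct_add, sB, Matrix.mul_assoc, ← Matrix.mulVec_mulVec, Matrix.dotProduct_mulVec,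
    Matrix.vecMul_transpose, ← Matrix.mulVec_mulVec]
  congr 1
  rw [Matrix.single_mulVec]
  simp [dotProduct, Fin.sum_univ_succ]
  ring

theorem p7_eq (hs : s < chevE7.nroots) : p7 s = CM7.submatrix Fin.castSucc id *ᵥ cor7 s := by
  have h := (root7_check ⟨s, hs⟩).1
  simp only at h
  rw [p7, h]
  rfl

/-- The pairing of roots in terms of the projections. -/
theorem pairing (hs : s < chevE7.nroots) (ht : t < chevE7.nroots) :
    24 * (cor7 s ⬝ᵥ lam7 t) = sB (p7 s) (p7 t) + 16 * (aC s * aC t) := by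
  have h := (root7_check ⟨t, ht⟩).1
  simp only at h
  rw [h, p7_eq hs, p7_eq ht, form_apply]
  rfl

theorem norm_p7 (hs : s < chevE7.nroots) : sB (p7 s) (p7 s) = 48 - 16 * (aC s * aC s) := by
  have := pairing hs hs
  rw [(root7_check ⟨s, hs⟩).2.2.2] at this
  omega

theorem inQ_p7 (hs : s < chevE7.nroots) : InQ (p7 s + aC s • (Pi.single 5 1 : V)) :=
  ⟨_, (root7_check ⟨s, hs⟩).2.2.1⟩

theorem sub_inQ (hs : s < chevE7.nroots) (ht : t < chevE7.nroots) (ha : aC s = aC t) :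
    InQ (p7 s - p7 t) := by
  have := (inQ_p7 hs).sub (inQ_p7 ht)
  rwa [ha, add_sub_add_right_eq_sub] at this

theorem lam_neg {D : ChevalleyDatum} {T : Tab} (hC : Certified D T) {s : ℕ} (hs : s < D.nroots) :
    lam D (D.neg s) = -lam D s :=
  funext fun i => hC.cartan_neg hs i.2

theorem pr_neg (x : V7) : pr (-x) = -pr x := rfl

theorem lam7_neg (hs : s < chevE7.nroots) : lam7 (chevE7.neg s) = -lam7 s := lam_neg hC7 hs

theorem p7_neg (hs : s < chevE7.nroots) :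
    p7 (chevE7.neg s) = -p7 s ∧ aC (chevE7.neg s) = -aC s := by
  refine ⟨?_, ?_⟩
  · unfold p7
    rw [lam7_neg hs, pr_neg]
  · unfold aC
    exact hC7.cor_neg hs (by decide)

theorem coord_bound {x : V} (hx : sB x x = 32) (i : Fin 6) : -1 ≤ x i ∧ x i ≤ 1 := by
  have h1 := sB_nonneg (simp6 i + x)
  have h2 := sB_nonneg (simp6 i - x)
  rw [sB_add_left, sB_add_right, sB_add_right, sB_comm x (simp6 i), sB_simp6_left i x, hx,
    sB_simp6, show CM i i = 2 by fin_cases i <;> rfl] at h1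
  rw [sB_sub_left, sB_sub_right, sB_sub_right, sB_comm x (simp6 i), sB_simp6_left i x, hx,
    sB_simp6, show CM i i = 2 by fin_cases i <;> rfl] at h2
  omega

/-- Every minimal weight is the projection of a root. -/
theorem exists_root_of_weight {x : V} (hx : sB x x = 32) :
    ∃ s < chevE7.nroots, aC s ≠ 0 ∧ p7 s = x := by
  choose a ha using fun i : Fin 6 => (⟨⟨(x i + 1).toNat, by have := coord_bound hx i; omega⟩,
    by have := coord_bound hx i; show ((x i + 1).toNat : ℤ) - 1 = x i; omega⟩ :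
      ∃ a : Fin 3, (a : ℤ) - 1 = x i)
  have e : x = ![(a 0 : ℤ) - 1, (a 1 : ℤ) - 1, (a 2 : ℤ) - 1, (a 3 : ℤ) - 1, (a 4 : ℤ) - 1,
      (a 5 : ℤ) - 1] := funext fun i => by fin_cases i <;> simp [ha]
  obtain ⟨s, hs, hp⟩ := small_check (a 0) (a 1) (a 2) (a 3) (a 4) (a 5) (e ▸ hx)
  exact ⟨s, s.2, hs, hp.trans e.symm⟩

/-- The matrix of a word in type E7. -/
def M7 (L : List ℕ) : Matrix (Fin 7) (Fin 7) ℤ := wMat chevE7 L

theorem pr_M7 {L : List ℕ} (hL : ∀ i ∈ L, i < 6) (x : V7) : pr (M7 L *ᵥ x) = M6 L *ᵥ pr x := by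
  induction L with
  | nil =>
    rw [show M7 [] = 1 from rfl, show M6 [] = 1 from rfl, Matrix.one_mulVec, Matrix.one_mulVec]
  | cons i L ih =>
    have hi : i < 6 := hL i List.mem_cons_self
    have hi7 : i < chevE7.rank := Nat.lt_succ_of_lt hi
    have ih' := ih fun j hj => hL j (List.mem_cons_of_mem i hj)
    rw [M6_cons (hi := hi), ← ih']
    obtain ⟨y, hy⟩ : ∃ y : V7, y = M7 L *ᵥ x := ⟨_, rfl⟩
    have e : M7 (i :: L) *ᵥ x = refMat chevE7 i *ᵥ y := by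
      rw [hy]; exact (Matrix.mulVec_mulVec _ _ _).symm
    rw [e, ← hy]
    have e2 : refMat chevE7 i *ᵥ y = y - y ⟨i, hi7⟩ • lam7 (chevE7.simple i) := by
      have h2 : ∀ z : Fin chevE7.rank → ℤ, refMat chevE7 i *ᵥ z =
          z - z ⟨i, hi7⟩ • lam chevE7 (chevE7.simple i) := fun z => by
        rw [refMat, Matrix.sub_mulVec, Matrix.one_mulVec, Matrix.vecMulVec_mulVec, delta_dot hi7,
          op_smul_eq_smul]
      exact h2 y
    rw [e2]
    funext j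
    simp only [pr, Pi.sub_apply, Pi.smul_apply, smul_eq_mul]
    have h1 := congrFun (simple7_check ⟨i, hi⟩).1 j
    rw [show simp6 ⟨i, hi⟩ = lam6 (chevE6.simple i) from simp6_eq ⟨i, hi⟩]
    simp only [p7, pr] at h1
    rw [h1]
    rfl

theorem aC_wL {L : List ℕ} (hL : ∀ i ∈ L, i < 6) (hs : s < chevE7.nroots) :
    aC (wL chevE7 L s) = aC s := by
  induction L with
  | nil => rfl
  | cons i L ih =>
    have hi : i < 6 := hL i List.mem_cons_self
    have hL' : ∀ j ∈ L, j < chevE7.rank := fun j hj =>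
      Nat.lt_succ_of_lt (hL j (List.mem_cons_of_mem i hj))
    show cor chevE7 (chevE7.reflectRoot i (wL chevE7 L s)) 6 = _
    rw [hC7.cor_reflect (Nat.lt_succ_of_lt hi) (by decide) (wL_lt hC7 hL' hs), if_neg (by omega)]
    exact ih fun j hj => hL j (List.mem_cons_of_mem i hj)

theorem p7_wL {L : List ℕ} (hL : ∀ i ∈ L, i < 6) (hs : s < chevE7.nroots) :
    p7 (wL chevE7 L s) = M6 L *ᵥ p7 s := by
  rw [p7, lam7, ← wMat_lam hC7 (fun i hi => Nat.lt_succ_of_lt (hL i hi)) hs]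
  exact pr_M7 hL _

end Cfsg.Agent.SimpleFacts.SingerCentre.Seven
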