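import Cfsg.Agent.SimpleFacts.SingerCentre.SevenRoots
import Cfsg.Agent.SimpleFacts.SingerCentre.RankOne

/-!
The seed of type E6 moved into type E7, and the orbit of three orthogonal roots killed by it.
-/

set_option autoImplicit false

open scoped Matrix

namespace Cfsg.Agent.SimpleFacts.SingerCentre.Seven

open Cfsg.Lie Cfsg.Agent.Chevalley Cfsg.Agent.Chevalley.Table Cfsg.Agent.Chevalley.Check
  Cfsg.Agent.Chevalley.Cert Cfsg.Agent.Chevalley.Group Cfsg.Agent.Chevalley.Borel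
  Cfsg.Agent.Chevalley.Weyl Cfsg.Agent.Chevalley.Singer Cfsg.Agent.Chevalley.TorusCard
  Cfsg.Agent.Chevalley.FieldAut Cfsg.Agent.Chevalley.StKernel Cfsg.Agent.Chevalley.Cover
  Cfsg.Agent.SimpleFacts.SingerCentre.Six

theorem det7_ne : (cartanMat chevE7).det ≠ 0 := by
  intro h
  have h1 := congrArg Matrix.det Types.OrderE7.hdiag
  rw [Matrix.det_mul, Matrix.det_mul, show Types.OrderE7.M.det = 0 from h, mul_zero, zero_mul,
    Matrix.det_diagonal] at h1
  simp [Fin.prod_univ_succ, Types.OrderE7.ed] at h1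

theorem pack7 : Pack chevE7 Cfsg.Agent.Chevalley.Data.E7.tab 2 where
  cert := hC7
  certs := ⟨⟨_, Types.CoefE7.coef_ok⟩, ⟨_, Types.StCerts.conj_E7⟩⟩
  sym := K2.sym_E7
  prime := Nat.prime_two
  center_dvd E _ _ := by rw [CenterE7.center_card]; exact Nat.gcd_dvd_left _ _
  center_eq E _ _ := by
    rw [CenterE7.center_card, card_ker7, Nat.card_units, Nat.card_eq_fintype_card, Nat.gcd_comm]
  det_ne := det7_ne

/-- A tuple on six letters, extended by one. -/
def ext7 {K : Type*} [Field K] (c : Fin 6 → Kˣ) : Fin 7 → Kˣ :=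
  fun i => Fin.snoc (α := fun _ => Kˣ) c 1 i

theorem evW_ext7 {K : Type*} [Field K] (c : Fin chevE6.rank → Kˣ) (x : V7) :
    evW (D := chevE7) (ext7 c) x = evW (D := chevE6) c (pr x) := by
  have key : ∀ c' : Fin 6 → Kˣ,
      (∏ i : Fin 7, ext7 c' i ^ x i) = ∏ i : Fin 6, c' i ^ pr x i := fun c' => by
    rw [Fin.prod_univ_castSucc]
    simp only [ext7, Fin.snoc_last, Fin.snoc_castSucc, one_zpow, mul_one, pr]
  exact key c

/-- What is used of the seed and of the orbit. -/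
structure Seed7 (K : Type) [Field K] (σ : K →+* K) (q r : ℕ) [Fact r.Prime] where
  gv : GL chevE7.Idx K
  mem : gv ∈ chevE7.group K
  L : List ℕ
  valid : ∀ i ∈ L, i < 6
  h0 : GL chevE7.Idx K
  h0_mem : h0 ∈ chevE7.diagonalSubgroup K
  twist : gv⁻¹ * mapGL chevE7 σ gv = h0 * nL hC7 K L
  v : Fin 6 → ZMod r
  res : Res (M6 L) r q v
  c : Fin chevE6.rank → Kˣ
  c_mem : c ∈ gam (wMat chevE6 L) K q
  ev_iff : ∀ x y : V, evW c x = evW c y ↔ ev v x = ev v y
  root : ℕ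
  root_lt : root < chevE7.nroots
  root_a : aC root = 1
  root_norm : sB (p7 root) (p7 root) = 32
  root_three : In3 (M6 L) (p7 root)

theorem valid7 {L : List ℕ} (h : ∀ i ∈ L, i < 6) : ∀ i ∈ L, i < chevE7.rank :=
  fun i hi => Nat.lt_succ_of_lt (h i hi)

theorem exists_seed7 {F : Type*} [Field F] [Fintype F] {K : Type} [Field K] [Fintype K]
    (f : F →+* K) (σ : K →+* K) {q : ℕ} (hq : Fintype.card F = q)
    (hQ : Fintype.card K = q ^ 12) (hσf : ∀ t, σ (f t) = f t) (hσq : ∀ x, σ x = x ^ q)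
    {r : ℕ} [Fact r.Prime] (hrb : 13 ≤ r) (hord : orderOf (q : ZMod r) = 12) :
    Nonempty (Seed7 K σ q r) := by
  obtain ⟨S⟩ := Six.exists_seed f σ hq hQ hσf hσq hrb hord
  have hL6 : ∀ i ∈ S.L, i < 6 := S.valid
  obtain ⟨γ, hγ⟩ := range_th Six.hC6 S.mem
  obtain ⟨ν, hν⟩ : ∃ ν, ν = γ⁻¹ * mapSC Six.hC6 σ γ := ⟨_, rfl⟩
  obtain ⟨N6, hN6⟩ : ∃ N6, N6 = nbL (Sys.scSys (F := K) Six.hC6) S.L := ⟨_, rfl⟩
  have hthN : Sys.th Six.hC6 N6 = nL Six.hC6 K S.L :=
    hN6 ▸ StKernel.th_nbL (Sys.scSys (F := K) Six.hC6) S.valid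
  obtain ⟨d, hd⟩ := (mem_H_iff Six.hC6).1 S.h0_mem
  rw [← torHom_eq Six.hC6] at hd
  obtain ⟨d', hd'⟩ := exists_sig_of_th Six.pack6 (x := ν * N6⁻¹) (d := fun i => d i) (by
    rw [map_mul, map_inv, hthN, hν, map_mul, map_inv, th_mapSC, hγ, S.twist, hd,
      mul_inv_cancel_right])
  have hν' : ν = sig Six.pack6 K d' * N6 := by rw [← hd']; group
  obtain ⟨μ, hμn, hμ3⟩ := exists_weight S.res
  obtain ⟨s, hs, hsa, hsp⟩ := exists_root_of_weight hμn
  obtain ⟨s0, hs0, hs0a, hs0n, hs03⟩ : ∃ s0 < chevE7.nroots, aC s0 = 1 ∧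
      sB (p7 s0) (p7 s0) = 32 ∧ In3 (M6 S.L) (p7 s0) := by
    rcases aC_cases hs with h | h | h
    · refine ⟨chevE7.neg s, hC7.neg_lt hs, by rw [(p7_neg hs).2, h]; rfl, ?_, ?_⟩
      · rw [(p7_neg hs).1, sB_neg_left, sB_neg_right, neg_neg, hsp, hμn]
      · rw [(p7_neg hs).1, hsp, ← neg_one_smul ℤ μ]
        exact hμ3.smul _
    · exact absurd h hsa
    · exact ⟨s, hs, h, hsp ▸ hμn, hsp ▸ hμ3⟩
  refine ⟨⟨emb K γ, emb_mem K γ, S.L, hL6, emb K (sig Six.pack6 K d'), emb_sig K d', ?_, S.v, S.res,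
    S.c, S.c_mem, S.ev_iff, s0, hs0, hs0a, hs0n, hs03⟩⟩
  rw [← emb_map, ← map_inv, ← map_mul, ← hν, hν', map_mul, hN6, emb_nbL K S.valid]

variable {K : Type} [Field K] {σ : K →+* K} {q r : ℕ} [Fact r.Prime] (S : Seed7 K σ q r)

/-- The three roots. -/
def Seed7.orb (k : Fin 3) : ℕ :=
  ![S.root, wL chevE7 S.L S.root, wL chevE7 S.L (wL chevE7 S.L S.root)] k

theorem orb_lt (k : Fin 3) : S.orb k < chevE7.nroots := by
  have h1 := wL_lt hC7 (valid7 S.valid) S.root_lt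
  fin_cases k
  exacts [S.root_lt, h1, wL_lt hC7 (valid7 S.valid) h1]

theorem orb_a (k : Fin 3) : aC (S.orb k) = 1 := by
  have h1 := wL_lt hC7 (valid7 S.valid) S.root_lt
  fin_cases k
  · exact S.root_a
  · exact (aC_wL S.valid S.root_lt).trans S.root_a
  · exact ((aC_wL S.valid h1).trans (aC_wL S.valid S.root_lt)).trans S.root_a

theorem orb_p (k : Fin 3) : p7 (S.orb k) = M6 S.L ^ (k : ℕ) *ᵥ p7 S.root := by
  have h1 := wL_lt hC7 (valid7 S.valid) S.root_lt
  fin_cases k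
  · simp [Seed7.orb]
  · rw [show ((⟨1, _⟩ : Fin 3) : ℕ) = 1 from rfl, pow_one]
    exact p7_wL S.valid S.root_lt
  · rw [show ((⟨2, _⟩ : Fin 3) : ℕ) = 2 from rfl, pow_two, ← Matrix.mulVec_mulVec,
      ← p7_wL S.valid S.root_lt]
    exact p7_wL S.valid h1

theorem orb_closed : wL chevE7 S.L (S.orb 2) = S.orb 0 := by
  refine p7_inj (wL_lt hC7 (valid7 S.valid) (orb_lt S 2)) (orb_lt S 0)
    ((aC_wL S.valid (orb_lt S 2)).trans ((orb_a S 2).trans (orb_a S 0).symm)) ?_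
  rw [p7_wL S.valid (orb_lt S 2), orb_p, Matrix.mulVec_mulVec, ← pow_succ', orb_p]
  simpa using S.root_three.cube

theorem orb_sB (k l : Fin 3) : sB (p7 (S.orb k)) (p7 (S.orb l)) = if k = l then 32 else -16 := by
  have hw := S.root_three
  have hn := S.root_norm
  have h := three_values S.res.wd hw
  have h2 : sB (p7 S.root) (M6 S.L ^ 2 *ᵥ p7 S.root) = -16 := by
    rw [hw.sq, sB_sub_right, sB_neg_right]; omega
  have h12 : sB (M6 S.L *ᵥ p7 S.root) (M6 S.L ^ 2 *ᵥ p7 S.root) = -16 := by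
    rw [pow_two, ← Matrix.mulVec_mulVec, sB_M S.res.wd]; omega
  rw [orb_p, orb_p]
  fin_cases k <;> fin_cases l <;>
    simp [sB_pow S.res.wd, sB_M S.res.wd, sB_comm (M6 S.L *ᵥ p7 S.root) (p7 S.root),
      sB_comm (M6 S.L ^ 2 *ᵥ p7 S.root) (p7 S.root),
      sB_comm (M6 S.L ^ 2 *ᵥ p7 S.root) (M6 S.L *ᵥ p7 S.root), h2, h12, hn] <;> omega

theorem orb_pair (k l : Fin 3) :
    cor7 (S.orb k) ⬝ᵥ lam7 (S.orb l) = if k = l then 2 else 0 := by
  have h := pairing (orb_lt S k) (orb_lt S l)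
  rw [orb_sB, orb_a, orb_a] at h
  split at h <;> rename_i hkl
  · rw [if_pos hkl]; omega
  · rw [if_neg hkl]; omega

/-- The residue of a root. -/
def Seed7.val (s : ℕ) : ZMod r := ev S.v (p7 s)

/-- The residue vanishes exactly on the orbit and its negatives. -/
theorem killed_iff {s : ℕ} (hs : s < chevE7.nroots) :
    S.val s = 0 ↔ ∃ k, s = S.orb k ∨ s = chevE7.neg (S.orb k) := by
  constructor
  · intro h0
    rcases aC_cases hs with ha | ha | ha
    rotate_left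
    · exfalso
      have hn := norm_p7 hs
      rw [ha] at hn
      have hQ := inQ_p7 hs
      rw [ha, zero_smul, add_zero] at hQ
      exact regular S.res hQ (hn.trans (by norm_num)) h0
    · have hn := norm_p7 hs
      rw [ha] at hn
      have h3 := weight_three S.res (hn.trans (by norm_num)) h0
      have hu := weight_unique S.res S.root_norm (hn.trans (by norm_num)) S.root_three h3
        (sub_inQ hs S.root_lt (ha.trans S.root_a.symm))
      rcases hu with h | h | h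
      · exact ⟨0, Or.inl (p7_inj hs (orb_lt S 0) (ha.trans (orb_a S 0).symm) (by rw [h, orb_p]; simp))⟩
      · exact ⟨1, Or.inl (p7_inj hs (orb_lt S 1) (ha.trans (orb_a S 1).symm) (by rw [h, orb_p]; simp))⟩
      · exact ⟨2, Or.inl (p7_inj hs (orb_lt S 2) (ha.trans (orb_a S 2).symm) (by rw [h, orb_p]; simp))⟩
    · have hs' := hC7.neg_lt hs
      have ha' : aC (chevE7.neg s) = 1 := by rw [(p7_neg hs).2, ha]; rfl
      have hn := norm_p7 hs'
      rw [ha'] at hn
      have h0' : ev S.v (p7 (chevE7.neg s)) = 0 := by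
        have h1 : ev S.v (p7 s) = 0 := h0
        rw [(p7_neg hs).1]
        simp only [ev, dotProduct, Pi.neg_apply, Int.cast_neg, mul_neg, Finset.sum_neg_distrib,
          neg_eq_zero] at h1 ⊢
        exact h1
      have h3 := weight_three S.res (hn.trans (by norm_num)) h0'
      have hu := weight_unique S.res S.root_norm (hn.trans (by norm_num)) S.root_three h3
        (sub_inQ hs' S.root_lt (ha'.trans S.root_a.symm))
      rcases hu with h | h | h
      · refine ⟨0, Or.inr ?_⟩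
        rw [← p7_inj hs' (orb_lt S 0) (ha'.trans (orb_a S 0).symm) (by rw [h, orb_p]; simp),
          hC7.neg_neg hs]
      · refine ⟨1, Or.inr ?_⟩
        rw [← p7_inj hs' (orb_lt S 1) (ha'.trans (orb_a S 1).symm) (by rw [h, orb_p]; simp),
          hC7.neg_neg hs]
      · refine ⟨2, Or.inr ?_⟩
        rw [← p7_inj hs' (orb_lt S 2) (ha'.trans (orb_a S 2).symm) (by rw [h, orb_p]; simp),
          hC7.neg_neg hs]
  · rintro ⟨k, h | h⟩
    · rw [h, Seed7.val, orb_p]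
      exact ev_M S.res _ (ev_three S.res S.root_three)
    · rw [h, Seed7.val, (p7_neg (orb_lt S k)).1, orb_p]
      have h1 := ev_M S.res (k : ℕ) (ev_three S.res S.root_three)
      simp only [ev, dotProduct, Pi.neg_apply, Int.cast_neg, mul_neg, Finset.sum_neg_distrib,
        neg_eq_zero] at h1 ⊢
      exact h1

theorem simple_orth_check : ∀ i : Fin 7, ∀ s : Fin 126, lam7 (s : ℕ) i = 0 →
    chevE7.commTerms (chevE7.simple (i : ℕ)) (s : ℕ) = [] := by decide +kernel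

/-- Orthogonal root subgroups commute. -/
theorem orth_commute {F : Type*} [Field F] {a b : ℕ} (ha : a < chevE7.nroots) (hb : b < chevE7.nroots)
    (h : cor7 a ⬝ᵥ lam7 b = 0) (t u : F) : Commute (xg hC7 a t) (xg hC7 b u) := by
  obtain ⟨L1, hL1, i, hi, rfl⟩ := exists_word hC7 ha
  have hL1r : ∀ j ∈ L1.reverse, j < chevE7.rank := fun j hj => hL1 j (List.mem_reverse.1 hj)
  obtain ⟨b', hb'⟩ : ∃ b', b' = wL chevE7 L1.reverse b := ⟨_, rfl⟩
  have hb'l : b' < chevE7.nroots := hb' ▸ wL_lt hC7 hL1r hb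
  have hbb : wL chevE7 L1 b' = b := by rw [hb']; simpa using wL_reverse hC7 hL1r hb
  have h0 : lam chevE7 b' ⟨i, hi⟩ = 0 := by
    rw [← cor_simple_dot hC7 hi (lam chevE7 b'), hb', ← wMat_lam hC7 hL1r hb,
      ← cor_dot hC7 hL1 (hC7.simple_lt hi)]
    exact h
  have hne : lam chevE7 (chevE7.simple i) ⟨i, hi⟩ = 2 := hC7.cartan_simple hi
  have hnn : lam chevE7 (chevE7.neg (chevE7.simple i)) ⟨i, hi⟩ = -2 := by
    show chevE7.cartan i (chevE7.neg (chevE7.simple i)) = -2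
    rw [hC7.cartan_neg (hC7.simple_lt hi) hi, hC7.cartan_simple hi]
  rw [← hbb]
  exact commute_transport hC7 hL1 (hC7.simple_lt hi) hb'l (fun e => by rw [e, hne] at h0; omega)
    (fun e => by rw [e, hnn] at h0; omega) (simple_orth_check ⟨i, hi⟩ ⟨b', hb'l⟩ h0) t u

end Cfsg.Agent.SimpleFacts.SingerCentre.Seven
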