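import Cfsg.Agent.SimpleFacts.SingerCentre.SevenSeed
import Cfsg.Agent.SimpleFacts.SingerCentre.Cyclic
import Cfsg.Agent.SimpleFacts.SingerCentre.Arith
import Mathlib.LinearAlgebra.Matrix.Charpoly.Basic

/-!
The characteristic polynomial and the regularity of the twisted torus of type E7.
-/

set_option autoImplicit false

open scoped Matrix
open Polynomial

namespace Cfsg.Agent.SimpleFacts.SingerCentre.Seven

open Cfsg.Lie Cfsg.Agent.Chevalley Cfsg.Agent.Chevalley.Table Cfsg.Agent.Chevalley.Check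
  Cfsg.Agent.Chevalley.Cert Cfsg.Agent.Chevalley.Group Cfsg.Agent.Chevalley.Borel
  Cfsg.Agent.Chevalley.Weyl Cfsg.Agent.Chevalley.Singer Cfsg.Agent.Chevalley.TorusCard
  Cfsg.Agent.Chevalley.FieldAut Cfsg.Agent.SimpleFacts.SingerCentre.Six

/-- A word with invariant integral form nonzero on all roots is trivial. -/
theorem eqv_nil_of_inv {D : ChevalleyDatum} {T : Tab} (hC : Certified D T)
    (hdet : (cartanMat D).det ≠ 0) {L : List ℕ} (hL : ∀ i ∈ L, i < D.rank) (z : Fin D.rank → ℤ)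
    (hinv : ∀ s < D.nroots, z ⬝ᵥ lam D (wL D L s) = z ⬝ᵥ lam D s)
    (h0 : ∀ s < D.nroots, z ⬝ᵥ lam D s ≠ 0) : ∀ s < D.nroots, wL D L s = s := by
  classical
  obtain ⟨p, hp, hpp⟩ := Nat.exists_infinite_primes
    (Nat.card (WeylGroup.WG hC) + 1 + ∑ s ∈ Finset.range D.nroots, (z ⬝ᵥ lam D s).natAbs)
  have : Fact p.Prime := ⟨hpp⟩
  have hfix : z ᵥ* wMat D L = z := by
    refine sub_eq_zero.1 (Matrix.eq_zero_of_vecMul_eq_zero (M := (cartanMat D)ᵀ)
      (by rwa [Matrix.det_transpose]) (funext fun j => ?_))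
    show (z ᵥ* wMat D L - z) ⬝ᵥ lam D (D.simple j) = 0
    rw [sub_dotProduct, ← Matrix.dotProduct_mulVec, wMat_lam hC hL (hC.simple_lt j.2),
      hinv _ (hC.simple_lt j.2), sub_self]
  refine eqv_nil_of_fix hC hdet (r := p) (fun h => ?_) hL (v := fun i => (z i : ZMod p)) ?_
    fun s hs h => ?_
  · have := Nat.le_of_dvd Nat.card_pos h; omega
  · funext i
    have := congrArg (fun y : Fin D.rank → ℤ => (y i : ZMod p)) hfix
    simpa [Matrix.vecMul, dotProduct] using this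
  · refine h0 s hs (Int.natAbs_eq_zero.1 ?_)
    have h1 : ((z ⬝ᵥ lam D s : ℤ) : ZMod p) = 0 := by simpa [dotProduct] using h
    rw [ZMod.intCast_zmod_eq_zero_iff_dvd, Int.natCast_dvd] at h1
    refine Nat.eq_zero_of_dvd_of_lt h1 ?_
    have := Finset.single_le_sum (f := fun s => (z ⬝ᵥ lam D s).natAbs)
      (fun _ _ => Nat.zero_le _) (Finset.mem_range.2 hs)
    omega

theorem order_facts {q o : ℕ} (hq : 2 ≤ q) (h1 : o ∣ q ^ 3 + 1) (h2 : q ^ 3 + 1 ∣ 2 * o)
    (k l : Fin 3) : (o ∣ q ^ (k : ℕ) + q ^ (l : ℕ) → False) ∧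
      ((o : ℤ) ∣ (q : ℤ) ^ (l : ℕ) - (q : ℤ) ^ (k : ℕ) → k = l) := by
  have ho : 0 < o := Nat.pos_of_dvd_of_pos h1 (by positivity)
  have hbig : q ^ 3 + 1 ≤ 2 * o := Nat.le_of_dvd (by omega) h2
  have hco : Nat.Coprime o q := by
    refine (Nat.Coprime.coprime_dvd_left h1 ?_)
    show Nat.gcd (q ^ 3 + 1) q = 1
    rw [show q ^ 3 + 1 = 1 + q * q ^ 2 by ring, Nat.gcd_add_mul_left_left, Nat.gcd_one_left]
  have key : ∀ n : ℕ, 0 < n → n ≤ q ^ 2 + 1 → ¬ o ∣ n := by
    intro n hn hn' hd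
    have hle := Nat.le_of_dvd hn hd
    by_cases h3 : 3 ≤ q
    · nlinarith
    · obtain rfl : q = 2 := by omega
      norm_num at h1 h2 hn' hbig
      have := Nat.le_of_dvd (by norm_num) h1
      interval_cases o <;> omega
  have hp : ∀ (a : ℕ), a ≤ 2 → 1 ≤ q ^ a ∧ q ^ a ≤ q ^ 2 := fun a ha =>
    ⟨Nat.one_le_pow _ _ (by omega), Nat.pow_le_pow_right (by omega) ha⟩
  constructor
  · intro hd
    rcases le_total (k : ℕ) (l : ℕ) with h | h
    all_goals
      obtain ⟨d, hde⟩ := Nat.exists_eq_add_of_le h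
    · rw [show q ^ (k : ℕ) + q ^ (l : ℕ) = q ^ (k : ℕ) * (1 + q ^ d) by rw [hde, pow_add]; ring] at hd
      have := hp d (by omega)
      exact key (1 + q ^ d) (by omega) (by omega) ((hco.pow_right _).dvd_of_dvd_mul_left hd)
    · rw [show q ^ (k : ℕ) + q ^ (l : ℕ) = q ^ (l : ℕ) * (1 + q ^ d) by rw [hde, pow_add]; ring] at hd
      have := hp d (by omega)
      exact key (1 + q ^ d) (by omega) (by omega) ((hco.pow_right _).dvd_of_dvd_mul_left hd)
  · intro hd
    by_contra hne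
    have hne' : (k : ℕ) ≠ (l : ℕ) := fun e => hne (Fin.ext e)
    wlog h : (k : ℕ) < (l : ℕ) generalizing k l
    · exact this l k (by rw [← neg_sub]; exact hd.neg_right) (Ne.symm hne) (Ne.symm hne') (by omega)
    obtain ⟨d, hde⟩ := Nat.exists_eq_add_of_le h.le
    have hd' : o ∣ q ^ (k : ℕ) * (q ^ d - 1) := by
      rw [← Int.natCast_dvd_natCast, Nat.cast_mul, Nat.cast_sub (hp d (by omega)).1]
      push_cast
      rwa [mul_sub, ← pow_add, ← hde, mul_one]
    have h1d : q ^ 1 ≤ q ^ d := Nat.pow_le_pow_right (by omega) (by omega)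
    have := hp d (by omega)
    rw [pow_one] at h1d
    exact key (q ^ d - 1) (by omega) (by omega) ((hco.pow_right _).dvd_of_dvd_mul_left hd')

theorem cor_vec_neg {D : ChevalleyDatum} {T : Tab} (hC : Certified D T) {s : ℕ}
    (hs : s < D.nroots) :
    (fun j : Fin D.rank => cor D (D.neg s) j) = -fun j : Fin D.rank => cor D s j :=
  funext fun j => hC.cor_neg hs j.2

theorem cor7_neg {s : ℕ} (hs : s < chevE7.nroots) : cor7 (chevE7.neg s) = -cor7 s := by
  have key : ∀ (g : ℕ → ℕ → ℤ) (a b : ℕ), (∀ j < 7, g a j = -g b j) →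
      (fun i : Fin 7 => g a i) = -fun i : Fin 7 => g b i :=
    fun g a b h => funext fun i => h i i.2
  exact key (cor chevE7) (chevE7.neg s) s fun j hj => hC7.cor_neg hs hj

theorem det_scalar_add {l : ℕ} (k : ℤ) (y w : Fin (l + 1) → ℤ) :
    (Matrix.scalar (Fin (l + 1)) k + Matrix.vecMulVec y w).det =
      k ^ (l + 1) + (w ⬝ᵥ y) * k ^ l := by
  have h := Matrix.eval_charpoly (Matrix.vecMulVec (-y) w) k
  rw [Matrix.charpoly_vecMulVec] at h
  have e : Matrix.scalar (Fin (l + 1)) k + Matrix.vecMulVec y w =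
      Matrix.scalar (Fin (l + 1)) k - Matrix.vecMulVec (-y) w := by
    rw [Matrix.neg_vecMulVec, sub_neg_eq_add]
  rw [e, ← h]
  simp [dotProduct_comm w y, neg_dotProduct]

theorem M7_last {L : List ℕ} (hL : ∀ i ∈ L, i < 6) :
    M7 L *ᵥ (Pi.single (Fin.last 6) 1 : V7) = Pi.single (Fin.last 6) 1 := by
  induction L with
  | nil => rw [show M7 [] = 1 from rfl, Matrix.one_mulVec]
  | cons i L ih =>
    have hi : i < 6 := hL i List.mem_cons_self
    have hi7 : i < chevE7.rank := Nat.lt_succ_of_lt hi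
    have e : M7 (i :: L) *ᵥ (Pi.single (Fin.last 6) 1 : V7) =
        refMat chevE7 i *ᵥ (Pi.single (Fin.last 6) 1 : V7) :=
      (Matrix.mulVec_mulVec _ _ _).symm.trans
        (congrArg (fun y : V7 => refMat chevE7 i *ᵥ y)
          (ih fun j hj => hL j (List.mem_cons_of_mem i hj)))
    rw [e]
    have h2 : ∀ z : Fin chevE7.rank → ℤ, refMat chevE7 i *ᵥ z =
        z - z ⟨i, hi7⟩ • lam chevE7 (chevE7.simple i) := fun z => by
      rw [refMat, Matrix.sub_mulVec, Matrix.one_mulVec, Matrix.vecMulVec_mulVec, delta_dot hi7,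
        op_smul_eq_smul]
    refine (h2 _).trans ?_
    have h3 : (Pi.single (Fin.last 6) 1 : V7) ⟨i, Nat.lt_succ_of_lt hi⟩ = 0 :=
      Pi.single_eq_of_ne (fun h => (ne_of_lt hi) (congrArg Fin.val h)) _
    exact (congrArg (fun a : ℤ => (Pi.single (Fin.last 6) 1 : V7) - a • lam7 (chevE7.simple i)) h3).trans
      (by simp)

theorem charpoly_M7 {L : List ℕ} (hL : ∀ i ∈ L, i < 6) :
    (M7 L).charpoly = (M6 L).charpoly * (X - 1) := by
  have h6 : ∀ (i j : Fin 6), M7 L i.castSucc j.castSucc = M6 L i j := fun i j => by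
    have h := congrFun (pr_M7 hL (Pi.single j.castSucc 1)) i
    rw [pr, Matrix.mulVec_single_one, Matrix.col_apply,
      show pr (Pi.single j.castSucc (1 : ℤ)) = Pi.single j 1 from funext fun k => by
        simp [pr, Pi.single_apply],
      Matrix.mulVec_single_one, Matrix.col_apply] at h
    exact h
  have hlast := M7_last hL
  rw [Matrix.mulVec_single_one] at hlast
  have e : Matrix.reindex (finSumFinEquiv (m := 6) (n := 1)).symm (finSumFinEquiv (m := 6) (n := 1)).symm (M7 L) =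
      Matrix.fromBlocks (M6 L) 0 (Matrix.of fun _ j => M7 L (Fin.last 6) j.castSucc) 1 := by
    ext (i | i) (j | j)
    · exact h6 i j
    · rw [Subsingleton.elim j 0]
      have := congrFun hlast i.castSucc
      rw [Matrix.col_apply] at this
      exact this.trans (Pi.single_eq_of_ne (Fin.castSucc_lt_last i).ne _)
    · rw [Subsingleton.elim i 0]
      rfl
    · rw [Subsingleton.elim i 0, Subsingleton.elim j 0]
      have := congrFun hlast (Fin.last 6)
      rw [Matrix.col_apply, Pi.single_eq_same] at this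
      exact this
  rw [← Matrix.charpoly_reindex (finSumFinEquiv (m := 6) (n := 1)).symm (M7 L), e,
    Matrix.charpoly_fromBlocks_zero₁₂, Matrix.charpoly_one, Fintype.card_fin, pow_one]

variable {K : Type} [Field K] {σ : K →+* K} {q r : ℕ} [Fact r.Prime] (S : Seed7 K σ q r)

/-- The twisted torus. -/
structure Twist7 where
  gv : GL chevE7.Idx K
  mem : gv ∈ chevE7.group K
  L : List ℕ
  valid : ∀ i ∈ L, i < chevE7.rank
  h0 : GL chevE7.Idx K
  h0_mem : h0 ∈ chevE7.diagonalSubgroup K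
  twist : gv⁻¹ * mapGL chevE7 σ gv = h0 * nL hC7 K L
  act : ∀ x : V7, M7 L *ᵥ x =
    M7 S.L *ᵥ x - (cor7 (S.orb 0) ⬝ᵥ (M7 S.L *ᵥ x)) • lam7 (S.orb 0)

theorem exists_twist7 [Fintype K] (hq : 2 ≤ q) (hK : Fintype.card K = q ^ 12)
    (hσq : ∀ x, σ x = x ^ q) : Nonempty (Twist7 S) := by
  have hv := valid7 S.valid
  have hb := orb_lt S 0
  obtain ⟨L1, hL1, i, hi, he⟩ := exists_word hC7 (hC7.neg_lt hb)
  have h01 : cor7 (S.orb 0) ⬝ᵥ lam7 (S.orb 1) = 0 := by rw [orb_pair]; rfl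
  have h02 : cor7 (S.orb 0) ⬝ᵥ lam7 (S.orb 2) = 0 := by rw [orb_pair]; rfl
  have hneg : ∀ a b, a < chevE7.nroots → b < chevE7.nroots → cor7 a ⬝ᵥ lam7 b = 0 →
      ∀ e, (e = a ∨ e = chevE7.neg a) → ∀ e', (e' = b ∨ e' = chevE7.neg b) →
        ∀ t u : K, Commute (xg hC7 e t) (xg hC7 e' u) := by
    intro a b ha hb' h e hea e' heb t u
    have hcn : cor7 (chevE7.neg a) = -cor7 a := cor7_neg ha
    have hna := hC7.neg_lt ha
    have hnb := hC7.neg_lt hb'
    rcases hea with hea | hea <;> rcases heb with heb | heb <;> rw [hea, heb]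
    · exact orth_commute ha hb' h t u
    · exact orth_commute ha hnb (by rw [lam7_neg hb', dotProduct_neg, h, neg_zero]) t u
    · exact orth_commute hna hb' (by rw [hcn, neg_dotProduct, h, neg_zero]) t u
    · exact orth_commute hna hnb
        (by rw [hcn, lam7_neg hb', neg_dotProduct, dotProduct_neg, h, neg_zero, neg_zero]) t u
  obtain ⟨gv, hgv, h0, hh0, htw⟩ := exists_twist hC7 σ hq hK hσq S.mem hv S.h0_mem S.twist hb
    (orb_closed S) (fun e he' e' he'' t u => by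
      rcases he'' with h | h | h | h
      · exact hneg _ _ hb (orb_lt S 1) h01 e he' e' (Or.inl h) t u
      · exact hneg _ _ hb (orb_lt S 1) h01 e he' e' (Or.inr h) t u
      · exact hneg _ _ hb (orb_lt S 2) h02 e he' e' (Or.inl h) t u
      · exact hneg _ _ hb (orb_lt S 2) h02 e he' e' (Or.inr h) t u) hL1 hi he
  refine ⟨⟨gv, hgv, L1 ++ [i] ++ L1.reverse ++ S.L, fun j hj => ?_, h0, hh0, htw, fun x => ?_⟩⟩
  · simp only [List.mem_append, List.mem_singleton, List.mem_reverse] at hj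
    rcases hj with ((h | h) | h) | h
    exacts [hL1 j h, h ▸ hi, hL1 j h, hv j h]
  · have h1 := wMat_reflWord hC7 det7_ne hL1 hi (M7 S.L *ᵥ x)
    rw [he] at h1
    refine Eq.trans ?_ (h1.trans ?_)
    · rw [M7, wMat_append]; exact (Matrix.mulVec_mulVec _ _ _).symm
    · have hcn : (fun j : Fin chevE7.rank => cor chevE7 (chevE7.neg (S.orb 0)) j) =
          -cor7 (S.orb 0) := cor_vec_neg hC7 hb
      have hln : lam chevE7 (chevE7.neg (S.orb 0)) = -lam7 (S.orb 0) := lam7_neg hb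
      rw [hcn, hln]
      show M7 S.L *ᵥ x - (-cor7 (S.orb 0) ⬝ᵥ (M7 S.L *ᵥ x)) • -lam7 (S.orb 0) = _
      rw [neg_dotProduct, neg_smul_neg]

variable {S} (W : Twist7 S)

theorem M7_orb (k : Fin 3) : M7 S.L *ᵥ lam7 (S.orb k) = lam7 (S.orb (k + 1)) := by
  have h : ∀ s < chevE7.nroots, M7 S.L *ᵥ lam7 s = lam7 (wL chevE7 S.L s) :=
    fun s hs => wMat_lam hC7 (valid7 S.valid) hs
  rw [h _ (orb_lt S k)]
  fin_cases k
  · rfl
  · rfl
  · exact congrArg lam7 (orb_closed S)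

theorem twist_orb : M7 W.L *ᵥ lam7 (S.orb 0) = lam7 (S.orb 1) ∧
    M7 W.L *ᵥ lam7 (S.orb 1) = lam7 (S.orb 2) ∧ M7 W.L *ᵥ lam7 (S.orb 2) = -lam7 (S.orb 0) := by
  refine ⟨?_, ?_, ?_⟩ <;> rw [W.act, M7_orb, orb_pair]
  · simp
  · simp
  · show lam7 (S.orb 0) - (if (0 : Fin 3) = 2 + 1 then (2 : ℤ) else 0) • lam7 (S.orb 0) = _
    rw [if_pos (by decide), two_smul]; abel

theorem charpoly_twist : (M7 W.L).charpoly = (X ^ 4 - X ^ 2 + 1) * (X ^ 3 + 1) := by
  refine Polynomial.eq_of_infinite_eval_eq _ _ (Set.Infinite.mono ?_ (Set.Ioi_infinite (1 : ℤ)))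
  intro n hn
  rw [Set.mem_Ioi] at hn
  show eval n (M7 W.L).charpoly = eval n ((X ^ 4 - X ^ 2 + 1) * (X ^ 3 + 1))
  obtain ⟨A, hA⟩ : ∃ A, A = Matrix.scalar (Fin 7) n - M7 S.L := ⟨_, rfl⟩
  obtain ⟨w, hw⟩ : ∃ w, w = cor7 (S.orb 0) ᵥ* M7 S.L := ⟨_, rfl⟩
  obtain ⟨y, hy⟩ : ∃ y, y = n ^ 2 • lam7 (S.orb 0) + n • lam7 (S.orb 1) + lam7 (S.orb 2) := ⟨_, rfl⟩
  have hsm : ∀ z : V7, Matrix.scalar (Fin 7) n *ᵥ z = n • z := fun z => funext fun i => by
    simp
  have hMy : M7 S.L *ᵥ y = n ^ 2 • lam7 (S.orb 1) + n • lam7 (S.orb 2) + lam7 (S.orb 0) := by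
    rw [hy, Matrix.mulVec_add, Matrix.mulVec_add, Matrix.mulVec_smul, Matrix.mulVec_smul,
      M7_orb, M7_orb, M7_orb]
    rfl
  have hAy : A *ᵥ y = (n ^ 3 - 1) • lam7 (S.orb 0) := by
    rw [hA, Matrix.sub_mulVec, hsm, hMy, hy]
    simp only [smul_add, smul_smul, sub_smul, one_smul]
    rw [show n * n ^ 2 = n ^ 3 by ring, show n * n = n ^ 2 by ring]
    abel
  have hwy : w ⬝ᵥ y = 2 := by
    rw [hw, ← Matrix.dotProduct_mulVec, hMy, dotProduct_add, dotProduct_add, dotProduct_smul,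
      dotProduct_smul, orb_pair, orb_pair, orb_pair]
    simp
  have hM : M7 W.L = M7 S.L - Matrix.vecMulVec (lam7 (S.orb 0)) w := by
    refine Matrix.mulVec_injective.eq_iff.1 (funext fun x => ?_)
    rw [W.act, Matrix.sub_mulVec, Matrix.vecMulVec_mulVec, op_smul_eq_smul, hw,
      ← Matrix.dotProduct_mulVec]
  have hprod : (n ^ 3 - 1) • (Matrix.scalar (Fin 7) n - M7 W.L) =
      A * (Matrix.scalar (Fin 7) (n ^ 3 - 1) + Matrix.vecMulVec y w) := by
    rw [Matrix.mul_add, Matrix.mul_vecMulVec, hAy, Matrix.smul_vecMulVec, hM, sub_sub_eq_add_sub,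
      add_sub_right_comm, ← hA, smul_add]
    congr 1
    rw [Matrix.smul_eq_diagonal_mul]
    exact (Matrix.scalar_commute (n ^ 3 - 1) (fun r' => Commute.all _ r') A).eq
  have hdet := congrArg Matrix.det hprod
  rw [Matrix.det_smul, Matrix.det_mul, det_scalar_add, hwy, Fintype.card_fin, hA,
    ← Matrix.eval_charpoly, ← Matrix.eval_charpoly, charpoly_M7 S.valid, S.res.cp] at hdet
  simp only [eval_mul, eval_add, eval_sub, eval_pow, eval_X, eval_one] at hdet ⊢
  have hk : (n ^ 3 - 1 : ℤ) ≠ 0 := by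
    have : 1 < n ^ 3 := one_lt_pow₀ hn (by norm_num)
    omega
  refine mul_left_cancel₀ (pow_ne_zero 7 hk) (hdet.trans ?_)
  ring

/-- The value at `q` of the characteristic polynomial of the untwisted word. -/
theorem eval_M7 (n : ℤ) :
    (M7 S.L).charpoly.eval n = (n ^ 4 - n ^ 2 + 1) * (n ^ 3 - 1) := by
  rw [charpoly_M7 S.valid, S.res.cp]
  simp only [eval_mul, eval_add, eval_sub, eval_pow, eval_X, eval_one]
  ring

theorem three_check : ∀ y : ZMod 3, y ^ 3 + 1 = 0 → (y ^ 4 - y ^ 2 + 1) * (y ^ 3 - 1) ≠ 0 := by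
  decide +kernel

/-- Equal eigenvalues come in lines. -/
theorem twist_lines {p : ℕ} [Fact p.Prime]
    (hp : p ∣ (q ^ 4 - q ^ 2 + 1) * (q ^ 3 + 1)) {v w : Fin chevE7.rank → ZMod p}
    (hv : v ᵥ* (wMat chevE7 W.L).map Int.cast = (q : ZMod p) • v) (hv0 : v ≠ 0)
    (hw : w ᵥ* (wMat chevE7 W.L).map Int.cast = (q : ZMod p) • w) :
    ∃ a : ZMod p, w = a • v := by
  have hpp : p.Prime := Fact.out
  have hcp : ((wMat chevE7 W.L).map (Int.cast : ℤ → ZMod p)).charpoly =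
      (X ^ 4 - X ^ 2 + 1) * (X ^ 3 + 1) := by
    rw [show (wMat chevE7 W.L).map (Int.cast : ℤ → ZMod p) =
      (wMat chevE7 W.L).map (Int.castRingHom (ZMod p)) from rfl, Matrix.charpoly_map]
    refine (congrArg (Polynomial.map (Int.castRingHom (ZMod p))) (charpoly_twist W)).trans ?_
    simp
  obtain ⟨x, hx⟩ : ∃ x : ZMod p, x = (q : ZMod p) := ⟨_, rfl⟩
  have hroot : (x ^ 4 - x ^ 2 + 1) * (x ^ 3 + 1) = 0 := by
    have h0 : (((q ^ 4 - q ^ 2 + 1) * (q ^ 3 + 1) : ℕ) : ZMod p) = 0 :=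
      (ZMod.natCast_eq_zero_iff _ _).2 hp
    rw [Nat.cast_mul, cast_twelve_zmod] at h0
    push_cast at h0
    rwa [hx]
  have key : ∀ n : ℕ, 0 < n → n < p → (n : ZMod p) ≠ 0 := fun n h1 h2 e => by
    have := Nat.le_of_dvd h1 ((ZMod.natCast_eq_zero_iff _ _).1 e); omega
  have hbig : x ^ 4 - x ^ 2 + 1 = 0 → 13 ≤ p := fun h => le_of_not_gt fun hlt =>
    small_twelve hpp hlt q ((ZMod.natCast_eq_zero_iff _ _).1 (by rw [cast_twelve_zmod, ← hx, h]))
  by_cases hp3 : p = 3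
  · subst hp3
    have h1 : x ^ 4 - x ^ 2 + 1 ≠ 0 := fun h => absurd (hbig h) (by norm_num)
    have hd : ((Matrix.scalar (Fin 7) (q : ℤ) - M7 S.L).map (Int.cast : ℤ → ZMod 3)).det ≠ 0 := by
      rw [show (Matrix.scalar (Fin 7) (q : ℤ) - M7 S.L).map (Int.cast : ℤ → ZMod 3) =
        (Int.castRingHom (ZMod 3)).mapMatrix (Matrix.scalar (Fin 7) (q : ℤ) - M7 S.L) from rfl,
        ← RingHom.map_det, ← Matrix.eval_charpoly, eval_M7]
      simp only [map_mul, map_add, map_sub, map_pow, map_natCast, map_one]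
      rw [← hx]
      have h2 := (mul_eq_zero.1 hroot).resolve_left h1
      exact three_check x h2
    have inj : ∀ u : Fin 7 → ZMod 3,
        u ᵥ* (M7 W.L).map Int.cast = (q : ZMod 3) • u →
        u ⬝ᵥ (fun i => (lam7 (S.orb 0) i : ZMod 3)) = 0 → u = 0 := by
      intro u hu ht
      refine Matrix.eq_zero_of_vecMul_eq_zero hd (funext fun j => ?_)
      have hcol := congrArg (fun z : V7 => u ⬝ᵥ fun i => (z i : ZMod 3)) (W.act (Pi.single j 1))
      have h3 := congrFun hu j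
      simp only [Matrix.mulVec_single_one, Matrix.col_apply] at hcol
      simp only [Matrix.vecMul, dotProduct, Matrix.map_apply, Pi.smul_apply, smul_eq_mul] at h3 ht
      simp only [dotProduct, Pi.sub_apply, Pi.smul_apply, smul_eq_mul, Int.cast_sub, Int.cast_mul,
        mul_sub, Finset.sum_sub_distrib, Matrix.col_apply] at hcol
      rw [h3, show ∀ k : ℤ, ∑ i, u i * ((k : ZMod 3) * (lam7 (S.orb 0) i : ZMod 3)) = 0 from fun k => by
        simp_rw [mul_left_comm (u _) (k : ZMod 3)]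
        rw [← Finset.mul_sum, ht, mul_zero], sub_zero] at hcol
      simp only [Matrix.vecMul, dotProduct, Matrix.map_apply, Matrix.sub_apply, Int.cast_sub, mul_sub,
        Finset.sum_sub_distrib, Pi.zero_apply, ← hcol, Matrix.scalar_apply, Matrix.diagonal_apply]
      rw [Finset.sum_eq_single j, if_pos rfl, Int.cast_natCast, mul_comm, sub_self]
      · intro b _ hb; rw [if_neg hb]; simp
      · simp
    have fin : ∀ a b : Fin 7 → ZMod 3, a ᵥ* (M7 W.L).map Int.cast = (q : ZMod 3) • a → a ≠ 0 →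
        b ᵥ* (M7 W.L).map Int.cast = (q : ZMod 3) • b → ∃ c : ZMod 3, b = c • a := by
      intro a b ha ha0 hb
      obtain ⟨t, ht⟩ : ∃ t, t = a ⬝ᵥ fun i => (lam7 (S.orb 0) i : ZMod 3) := ⟨_, rfl⟩
      have ht0 : t ≠ 0 := fun h => ha0 (inj a ha (ht ▸ h))
      refine ⟨(b ⬝ᵥ fun i => (lam7 (S.orb 0) i : ZMod 3)) * t⁻¹, sub_eq_zero.1 (inj _ ?_ ?_)⟩
      · rw [Matrix.sub_vecMul, Matrix.smul_vecMul, ha, hb, smul_comm, ← smul_sub]
      · rw [sub_dotProduct, smul_dotProduct, ← ht, smul_eq_mul, inv_mul_cancel_right₀ ht0, sub_self]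
    exact fin v w hv hv0 hw
  · refine unique_eigen _ ?_ hv hv0 hw
    rw [hcp]
    simp [derivative_mul, derivative_pow]
    rw [← hx]
    intro hd
    by_cases h1 : x ^ 4 - x ^ 2 + 1 = 0
    · have h13 := hbig h1
      have h2 : x ^ 3 + 1 ≠ 0 := fun h2 => key 2 (by norm_num) (by omega) (by
        push_cast
        linear_combination (x ^ 2 + 1) * h1 - (x ^ 3 - 1) * h2)
      exact twelve_deriv (by omega) h1 ((mul_eq_zero.1 (by linear_combination hd - 3 * x ^ 2 * h1 :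
        (4 * x ^ 3 - 2 * x) * (x ^ 3 + 1) = 0)).resolve_right h2)
    · have h2 := (mul_eq_zero.1 hroot).resolve_left h1
      have h4 : (3 : ZMod p) * x ^ 2 = 0 := (mul_eq_zero.1 (by
        linear_combination hd - (4 * x ^ 3 - 2 * x) * h2 :
          (x ^ 4 - x ^ 2 + 1) * (3 * x ^ 2) = 0)).resolve_left h1
      have h3 : ((3 : ℕ) : ZMod p) ≠ 0 := fun e => hp3 ((Nat.prime_dvd_prime_iff_eq hpp
        Nat.prime_three).1 ((ZMod.natCast_eq_zero_iff _ _).1 e))
      have hx0 : x = 0 := pow_eq_zero_iff two_ne_zero |>.1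
        ((mul_eq_zero.1 h4).resolve_left (by simpa using h3))
      rw [hx0] at h2
      simp at h2

/-- The seed element lies in the twisted torus. -/
theorem c7_mem : ext7 S.c ∈ gam (wMat chevE7 W.L) K q := by
  suffices h : ∀ x : V7, evW (D := chevE7) (ext7 S.c) (M7 W.L *ᵥ x) =
      evW (D := chevE7) (ext7 S.c) x ^ q from h
  intro x
  have e0 : evW (D := chevE6) S.c (p7 (S.orb 0)) = 1 := by
    have h0 : ev S.v (p7 (S.orb 0)) = 0 := (killed_iff S (orb_lt S 0)).2 ⟨0, Or.inl rfl⟩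
    refine ((S.ev_iff _ 0).2 (h0.trans (by simp [ev, dotProduct]))).trans ?_
    exact Finset.prod_eq_one fun i _ => zpow_zero _
  have h1 : pr (M7 W.L *ᵥ x) =
      M6 S.L *ᵥ pr x + (-(cor7 (S.orb 0) ⬝ᵥ (M7 S.L *ᵥ x))) • p7 (S.orb 0) := by
    rw [W.act, ← pr_M7 S.valid, neg_smul, ← sub_eq_add_neg]
    rfl
  refine (evW_ext7 S.c _).trans ((congrArg (evW (D := chevE6) S.c) h1).trans ?_)
  refine Eq.trans ?_ (congrArg (· ^ q) (evW_ext7 S.c x).symm)
  refine (evW_add (D := chevE6) S.c _ _).trans ?_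
  rw [show evW (D := chevE6) S.c ((-(cor7 (S.orb 0) ⬝ᵥ (M7 S.L *ᵥ x))) • p7 (S.orb 0)) = 1 from
    (evW_smul (D := chevE6) S.c _ _).trans (by rw [e0, one_zpow]), mul_one]
  exact S.c_mem (pr x)

theorem c7_val {a b : ℕ} :
    evW (D := chevE7) (ext7 S.c) (lam7 a) = evW (D := chevE7) (ext7 S.c) (lam7 b) ↔
      S.val a = S.val b := by
  rw [evW_ext7, evW_ext7]
  exact S.ev_iff _ _

end Cfsg.Agent.SimpleFacts.SingerCentre.Seven
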