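import Cfsg.Agent.Lib.Chevalley.Singer.Small
import Cfsg.Agent.Lib.Chevalley.Types.OrderE6
import Mathlib.NumberTheory.Real.Irrational
import Mathlib.Data.Fintype.Pi
import Mathlib.Analysis.Complex.Polynomial.Basic

/-!
The invariant form on the weight lattice of type E6 and the orthogonal decomposition of the root
lattice.
-/

set_option autoImplicit false

open scoped Matrix

namespace Cfsg.Agent.SimpleFacts.SingerCentre.Six

open Cfsg.Lie Cfsg.Agent.Chevalley Cfsg.Agent.Chevalley.TorusCard Cfsg.Agent.Chevalley.Singer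

/-- Vectors of weight coordinates. -/
abbrev V : Type := Fin 6 → ℤ

/-- The Cartan matrix. -/
def CM : Matrix (Fin 6) (Fin 6) ℤ := !![2, 0, -1, 0, 0, 0; 0, 2, 0, -1, 0, 0; -1, 0, 2, -1, 0, 0; 0, -1, -1, 2, -1, 0; 0, 0, 0, -1, 2, -1; 0, 0, 0, 0, -1, 2]

/-- Twenty-four times the inverse of the Cartan matrix. -/
def SM : Matrix (Fin 6) (Fin 6) ℤ := !![32, 24, 40, 48, 32, 16; 24, 48, 48, 72, 48, 24; 40, 48, 80, 96, 64, 32; 48, 72, 96, 144, 96, 48; 32, 48, 64, 96, 80, 40; 16, 24, 32, 48, 40, 32]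

theorem cartan_eq : cartanMat chevE6 = CM := of_eqB (by decide +kernel)

/-- The coroots, as rows. -/
def Cor : Matrix (Fin 72) (Fin 6) ℤ := corMat chevE6

theorem corS_eq : Corᵀ * Cor = SM := of_eqB (by decide +kernel)

theorem CM_symm : CMᵀ = CM := of_eqB (by decide +kernel)

theorem SM_symm : SMᵀ = SM := of_eqB (by decide +kernel)

theorem SM_mul : SM * CM = (24 : ℤ) • (1 : Matrix (Fin 6) (Fin 6) ℤ) := of_eqB (by decide +kernel)

theorem det_CM : CM.det = 3 :=
  det_of_triOk (L := !![1, 0, 0, 0, 0, 0; 0, 1, 0, 0, 0, 0; 1, 0, 2, 0, 0, 0; 2, 3, 4, 6, 0, 0; 2, 3, 4, 6, 5, 0; 2, 3, 4, 6, 5, 4])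
    (U := !![2, 0, -1, 0, 0, 0; 0, 2, 0, -1, 0, 0; 0, 0, 3, -2, 0, 0; 0, 0, 0, 5, -6, 0; 0, 0, 0, 0, 4, -5; 0, 0, 0, 0, 0, 3])
    (by decide +kernel)

theorem det_SM : SM.det = 63700992 := by
  have h := congrArg Matrix.det SM_mul
  rw [Matrix.det_mul, det_CM, Matrix.det_smul, Matrix.det_one, mul_one, Fintype.card_fin] at h
  norm_num at h
  omega

/-- The form. -/
def sB (x y : V) : ℤ := x ⬝ᵥ SM *ᵥ y

theorem sB_comm (x y : V) : sB x y = sB y x := by
  rw [sB, sB, Matrix.dotProduct_mulVec, ← Matrix.mulVec_transpose, SM_symm, dotProduct_comm]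

theorem sB_add_left (x y z : V) : sB (x + y) z = sB x z + sB y z := add_dotProduct _ _ _

theorem sB_sub_left (x y z : V) : sB (x - y) z = sB x z - sB y z := sub_dotProduct _ _ _

theorem sB_neg_left (x y : V) : sB (-x) y = -sB x y := neg_dotProduct _ _

theorem sB_smul_left (k : ℤ) (x y : V) : sB (k • x) y = k * sB x y := smul_dotProduct _ _ _

theorem sB_add_right (x y z : V) : sB z (x + y) = sB z x + sB z y := by
  rw [sB_comm, sB_add_left, sB_comm x, sB_comm y]

theorem sB_sub_right (x y z : V) : sB z (x - y) = sB z x - sB z y := by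
  rw [sB_comm, sB_sub_left, sB_comm x, sB_comm y]

theorem sB_neg_right (x y : V) : sB y (-x) = -sB y x := by rw [sB_comm, sB_neg_left, sB_comm]

theorem sB_smul_right (k : ℤ) (x y : V) : sB y (k • x) = k * sB y x := by
  rw [sB_comm, sB_smul_left, sB_comm]

theorem sB_zero_left (y : V) : sB 0 y = 0 := zero_dotProduct _

theorem sB_zero_right (y : V) : sB y 0 = 0 := by rw [sB_comm, sB_zero_left]

theorem sB_nonneg (x : V) : 0 ≤ sB x x := by
  rw [sB, ← corS_eq, ← Matrix.mulVec_mulVec, Matrix.dotProduct_mulVec, Matrix.vecMul_transpose]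
  exact Finset.sum_nonneg fun i _ => mul_self_nonneg _

theorem eq_zero_of_sB {x : V} (h : sB x x = 0) : x = 0 := by
  rw [sB, ← corS_eq, ← Matrix.mulVec_mulVec, Matrix.dotProduct_mulVec, Matrix.vecMul_transpose,
    dotProduct, Finset.sum_eq_zero_iff_of_nonneg fun i _ => mul_self_nonneg _] at h
  have h0 : Cor *ᵥ x = 0 := funext fun i => mul_self_eq_zero.1 (h i (Finset.mem_univ _))
  refine Matrix.eq_zero_of_mulVec_eq_zero (M := SM) (by rw [det_SM]; norm_num) ?_
  have h1 : (Corᵀ * Cor) *ᵥ x = SM *ᵥ x := by rw [corS_eq]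
  rw [← h1, ← Matrix.mulVec_mulVec, h0, Matrix.mulVec_zero]

theorem sB_pos {x : V} (h : x ≠ 0) : 0 < sB x x :=
  lt_of_le_of_ne (sB_nonneg x) fun e => h (eq_zero_of_sB e.symm)

/-- Membership in the root lattice. -/
def InQ (x : V) : Prop := ∃ z : V, x = CM *ᵥ z

theorem InQ.add {x y : V} : InQ x → InQ y → InQ (x + y) := by
  rintro ⟨a, rfl⟩ ⟨b, rfl⟩; exact ⟨a + b, (Matrix.mulVec_add _ _ _).symm⟩

theorem InQ.sub {x y : V} : InQ x → InQ y → InQ (x - y) := by
  rintro ⟨a, rfl⟩ ⟨b, rfl⟩; exact ⟨a - b, (Matrix.mulVec_sub _ _ _).symm⟩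

theorem InQ.neg {x : V} : InQ x → InQ (-x) := by
  rintro ⟨a, rfl⟩; exact ⟨-a, (Matrix.mulVec_neg _ _).symm⟩

theorem InQ.smul (k : ℤ) {x : V} : InQ x → InQ (k • x) := by
  rintro ⟨a, rfl⟩; exact ⟨k • a, (Matrix.mulVec_smul _ _ _).symm⟩

theorem inQ_zero : InQ 0 := ⟨0, (Matrix.mulVec_zero _).symm⟩

theorem sB_CM (z y : V) : sB (CM *ᵥ z) y = 24 * (z ⬝ᵥ y) := by
  rw [sB_comm, sB, Matrix.mulVec_mulVec, SM_mul, Matrix.smul_mulVec, Matrix.one_mulVec,
    dotProduct_smul, smul_eq_mul, dotProduct_comm]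

theorem dvd_sB {x : V} (h : InQ x) (y : V) : (24 : ℤ) ∣ sB x y := by
  obtain ⟨z, rfl⟩ := h
  exact ⟨_, sB_CM z y⟩

theorem even_form {x : V} (h : InQ x) : (48 : ℤ) ∣ sB x x := by
  obtain ⟨z, rfl⟩ := h
  obtain ⟨U, hU⟩ : ∃ U : Matrix (Fin 6) (Fin 6) ℤ, U + Uᵀ = CM :=
    ⟨!![1, 0, -1, 0, 0, 0; 0, 1, 0, -1, 0, 0; 0, 0, 1, -1, 0, 0; 0, 0, 0, 1, -1, 0; 0, 0, 0, 0, 1, -1; 0, 0, 0, 0, 0, 1],
      of_eqB (by decide +kernel)⟩
  refine ⟨z ⬝ᵥ U *ᵥ z, ?_⟩
  rw [sB_CM, ← hU, Matrix.add_mulVec, dotProduct_add]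
  have : z ⬝ᵥ Uᵀ *ᵥ z = z ⬝ᵥ U *ᵥ z := by
    rw [Matrix.mulVec_transpose, dotProduct_comm, ← Matrix.dotProduct_mulVec]
  rw [this]; ring

theorem norm_ge {x : V} (h : InQ x) (h0 : x ≠ 0) : 48 ≤ sB x x := by
  obtain ⟨k, hk⟩ := even_form h
  have := sB_pos h0
  omega

/-- The fundamental roots. -/
def simp6 (j : Fin 6) : V := CM *ᵥ Pi.single j 1

theorem simp6_inQ (j : Fin 6) : InQ (simp6 j) := ⟨_, rfl⟩

theorem sB_simp6 (i j : Fin 6) : sB (simp6 i) (simp6 j) = 24 * CM i j := by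
  rw [simp6, simp6, sB_CM, single_dotProduct, one_mul, Matrix.mulVec_single_one]
  rfl

theorem sB_simp6_left (i : Fin 6) (y : V) : sB (simp6 i) y = 24 * y i := by
  rw [simp6, sB_CM, single_dotProduct, one_mul]

theorem eq_zero_of_orth {y : V} (h : ∀ i, sB (simp6 i) y = 0) : y = 0 :=
  funext fun i => by
    have := h i
    rw [sB_simp6_left] at this
    exact (mul_eq_zero.1 this).resolve_left (by norm_num)

theorem connected : ∀ f : Fin 6 → Bool, (∀ i j, CM i j ≠ 0 → f i = f j) →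
    (∀ i, f i = true) ∨ (∀ i, f i = false) := by
  intro f h
  have h02 : f 0 = f 2 := h 0 2 (by decide +kernel)
  have h23 : f 2 = f 3 := h 2 3 (by decide +kernel)
  have h13 : f 1 = f 3 := h 1 3 (by decide +kernel)
  have h34 : f 3 = f 4 := h 3 4 (by decide +kernel)
  have h45 : f 4 = f 5 := h 4 5 (by decide +kernel)
  have hall : ∀ i, f i = f 3 := by
    intro i
    fin_cases i <;> simp_all
  cases hb : f 3
  · exact Or.inr fun i => (hall i).trans hb
  · exact Or.inl fun i => (hall i).trans hb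

/-- The root lattice has no orthogonal decomposition. -/
theorem no_split (f : Fin 6 → V) (hf : ∀ i, InQ (f i))
    (horth : ∀ i j, sB (f i) (simp6 j - f j) = 0) :
    (∀ i, f i = simp6 i) ∨ (∀ i, f i = 0) := by
  have hone : ∀ i, f i = simp6 i ∨ f i = 0 := by
    intro i
    by_contra hcon
    rw [not_or] at hcon
    have h1 := norm_ge (hf i) hcon.2
    have h2 := norm_ge ((simp6_inQ i).sub (hf i)) (sub_ne_zero.2 (Ne.symm hcon.1))
    have h3 : sB (simp6 i) (simp6 i) = sB (f i) (f i) + sB (simp6 i - f i) (simp6 i - f i) := by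
      conv_lhs => rw [show simp6 i = f i + (simp6 i - f i) by abel]
      rw [sB_add_left, sB_add_right, sB_add_right, horth i i, sB_comm (simp6 i - f i) (f i),
        horth i i]
      ring
    rw [sB_simp6, show CM i i = 2 by fin_cases i <;> rfl] at h3
    omega
  have hne : ∀ i, simp6 i ≠ 0 := fun i h => by
    have h1 := sB_simp6 i i
    rw [h, sB_zero_left, show CM i i = 2 by fin_cases i <;> rfl] at h1
    norm_num at h1
  have hedge : ∀ i j, CM i j ≠ 0 → decide (f i = 0) = decide (f j = 0) := by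
    intro i j hij
    rw [decide_eq_decide]
    rcases hone i with hi | hi <;> rcases hone j with hj | hj
    · simp [hi, hj, hne i, hne j]
    · exfalso
      have h := horth i j
      rw [hi, hj, sub_zero, sB_simp6] at h
      omega
    · exfalso
      have h := horth j i
      rw [hi, hj, sub_zero, sB_comm, sB_simp6] at h
      omega
    · simp [hi, hj]
  rcases connected _ hedge with h | h
  · exact Or.inr fun i => of_decide_eq_true (h i)
  · exact Or.inl fun i => (hone i).resolve_right (of_decide_eq_false (h i))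

end Cfsg.Agent.SimpleFacts.SingerCentre.Six
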