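import Cfsg.Agent.SimpleFacts.SingerCentre.SixWord

/-!
Roots and minimal weights of type E6 against a word with characteristic polynomial `Φ₁₂ Φ₃`.
-/

set_option autoImplicit false

open scoped Matrix
open Polynomial

namespace Cfsg.Agent.SimpleFacts.SingerCentre.Six

open Cfsg.Lie Cfsg.Agent.Chevalley Cfsg.Agent.Chevalley.TorusCard Cfsg.Agent.Chevalley.Singer

variable {M : Matrix (Fin 6) (Fin 6) ℤ}

/-- Killed by the twelfth cyclotomic polynomial. -/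
def In12 (M : Matrix (Fin 6) (Fin 6) ℤ) (u : V) : Prop := app M (X ^ 4 - X ^ 2 + 1) u = 0

/-- Killed by the third cyclotomic polynomial. -/
def In3 (M : Matrix (Fin 6) (Fin 6) ℤ) (w : V) : Prop := app M (X ^ 2 + X + 1) w = 0

theorem app_twelve (x : V) :
    app M (X ^ 4 - X ^ 2 + 1) x = M ^ 4 *ᵥ x - M ^ 2 *ᵥ x + x := by
  rw [app, map_add, map_sub, map_pow, map_pow, aeval_X, map_one, Matrix.add_mulVec,
    Matrix.sub_mulVec, Matrix.one_mulVec]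

theorem app_three (x : V) : app M (X ^ 2 + X + 1) x = M ^ 2 *ᵥ x + M *ᵥ x + x := by
  rw [app, map_add, map_add, map_pow, aeval_X, map_one, Matrix.add_mulVec, Matrix.add_mulVec,
    Matrix.one_mulVec]

theorem app_comm_M (p : ℤ[X]) (x : V) : app M p (M *ᵥ x) = M *ᵥ app M p x := by
  have h : ∀ y, app M X y = M *ᵥ y := fun y => by rw [app, aeval_X]
  rw [← h x, ← h, ← app_mul, ← app_mul, mul_comm]

theorem app_smul (p : ℤ[X]) (k : ℤ) (x : V) : app M p (k • x) = k • app M p x :=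
  Matrix.mulVec_smul _ _ _

theorem app_add_right (p : ℤ[X]) (x y : V) : app M p (x + y) = app M p x + app M p y :=
  Matrix.mulVec_add _ _ _

theorem app_sub_right (p : ℤ[X]) (x y : V) : app M p (x - y) = app M p x - app M p y :=
  Matrix.mulVec_sub _ _ _

theorem In3.cube {w : V} (hw : In3 M w) : M ^ 3 *ᵥ w = w := by
  have h : app M ((X - 1) * (X ^ 2 + X + 1)) w = 0 := by rw [app_mul, hw, app_zero_right]
  rw [show ((X : ℤ[X]) - 1) * (X ^ 2 + X + 1) = X ^ 3 - 1 by ring, app, map_sub, map_pow, aeval_X,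
    map_one, Matrix.sub_mulVec, Matrix.one_mulVec, sub_eq_zero] at h
  exact h

theorem In3.six {w : V} (hw : In3 M w) : M ^ 6 *ᵥ w = w := by
  rw [show M ^ 6 = M ^ 3 * M ^ 3 by rw [← pow_add], ← Matrix.mulVec_mulVec, hw.cube, hw.cube]

theorem In3.sq {w : V} (hw : In3 M w) : M ^ 2 *ᵥ w = -(M *ᵥ w) - w := by
  have h : M ^ 2 *ᵥ w + M *ᵥ w + w = 0 := by rw [← app_three]; exact hw
  rw [eq_sub_iff_add_eq, eq_neg_iff_add_eq_zero, ← h]
  abel

theorem In3.smul {w : V} (hw : In3 M w) (k : ℤ) : In3 M (k • w) := by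
  rw [In3, app_smul, hw, smul_zero]

theorem In3.add {w z : V} (hw : In3 M w) (hz : In3 M z) : In3 M (w + z) := by
  rw [In3, app_add_right, hw, hz, add_zero]

theorem In3.sub {w z : V} (hw : In3 M w) (hz : In3 M z) : In3 M (w - z) := by
  rw [In3, app_sub_right, hw, hz, sub_zero]

theorem In3.map {w : V} (hw : In3 M w) : In3 M (M *ᵥ w) := by
  rw [In3, app_comm_M, hw, Matrix.mulVec_zero]

variable (hM : IsWd M) (hcp : M.charpoly = (X ^ 4 - X ^ 2 + 1) * (X ^ 2 + X + 1))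

include hcp in
theorem mk12 (x : V) : In12 M (app M (X ^ 2 + X + 1) x) := by
  rw [In12, ← app_mul, ← hcp, app_charpoly]

include hcp in
theorem mk3 (x : V) : In3 M (app M (X ^ 4 - X ^ 2 + 1) x) := by
  rw [In3, ← app_mul, mul_comm, ← hcp, app_charpoly]

include hM

theorem orth {u w : V} (hu : In12 M u) (hw : In3 M w) : sB u w = 0 :=
  orth_of_periods hM (pow6_twelve hu) hw.six

theorem sB_twelve_left (x : V) {w : V} (hw : In3 M w) :
    sB (app M (X ^ 4 - X ^ 2 + 1) x) w = -2 * sB x (M *ᵥ w) := by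
  have e2 : M ^ 4 *ᵥ (M ^ 2 *ᵥ w) = w := by
    rw [Matrix.mulVec_mulVec, ← pow_add, hw.six]
  have e1 : M ^ 2 *ᵥ (M *ᵥ w) = w := by
    rw [Matrix.mulVec_mulVec, ← pow_succ, hw.cube]
  rw [app_twelve, sB_add_left, sB_sub_left]
  nth_rw 1 [← e2]
  nth_rw 2 [← e1]
  rw [sB_pow hM, sB_pow hM, hw.sq, sB_sub_right, sB_neg_right]
  ring

theorem three_values {w : V} (hw : In3 M w) :
    sB w w = -2 * sB w (M *ᵥ w) ∧ sB (M *ᵥ w) (M *ᵥ w) = sB w w := by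
  refine ⟨?_, sB_M hM w w⟩
  have h1 : sB w (M ^ 2 *ᵥ w) = sB w (M *ᵥ w) := by
    conv_lhs => arg 1; rw [← hw.cube, pow_succ, ← Matrix.mulVec_mulVec]
    rw [sB_pow hM, sB_comm]
  rw [hw.sq, sB_sub_right, sB_neg_right] at h1
  omega

theorem twelve_values {u : V} (hu : In12 M u) :
    sB u u = 2 * sB u (M ^ 2 *ᵥ u) ∧ sB u (M ^ 3 *ᵥ u) = 0 := by
  have h4 : M ^ 4 *ᵥ u = M ^ 2 *ᵥ u - u := by
    have h : M ^ 4 *ᵥ u - M ^ 2 *ᵥ u + u = 0 := by rw [← app_twelve]; exact hu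
    rw [eq_sub_iff_add_eq]
    rw [sub_add_eq_add_sub, sub_eq_zero] at h
    exact h
  constructor
  · have h1 : sB (M ^ 2 *ᵥ u) (M ^ 4 *ᵥ u) = sB u (M ^ 2 *ᵥ u) := by
      rw [show M ^ 4 = M ^ 2 * M ^ 2 by rw [← pow_add], ← Matrix.mulVec_mulVec, sB_pow hM]
    rw [h4, sB_sub_right, sB_pow hM, sB_comm (M ^ 2 *ᵥ u) u] at h1
    omega
  · have h1 : sB (M *ᵥ u) (M ^ 4 *ᵥ u) = sB u (M ^ 3 *ᵥ u) := by
      rw [show M ^ 4 = M * M ^ 3 by rw [← pow_succ'], ← Matrix.mulVec_mulVec, sB_M hM]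
    rw [h4, sB_sub_right, show M ^ 2 = M * M from pow_two M, ← Matrix.mulVec_mulVec, sB_M hM,
      sB_comm (M *ᵥ u) u] at h1
    omega

omit hM in
/-- Six vectors as columns. -/
def cols (M : Matrix (Fin 6) (Fin 6) ℤ) (u w : V) : Matrix (Fin 6) (Fin 6) ℤ :=
  Matrix.of fun i c => ![u, M *ᵥ u, M ^ 2 *ᵥ u, M ^ 3 *ᵥ u, w, M *ᵥ w] c i

set_option maxHeartbeats 1600000 in
theorem gram {u w : V} (hu : In12 M u) (hw : In3 M w) {k a j : ℤ}
    (hk : sB u (M ^ 2 *ᵥ u) = k) (ha : sB u (M *ᵥ u) = a) (hj : sB w (M *ᵥ w) = -j) :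
    (cols M u w).det ^ 2 * 63700992 = (3 * k ^ 2 - a ^ 2) ^ 2 * (3 * j ^ 2) := by
  obtain ⟨hu0, hu3⟩ := twelve_values hM hu
  obtain ⟨hw0, hw1⟩ := three_values hM hw
  have hentry : ∀ c d, ((cols M u w)ᵀ * SM * cols M u w) c d =
      sB (![u, M *ᵥ u, M ^ 2 *ᵥ u, M ^ 3 *ᵥ u, w, M *ᵥ w] c)
        (![u, M *ᵥ u, M ^ 2 *ᵥ u, M ^ 3 *ᵥ u, w, M *ᵥ w] d) := by
    intro c d
    rw [Matrix.mul_assoc, Matrix.mul_apply]
    rfl
  have hsh : ∀ a b : ℕ, sB (M ^ a *ᵥ u) (M ^ (a + b) *ᵥ u) = sB u (M ^ b *ᵥ u) := fun a b => by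
    rw [pow_add, ← Matrix.mulVec_mulVec, sB_pow hM]
  have hu' : In12 M (M *ᵥ u) := by rw [In12, app_comm_M, hu, Matrix.mulVec_zero]
  have hu'' : ∀ n : ℕ, In12 M (M ^ n *ᵥ u) := by
    intro n
    induction n with
    | zero => simpa
    | succ n ih => rw [pow_succ', ← Matrix.mulVec_mulVec, In12, app_comm_M, ih, Matrix.mulVec_zero]
  have o : ∀ n : ℕ, sB (M ^ n *ᵥ u) w = 0 ∧ sB (M ^ n *ᵥ u) (M *ᵥ w) = 0 := fun n =>
    ⟨orth hM (hu'' n) hw, orth hM (hu'' n) hw.map⟩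
  have e01 : sB u (M *ᵥ u) = a := ha
  have e12 : sB (M *ᵥ u) (M ^ 2 *ᵥ u) = a := by simpa [ha] using hsh 1 1
  have e23 : sB (M ^ 2 *ᵥ u) (M ^ 3 *ᵥ u) = a := by simpa [ha] using hsh 2 1
  have e13 : sB (M *ᵥ u) (M ^ 3 *ᵥ u) = k := by simpa [hk] using hsh 1 2
  have d0 : sB u u = 2 * k := by rw [hu0, hk]
  have d1 : sB (M *ᵥ u) (M *ᵥ u) = 2 * k := by rw [sB_M hM, d0]
  have d2 : sB (M ^ 2 *ᵥ u) (M ^ 2 *ᵥ u) = 2 * k := by rw [sB_pow hM, d0]
  have d3 : sB (M ^ 3 *ᵥ u) (M ^ 3 *ᵥ u) = 2 * k := by rw [sB_pow hM, d0]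
  have d4 : sB w w = 2 * j := by rw [hw0, hj]; ring
  have d5 : sB (M *ᵥ w) (M *ᵥ w) = 2 * j := by rw [hw1, d4]
  have o0 := o 0
  have o1 := o 1
  simp only [pow_zero, Matrix.one_mulVec, pow_one] at o0 o1
  have hG : (cols M u w)ᵀ * SM * cols M u w =
      !![2 * k, a, k, 0, 0, 0; a, 2 * k, a, k, 0, 0; k, a, 2 * k, a, 0, 0; 0, k, a, 2 * k, 0, 0;
        0, 0, 0, 0, 2 * j, -j; 0, 0, 0, 0, -j, 2 * j] := by
    ext c d
    rw [hentry]
    fin_cases c <;> fin_cases d <;>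
      simp [e01, e12, e23, e13, hk, hu3, hj, d0, d1, d2, d3, d4, d5, o0.1, o0.2, o1.1, o1.2,
        (o 2).1, (o 2).2, (o 3).1, (o 3).2, sB_comm (M *ᵥ u) u, sB_comm (M ^ 2 *ᵥ u) u,
        sB_comm (M ^ 3 *ᵥ u) u, sB_comm (M ^ 2 *ᵥ u) (M *ᵥ u), sB_comm (M ^ 3 *ᵥ u) (M *ᵥ u),
        sB_comm (M ^ 3 *ᵥ u) (M ^ 2 *ᵥ u), sB_comm (M *ᵥ w) w, sB_comm w u, sB_comm (M *ᵥ w) u,
        sB_comm w (M *ᵥ u), sB_comm (M *ᵥ w) (M *ᵥ u), sB_comm w (M ^ 2 *ᵥ u),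
        sB_comm (M *ᵥ w) (M ^ 2 *ᵥ u), sB_comm w (M ^ 3 *ᵥ u), sB_comm (M *ᵥ w) (M ^ 3 *ᵥ u)]
  have h := congrArg Matrix.det hG
  rw [Matrix.det_mul, Matrix.det_mul, Matrix.det_transpose, det_SM] at h
  obtain ⟨A, hA⟩ : ∃ A : Matrix (Fin 4) (Fin 4) ℤ,
      A = !![2 * k, a, k, 0; a, 2 * k, a, k; k, a, 2 * k, a; 0, k, a, 2 * k] := ⟨_, rfl⟩
  obtain ⟨B, hB⟩ : ∃ B : Matrix (Fin 2) (Fin 2) ℤ, B = !![2 * j, -j; -j, 2 * j] := ⟨_, rfl⟩
  have hblock : (!![2 * k, a, k, 0, 0, 0; a, 2 * k, a, k, 0, 0; k, a, 2 * k, a, 0, 0;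
        0, k, a, 2 * k, 0, 0; 0, 0, 0, 0, 2 * j, -j; 0, 0, 0, 0, -j, 2 * j] :
        Matrix (Fin 6) (Fin 6) ℤ) =
      (Matrix.fromBlocks A 0 0 B).submatrix (finSumFinEquiv (m := 4) (n := 2)).symm
        (finSumFinEquiv (m := 4) (n := 2)).symm := by
    rw [hA, hB]
    ext c d
    fin_cases c <;> fin_cases d <;> rfl
  have h4 : A.det = (3 * k ^ 2 - a ^ 2) ^ 2 := by
    rw [hA, Matrix.det_succ_row_zero]
    simp [Fin.sum_univ_succ, Matrix.det_fin_three, Fin.succAbove]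
    ring
  rw [hblock, Matrix.det_submatrix_equiv_self, Matrix.det_fromBlocks_zero₁₂, h4, hB,
    Matrix.det_fin_two] at h
  simp at h
  linear_combination h

omit hM in
theorem three_sq_ne {k a : ℤ} (hk : k ≠ 0) : 3 * k ^ 2 - a ^ 2 ≠ 0 := by
  intro h
  have h1 : IsSquare ((3 : ℤ) : ℚ) := by
    refine ⟨(a : ℚ) / k, ?_⟩
    have hk' : (k : ℚ) ≠ 0 := Int.cast_ne_zero.2 hk
    have h2 : (3 : ℚ) * (k : ℚ) ^ 2 - (a : ℚ) ^ 2 = 0 := by exact_mod_cast h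
    field_simp
    push_cast
    linarith
  rw [Rat.isSquare_intCast_iff] at h1
  exact absurd h1 (by decide +kernel)

theorem det_cols_ne {u w : V} (hu : In12 M u) (hu0 : u ≠ 0) (hw : In3 M w) (hw0 : w ≠ 0) :
    (cols M u w).det ≠ 0 := by
  intro h
  have hg := gram hM hu hw rfl rfl (j := -sB w (M *ᵥ w)) (by ring)
  rw [h] at hg
  have h1 := sB_pos hu0
  have h2 := sB_pos hw0
  rw [(twelve_values hM hu).1] at h1
  rw [(three_values hM hw).1] at h2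
  have h3 : sB u (M ^ 2 *ᵥ u) ≠ 0 := by omega
  have h4 : -sB w (M *ᵥ w) ≠ 0 := by omega
  exact mul_ne_zero (pow_ne_zero 2 (three_sq_ne h3))
    (mul_ne_zero three_ne_zero (pow_ne_zero 2 h4)) (by rw [← hg]; ring)

theorem orth_zero {u w d : V} (hu : In12 M u) (hu0 : u ≠ 0) (hw : In3 M w) (hw0 : w ≠ 0)
    (h : ∀ c, sB d (![u, M *ᵥ u, M ^ 2 *ᵥ u, M ^ 3 *ᵥ u, w, M *ᵥ w] c) = 0) : d = 0 := by
  have h1 : d ᵥ* (SM * cols M u w) = 0 := funext fun c => by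
    rw [← Matrix.vecMul_vecMul, Pi.zero_apply, ← h c, sB, Matrix.dotProduct_mulVec]
    rfl
  refine Matrix.eq_zero_of_vecMul_eq_zero ?_ h1
  rw [Matrix.det_mul, det_SM]
  exact mul_ne_zero (by norm_num) (det_cols_ne hM hu hu0 hw hw0)

include hcp

omit hM in
theorem exists_twelve : ∃ u : V, In12 M u ∧ u ≠ 0 := by
  obtain ⟨u, hu0, hu⟩ := exists_kernel (M := M) (g := X ^ 4 - X ^ 2 + 1) ⟨_, hcp⟩
    (cyclotomic_twelve ▸ cyclotomic.monic 12 ℤ)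
    (by rw [show (X ^ 4 - X ^ 2 + 1 : ℤ[X]).natDegree = 4 by compute_degree!]; norm_num)
  exact ⟨u, hu, hu0⟩

omit hM in
theorem exists_three : ∃ w : V, In3 M w ∧ w ≠ 0 := by
  obtain ⟨w, hw0, hw⟩ := exists_kernel (M := M) (g := X ^ 2 + X + 1)
    ⟨_, hcp.trans (mul_comm _ _)⟩ (by monicity!)
    (by rw [show (X ^ 2 + X + 1 : ℤ[X]).natDegree = 2 by compute_degree!]; norm_num)
  exact ⟨w, hw, hw0⟩

/-- No vector of the root lattice in the plane of `Φ₃` has half-norm odd. -/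
theorem no_odd {z : V} (hzQ : InQ z) (hz : In3 M z) {j : ℤ} (hj : sB z z = 48 * j) :
    ¬ Odd j := by
  rintro ⟨i, rfl⟩
  have hz0 : z ≠ 0 := fun e => by rw [e, sB_zero_left] at hj; omega
  obtain ⟨u, hu, hu0⟩ := exists_twelve hcp
  have hu' : ∀ n : ℕ, In12 M (M ^ n *ᵥ u) := by
    intro n
    induction n with
    | zero => simpa
    | succ n ih => rw [pow_succ', ← Matrix.mulVec_mulVec, In12, app_comm_M, ih, Matrix.mulVec_zero]
  have hzM : sB z (M *ᵥ z) = -(24 * (2 * i + 1)) := by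
    have := (three_values hM hz).1; omega
  have hex : ∀ x : V, InQ x → ∃ x' : V, InQ x' ∧ In3 M x' ∧
      sB x' z = sB x z ∧ sB x' (M *ᵥ z) = sB x (M *ᵥ z) ∧
      ∃ α β : ℤ, (3 * (2 * i + 1)) • x' = α • z + β • (M *ᵥ z) := by
    intro x hx
    obtain ⟨A, hA⟩ := dvd_sB hx z
    obtain ⟨B, hB⟩ := dvd_sB hx (M *ᵥ z)
    obtain ⟨t, ht⟩ : ∃ t, t = (2 * A + B) • z + (A + 2 * B) • (M *ᵥ z) := ⟨_, rfl⟩
    obtain ⟨w, hw⟩ : ∃ w, w = app M (X ^ 4 - X ^ 2 + 1) x := ⟨_, rfl⟩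
    have hw3 : In3 M w := hw ▸ mk3 hcp x
    have ht3 : In3 M t := ht ▸ (hz.smul _).add (hz.map.smul _)
    obtain ⟨d, hd⟩ : ∃ d, d = (3 * (2 * i + 1)) • (M *ᵥ w) + (2 : ℤ) • t := ⟨_, rfl⟩
    have hd3 : In3 M d := hd ▸ (hw3.map.smul _).add (ht3.smul _)
    have ew : sB (M *ᵥ w) (M *ᵥ z) = -2 * (24 * B) := by
      rw [sB_M hM, hw, sB_twelve_left hM _ hz, hB]
    have ew' : sB (M *ᵥ w) z = -2 * (24 * A) := by
      have e : z = M *ᵥ (M ^ 2 *ᵥ z) := by rw [Matrix.mulVec_mulVec, ← pow_succ', hz.cube]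
      conv_lhs => arg 2; rw [e]
      rw [sB_M hM, hw, sB_twelve_left hM _ (by rw [pow_two, ← Matrix.mulVec_mulVec]; exact hz.map.map),
        show M *ᵥ (M ^ 2 *ᵥ z) = z from e.symm, hA]
    have et : sB t z = 24 * (3 * (2 * i + 1) * A) ∧ sB t (M *ᵥ z) = 24 * (3 * (2 * i + 1) * B) := by
      constructor <;> rw [ht, sB_add_left, sB_smul_left, sB_smul_left]
      · rw [hj, sB_comm (M *ᵥ z), hzM]; ring
      · rw [sB_M hM, hj, hzM]; ring
    have hd0 : d = 0 := by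
      refine orth_zero hM hu hu0 hz hz0 fun c => ?_
      fin_cases c
      · rw [sB_comm]; simpa using orth hM hu hd3
      · rw [sB_comm]; simpa using orth hM (hu' 1) hd3
      · rw [sB_comm]; simpa using orth hM (hu' 2) hd3
      · rw [sB_comm]; simpa using orth hM (hu' 3) hd3
      · show sB d z = 0
        rw [hd, sB_add_left, sB_smul_left, sB_smul_left, ew', et.1]; ring
      · show sB d (M *ᵥ z) = 0
        rw [hd, sB_add_left, sB_smul_left, sB_smul_left, ew, et.2]; ring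
    have h3 : (3 * (2 * i + 1)) • (t + (3 * i + 1) • (M *ᵥ w)) = t := by
      have e : (3 * (2 * i + 1)) • (M *ᵥ w) = (-2 : ℤ) • t := by
        rw [hd] at hd0
        rw [eq_neg_of_add_eq_zero_left hd0, neg_smul]
      rw [smul_add, smul_comm, e, smul_smul, ← add_smul,
        show 3 * (2 * i + 1) + (3 * i + 1) * (-2 : ℤ) = 1 by ring, one_smul]
    have ht' : InQ t := ht ▸ (hzQ.smul _).add ((M_inQ hM hzQ).smul _)
    have hwQ : InQ (M *ᵥ w) := M_inQ hM (hw ▸ app_inQ hM _ hx)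
    refine ⟨t + (3 * i + 1) • (M *ᵥ w), ht'.add (hwQ.smul _), ht3.add (hw3.map.smul _), ?_, ?_,
      2 * A + B, A + 2 * B, h3.trans ht⟩
    · have := congrArg (sB · z) h3
      simp only [sB_smul_left] at this
      rw [et.1] at this
      rw [hA]
      exact mul_left_cancel₀ (a := 3 * (2 * i + 1)) (by omega) (by rw [this]; ring)
    · have := congrArg (sB · (M *ᵥ z)) h3
      simp only [sB_smul_left] at this
      rw [et.2] at this
      rw [hB]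
      exact mul_left_cancel₀ (a := 3 * (2 * i + 1)) (by omega) (by rw [this]; ring)
  choose f hfQ hf3 hfz hfMz hfspan using fun k => hex (simp6 k) (simp6_inQ k)
  have key := no_split f hfQ fun a b => by
    obtain ⟨α, β, he⟩ := hfspan a
    have h1 := congrArg (sB · (simp6 b - f b)) he
    simp only [sB_smul_left, sB_add_left] at h1
    rw [sB_comm z, sB_comm (M *ᵥ z), sB_sub_left, sB_sub_left, hfz, hfMz, sub_self, sub_self,
      mul_zero, mul_zero, add_zero] at h1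
    exact (mul_eq_zero.1 h1).resolve_left (by omega)
  rcases key with h | h
  · refine hu0 (eq_zero_of_orth fun k => ?_)
    rw [← h k, sB_comm]
    exact orth hM hu (hf3 k)
  · refine hz0 (eq_zero_of_orth fun k => ?_)
    rw [← hfz, h k, sB_zero_left]

omit hM hcp in
theorem abs_sB_le {n : ℤ} {x y : V} (hx : sB x x = n) (hy : sB y y = n) :
    -n ≤ sB x y ∧ sB x y ≤ n := by
  have h1 := sB_nonneg (x + y)
  have h2 := sB_nonneg (x - y)
  rw [sB_add_left, sB_add_right, sB_add_right, sB_comm y x] at h1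
  rw [sB_sub_left, sB_sub_right, sB_sub_right, sB_comm y x] at h2
  omega

theorem twelve_norm_le (x : V) :
    sB (app M (X ^ 4 - X ^ 2 + 1) x) (app M (X ^ 4 - X ^ 2 + 1) x) ≤ 6 * sB x x := by
  obtain ⟨w, hw⟩ : ∃ w, w = app M (X ^ 4 - X ^ 2 + 1) x := ⟨_, rfl⟩
  have hw3 : In3 M w := hw ▸ mk3 hcp x
  have h1 : sB w w = -2 * sB x (M *ᵥ w) := by
    conv_lhs => arg 1; rw [hw]
    rw [sB_twelve_left hM _ hw3]
  have e : M *ᵥ w = M ^ 5 *ᵥ x - M ^ 3 *ᵥ x + M *ᵥ x := by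
    rw [hw, ← app_comm_M, app_twelve, Matrix.mulVec_mulVec, Matrix.mulVec_mulVec, ← pow_succ,
      ← pow_succ]
  rw [e, sB_add_right, sB_sub_right] at h1
  have b1 := abs_sB_le (x := x) (y := M ^ 5 *ᵥ x) rfl (sB_pow hM 5 x x)
  have b2 := abs_sB_le (x := x) (y := M ^ 3 *ᵥ x) rfl (sB_pow hM 3 x x)
  have b3 := abs_sB_le (x := x) (y := M *ᵥ x) rfl (sB_M hM x x)
  rw [← hw]
  omega

end Cfsg.Agent.SimpleFacts.SingerCentre.Six
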